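import Mathlib
import Cfsg.Agent.CoThreeStd.OddCent
import Cfsg.Agent.CoThreeStd.OutCtx_mg
import Cfsg.Agent.Lib.CosetPartial
set_option linter.all false

-- part: CoThreeStd/Core/Cen
section
/-!
# S1750: the centraliser `C_G(t)` with its core `D` (helper122)

`Cen 𝒜 t ι D`: `D` odd, `D` commutes with `t` and `ι M`, `C_G(t)` normalises `ι M` (inducing automorphisms in
`𝒜`), and `C_G(t) ∩ C(ι M) = D⟨t⟩`. `Cen.balance`: if `t^g ∈ ⟨t⟩ ι M`, then `g` normalises `D`.
-/

set_option autoImplicit false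

namespace Cfsg.Agent.CoThreeStd.Core

variable {G M : Type*} [Group G] [Group M]

/-- The centraliser of `t` with its core `D`. -/
structure Cen (𝒜 : (M ≃* M) → Prop) (t : G) (ι : M →* G) (D : Subgroup G) : Prop where
  inj : Function.Injective ι
  tt : t * t = 1
  t_ne : t ≠ 1
  comm : ∀ m, ι m * t = t * ι m
  Dt : ∀ d ∈ D, d * t = t * d
  DM : ∀ d ∈ D, ∀ m, d * ι m = ι m * d
  odd : Odd (Nat.card D)
  act : ∀ g, g * t = t * g → ∃ τ : M ≃* M, 𝒜 τ ∧ ∀ m, g * ι m * g⁻¹ = ι (τ m)
  ker : ∀ g, g * t = t * g → (∀ m, g * ι m = ι m * g) → g ∈ D ∨ t * g ∈ D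

/-- The facts about `M` and the automorphisms in `𝒜` used for the balance. -/
structure MFacts (𝒜 : (M ≃* M) → Prop) : Prop where
  center : ∀ m : M, (∀ x, m * x = x * m) → m = 1
  sq : ∀ τ, 𝒜 τ → ∃ m : M, ∀ x, τ (τ x) = m * x * m⁻¹
  bal : ∀ τ, 𝒜 τ → (∀ x, τ (τ x) = x) → (∃ x, τ x ≠ x) → ∀ Y : Subgroup M, Odd (Nat.card Y) →
    (∀ m ∈ Y, τ m = m) → (∀ n, τ n = n → ∀ y ∈ Y, n * y * n⁻¹ ∈ Y) → Y = ⊥

/-- elements of odd groups -/
theorem odd_orderOf {D : Subgroup G} (hD : Odd (Nat.card D)) {d : G} (hd : d ∈ D) : Odd (orderOf d) := by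
  have h1 : orderOf (⟨d, hd⟩ : D) = orderOf d := Subgroup.orderOf_mk d hd
  rw [← h1]
  exact hD.of_dvd_nat (orderOf_dvd_natCard _)

/-- an element of odd order with square 1 is trivial -/
theorem eq_one_of_sq {d : G} (h : Odd (orderOf d)) (h2 : d * d = 1) : d = 1 := by
  have h3 : orderOf d ∣ 2 := orderOf_dvd_of_pow_eq_one (by rw [pow_two, h2])
  rcases (Nat.dvd_prime Nat.prime_two).1 h3 with h4 | h4
  · exact orderOf_eq_one_iff.1 h4
  · rw [h4] at h
    exact absurd h (by decide)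

/-- two involutions in the same coset of an odd subgroup `D` are `D`-conjugate -/
theorem conj_of_coset {D : Subgroup G} (hD : Odd (Nat.card D)) {x y : G} (hx : x * x = 1) (hy : y * y = 1)
    (h : x⁻¹ * y ∈ D) : ∃ d ∈ D, d * x * d⁻¹ = y := by
  have hxi : x⁻¹ = x := inv_eq_of_mul_eq_one_left hx
  have hyi : y⁻¹ = y := inv_eq_of_mul_eq_one_left hy
  rw [hxi] at h
  obtain ⟨k, hk⟩ := odd_orderOf hD h
  set z := x * y with hz
  have hzx : x * z * x⁻¹ = z⁻¹ := by
    rw [hz, mul_inv_rev, hxi, hyi, ← mul_assoc, hx, one_mul]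
  have hw : x * z ^ (k + 1) * x⁻¹ = (z ^ (k + 1))⁻¹ := by
    rw [← conj_pow, hzx, inv_pow]
  have hww : z ^ (k + 1) * z ^ (k + 1) = z := by
    rw [← pow_add, show k + 1 + (k + 1) = (2 * k + 1) + 1 by ring, pow_succ, ← hk, pow_orderOf_eq_one,
      one_mul]
  refine ⟨(z ^ (k + 1))⁻¹, D.inv_mem (D.pow_mem h _), ?_⟩
  rw [inv_inv, ← hw]
  calc x * z ^ (k + 1) * x⁻¹ * x * z ^ (k + 1) = x * (z ^ (k + 1) * z ^ (k + 1)) := by group
    _ = y := by rw [hww, hz, ← mul_assoc, hx, one_mul]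

namespace Cen

variable {𝒜 : (M ≃* M) → Prop} {t : G} {ι : M →* G} {D : Subgroup G}

theorem inv_t (h : Cen 𝒜 t ι D) : t⁻¹ = t := inv_eq_of_mul_eq_one_left h.tt

theorem t_notMem (h : Cen 𝒜 t ι D) : t ∉ D := fun ht =>
  h.t_ne (eq_one_of_sq (odd_orderOf h.odd ht) h.tt)

/-- `D ∩ ι M = 1` -/
theorem eq_one_of_mem (h : Cen 𝒜 t ι D) (F : MFacts 𝒜) {m : M} (hm : ι m ∈ D) : m = 1 := by
  apply F.center
  intro x
  apply h.inj
  rw [map_mul, map_mul]
  exact h.DM _ hm x

theorem eq_one_of_mem_t (h : Cen 𝒜 t ι D) (F : MFacts 𝒜) {m : M} (hm : t * ι m ∈ D) : False := by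
  have h1 : m = 1 := by
    apply F.center
    intro x
    apply h.inj
    rw [map_mul, map_mul]
    have h2 := h.DM _ hm x
    apply mul_left_cancel (a := t)
    calc t * (ι m * ι x) = t * ι m * ι x := by group
      _ = ι x * (t * ι m) := h2
      _ = (ι x * t) * ι m := by group
      _ = t * (ι x * ι m) := by rw [h.comm]; group
  rw [h1, map_one, mul_one] at hm
  exact h.t_notMem hm

/-- `D` is normal in `C(t)` -/
theorem conj_mem (h : Cen 𝒜 t ι D) {g d : G} (hg : g * t = t * g) (hd : d ∈ D) : g * d * g⁻¹ ∈ D := by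
  have hgi : g⁻¹ * t = t * g⁻¹ := by
    calc g⁻¹ * t = g⁻¹ * (t * g) * g⁻¹ := by group
      _ = g⁻¹ * (g * t) * g⁻¹ := by rw [hg]
      _ = t * g⁻¹ := by group
  have h1 : g * d * g⁻¹ * t = t * (g * d * g⁻¹) := by
    calc g * d * g⁻¹ * t = g * d * (g⁻¹ * t) := by group
      _ = g * (d * t) * g⁻¹ := by rw [hgi]; group
      _ = (g * t) * d * g⁻¹ := by rw [h.Dt d hd]; group
      _ = _ := by rw [hg]; group
  obtain ⟨τ, -, hτ⟩ := h.act g hg
  have h2 : ∀ m, g * d * g⁻¹ * ι m = ι m * (g * d * g⁻¹) := by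
    intro m
    obtain ⟨n, rfl⟩ := τ.surjective m
    rw [← hτ n]
    calc g * d * g⁻¹ * (g * ι n * g⁻¹) = g * (d * ι n) * g⁻¹ := by group
      _ = g * (ι n * d) * g⁻¹ := by rw [h.DM d hd]
      _ = _ := by group
  rcases h.ker _ h1 h2 with h3 | h3
  · exact h3
  · exfalso
    -- `t e ∈ D` with `e` of odd order
    have hodd : Odd (orderOf (g * d * g⁻¹)) := by
      have : orderOf (g * d * g⁻¹) = orderOf d := by
        have := MulEquiv.orderOf_eq (MulAut.conj g) d
        simpa using this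
      rw [this]
      exact odd_orderOf h.odd hd
    set e := g * d * g⁻¹ with he
    have h4 := odd_orderOf h.odd h3
    apply h.t_notMem
    have hc : Commute t e := h1.symm
    have h5 : (t * e) ^ orderOf e = t := by
      rw [hc.mul_pow, pow_orderOf_eq_one, mul_one]
      obtain ⟨k, hk⟩ := hodd
      rw [hk, pow_succ, pow_mul, pow_two, h.tt, one_pow, one_mul]
    rw [← h5]
    exact D.pow_mem h3 _

theorem le_normalizer (h : Cen 𝒜 t ι D) {g : G} (hg : g * t = t * g) :
    g ∈ Subgroup.normalizer (D : Set G) := by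
  rw [Subgroup.mem_normalizer_iff]
  intro d
  constructor
  · exact fun hd => h.conj_mem hg hd
  · intro hd
    have hgi : g⁻¹ * t = t * g⁻¹ := by
      calc g⁻¹ * t = g⁻¹ * (t * g) * g⁻¹ := by group
        _ = g⁻¹ * (g * t) * g⁻¹ := by rw [hg]
        _ = t * g⁻¹ := by group
    have := h.conj_mem hgi hd
    have e : g⁻¹ * (g * d * g⁻¹) * g⁻¹⁻¹ = d := by group
    rwa [e] at this

/-- elements of odd order of `C(t)` are in `D × ι M` -/
theorem odd_form (h : Cen 𝒜 t ι D) (F : MFacts 𝒜) {e : G} (he : e * t = t * e) (ho : Odd (orderOf e)) :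
    ∃ d ∈ D, ∃ m, e = d * ι m := by
  obtain ⟨τ, hA, hτ⟩ := h.act e he
  obtain ⟨m0, hm0⟩ := F.sq τ hA
  obtain ⟨k, hk⟩ := ho
  have h1 : ∀ x, (e * e) * ι x * (e * e)⁻¹ = ι (m0 * x * m0⁻¹) := by
    intro x
    rw [← hm0, ← hτ, ← hτ]
    group
  have h2 : ∀ (j : ℕ) (x : M), (e * e) ^ j * ι x * ((e * e) ^ j)⁻¹ = ι (m0 ^ j * x * (m0 ^ j)⁻¹) := by
    intro j
    induction j with
    | zero => intro x; simp
    | succ j ih =>
      intro x
      rw [pow_succ', pow_succ']
      calc e * e * (e * e) ^ j * ι x * (e * e * (e * e) ^ j)⁻¹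
          = e * e * ((e * e) ^ j * ι x * ((e * e) ^ j)⁻¹) * (e * e)⁻¹ := by
            rw [mul_inv_rev (e * e)]; simp only [mul_assoc]
        _ = _ := by rw [ih, h1]; congr 1; group
  have h3 : (e * e) ^ (k + 1) = e := by
    rw [← pow_two, ← pow_mul, show 2 * (k + 1) = (2 * k + 1) + 1 by ring, pow_succ, ← hk,
      pow_orderOf_eq_one, one_mul]
  set m1 := m0 ^ (k + 1) with hm1
  have h4 : ∀ x, e * ι x * e⁻¹ = ι (m1 * x * m1⁻¹) := by
    intro x
    have := h2 (k + 1) x
    rwa [h3] at this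
  have key : ∀ y, e * ι y = ι (m1 * y * m1⁻¹) * e := by
    intro y
    rw [← h4]
    group
  have h5 : ∀ x, e * ι m1⁻¹ * ι x = ι x * (e * ι m1⁻¹) := by
    intro x
    calc e * ι m1⁻¹ * ι x = e * ι (m1⁻¹ * x) := by rw [mul_assoc, ← map_mul]
      _ = ι (x * m1⁻¹) * e := by rw [key]; congr 2; group
      _ = ι x * (ι (m1 * m1⁻¹ * m1⁻¹) * e) := by
        rw [mul_inv_cancel, one_mul, ← mul_assoc, ← map_mul]
      _ = _ := by rw [← key]
  have h6 : e * ι m1⁻¹ * t = t * (e * ι m1⁻¹) := by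
    rw [mul_assoc, h.comm, ← mul_assoc, he, mul_assoc]
  rcases h.ker _ h6 h5 with h7 | h7
  · refine ⟨_, h7, m1, ?_⟩
    rw [mul_assoc, ← map_mul, inv_mul_cancel, map_one, mul_one]
  · exfalso
    set d := t * (e * ι m1⁻¹) with hd
    have e1 : e = t * (d * ι m1) := by
      rw [hd]
      have e3 : ι m1⁻¹ * ι m1 = 1 := by rw [← map_mul, inv_mul_cancel, map_one]
      calc e = (t * t) * e * (ι m1⁻¹ * ι m1) := by rw [h.tt, e3, one_mul, mul_one]
        _ = _ := by group
    have c1 : Commute t (d * ι m1) := (show Commute d t from h.Dt d h7).symm.mul_right (show Commute (ι m1) t from h.comm m1).symm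
    have c2 : Commute d (ι m1) := h.DM d h7 m1
    have e2 : e ^ (2 * k + 1) = 1 := by rw [← hk, pow_orderOf_eq_one]
    rw [e1, c1.mul_pow, c2.mul_pow, ← map_pow, pow_succ t, pow_mul, pow_two, h.tt, one_pow, one_mul] at e2
    apply h.eq_one_of_mem_t F (m := m1 ^ (2 * k + 1))
    have e3 : t * ι (m1 ^ (2 * k + 1)) = (d ^ (2 * k + 1))⁻¹ := by
      rw [eq_inv_iff_mul_eq_one]
      have c3 : ι (m1 ^ (2 * k + 1)) * d ^ (2 * k + 1) = d ^ (2 * k + 1) * ι (m1 ^ (2 * k + 1)) :=
        (h.DM _ (D.pow_mem h7 _) _).symm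
      rw [mul_assoc, c3]
      exact e2
    rw [e3]
    exact D.inv_mem (D.pow_mem h7 _)

/-- the key step of the balance -/
theorem le_of_comm [Finite M] (h : Cen 𝒜 t ι D) (F : MFacts 𝒜) {u : G} (hu : u * t = t * u) (huu : u * u = 1)
    (hne : ∃ m, u * ι m ≠ ι m * u) (E : Subgroup G) (hE : Odd (Nat.card E))
    (hEt : ∀ e ∈ E, e * t = t * e) (hEu : ∀ e ∈ E, e * u = u * e)
    (hn : ∀ g, g * t = t * g → g * u = u * g → ∀ e ∈ E, g * e * g⁻¹ ∈ E) : E ≤ D := by
  obtain ⟨τ, hA, hτ⟩ := h.act u hu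
  let Y : Subgroup M :=
    { carrier := {m | ∃ e ∈ E, ∃ d ∈ D, e = d * ι m}
      one_mem' := ⟨1, E.one_mem, 1, D.one_mem, by rw [map_one, mul_one]⟩
      mul_mem' := by
        rintro a b ⟨e, he, d, hd, rfl⟩ ⟨e', he', d', hd', rfl⟩
        refine ⟨_, E.mul_mem he he', d * d', D.mul_mem hd hd', ?_⟩
        rw [map_mul]
        calc d * ι a * (d' * ι b) = d * (ι a * d') * ι b := by group
          _ = d * (d' * ι a) * ι b := by rw [h.DM d' hd']
          _ = _ := by group
      inv_mem' := by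
        rintro a ⟨e, he, d, hd, rfl⟩
        refine ⟨_, E.inv_mem he, d⁻¹, D.inv_mem hd, ?_⟩
        rw [mul_inv_rev, map_inv, ← map_inv]
        exact (h.DM _ (D.inv_mem hd) _).symm }
  have hY : ∀ m, m ∈ Y ↔ ∃ e ∈ E, ∃ d ∈ D, e = d * ι m := fun m => Iff.rfl
  have hbot : Y = ⊥ := by
    apply F.bal τ hA
    · intro x
      apply h.inj
      rw [← hτ, ← hτ]
      calc u * (u * ι x * u⁻¹) * u⁻¹ = (u * u) * ι x * (u * u)⁻¹ := by group
        _ = ι x := by rw [huu]; group
    · obtain ⟨m, hm⟩ := hne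
      refine ⟨m, fun h1 => hm ?_⟩
      have := hτ m
      rw [h1] at this
      calc u * ι m = u * ι m * u⁻¹ * u := by group
        _ = _ := by rw [this]
    · -- `Y` is odd
      by_contra hev
      rw [Nat.not_odd_iff_even, even_iff_two_dvd] at hev
      have : Fact (Nat.Prime 2) := ⟨Nat.prime_two⟩
      obtain ⟨⟨m, hm⟩, hm2⟩ := exists_prime_orderOf_dvd_card' 2 hev
      rw [Subgroup.orderOf_mk] at hm2
      obtain ⟨e, he, d, hd, hed⟩ := (hY m).1 hm
      obtain ⟨k, hk⟩ := odd_orderOf hE he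
      have e2 : e ^ (2 * k + 1) = 1 := by rw [← hk, pow_orderOf_eq_one]
      have c2 : Commute d (ι m) := h.DM d hd m
      have hm3 : m ^ 2 = 1 := by rw [← hm2]; exact pow_orderOf_eq_one m
      rw [hed, c2.mul_pow, ← map_pow, pow_succ m, pow_mul, hm3, one_pow, one_mul] at e2
      have h3 : m = 1 := by
        apply h.eq_one_of_mem F
        have : ι m = (d ^ (2 * k + 1))⁻¹ := (inv_eq_of_mul_eq_one_right e2).symm
        rw [this]
        exact D.inv_mem (D.pow_mem hd _)
      rw [h3, orderOf_one] at hm2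
      exact absurd hm2 (by norm_num)
    · intro m hm
      obtain ⟨e, he, d, hd, hed⟩ := (hY m).1 hm
      have h1 := hEu e he
      have h2 : u * d * u⁻¹ * ι (τ m) = d * ι m := by
        rw [← hτ, ← hed]
        calc u * d * u⁻¹ * (u * ι m * u⁻¹) = u * (d * ι m) * u⁻¹ := by group
          _ = (u * e) * u⁻¹ := by rw [← hed]
          _ = (e * u) * u⁻¹ := by rw [h1]
          _ = e := by group
      have h3 : ι (τ m * m⁻¹) ∈ D := by
        have : ι (τ m * m⁻¹) = (u * d * u⁻¹)⁻¹ * d := by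
          rw [map_mul, map_inv, eq_inv_mul_iff_mul_eq, ← mul_assoc, h2, mul_inv_cancel_right]
        rw [this]
        exact D.mul_mem (D.inv_mem (h.conj_mem hu hd)) hd
      exact mul_inv_eq_one.1 (h.eq_one_of_mem F h3)
    · intro n hn' y hy
      obtain ⟨e, he, d, hd, hed⟩ := (hY y).1 hy
      have h1 : ι n * u = u * ι n := by
        have := hτ n
        rw [hn'] at this
        calc ι n * u = (u * ι n * u⁻¹) * u := by rw [this]
          _ = _ := by group
      refine ⟨_, hn (ι n) (h.comm n) h1 e he, d, hd, ?_⟩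
      rw [hed]
      simp only [map_mul, map_inv]
      calc ι n * (d * ι y) * (ι n)⁻¹ = (ι n * d) * ι y * (ι n)⁻¹ := by group
        _ = (d * ι n) * ι y * (ι n)⁻¹ := by rw [h.DM d hd]
        _ = _ := by group
  intro e he
  obtain ⟨d, hd, m, hed⟩ := h.odd_form F (hEt e he) (odd_orderOf hE he)
  have hm : m ∈ Y := ⟨e, he, d, hd, hed⟩
  rw [hbot, Subgroup.mem_bot] at hm
  rw [hed, hm, map_one, mul_one]
  exact hd

/-- **Balance**: if `t^g ∈ ⟨t⟩ ι M` then `g` normalises `D`. -/
theorem balance [Finite G] (h : Cen 𝒜 t ι D) (F : MFacts 𝒜) {g : G}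
    (hg : ∃ m, g * t * g⁻¹ = ι m ∨ g * t * g⁻¹ = t * ι m) : g ∈ Subgroup.normalizer (D : Set G) := by
  have hfM : Finite M := Finite.of_injective ι h.inj
  set s := g * t * g⁻¹ with hs
  have hst : s * t = t * s := by
    obtain ⟨m, h1 | h1⟩ := hg
    · rw [h1]; exact h.comm m
    · rw [h1, mul_assoc, h.comm]
  have hDs : ∀ d ∈ D, d * s = s * d := by
    intro d hd
    obtain ⟨m, h1 | h1⟩ := hg
    · rw [h1]; exact h.DM d hd m
    · rw [h1]
      calc d * (t * ι m) = (d * t) * ι m := by group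
        _ = t * (d * ι m) := by rw [h.Dt d hd]; group
        _ = _ := by rw [h.DM d hd]; group
  set u := g⁻¹ * t * g with hu
  set E := D.map (MulAut.conj g⁻¹).toMonoidHom with hE
  have hEmem : ∀ e, e ∈ E ↔ g * e * g⁻¹ ∈ D := by
    intro e
    constructor
    · rintro ⟨d, hd, rfl⟩
      show g * (g⁻¹ * d * g⁻¹⁻¹) * g⁻¹ ∈ D
      have : g * (g⁻¹ * d * g⁻¹⁻¹) * g⁻¹ = d := by group
      rwa [this]
    · intro hd
      refine ⟨_, hd, ?_⟩
      show g⁻¹ * (g * e * g⁻¹) * g⁻¹⁻¹ = e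
      group
  have hcard : Nat.card E = Nat.card D := Subgroup.card_map_of_injective (MulAut.conj g⁻¹).injective
  -- `u` centralises `t`
  have hut : u * t = t * u := by
    calc u * t = g⁻¹ * (t * s) * g := by rw [hu, hs]; group
      _ = g⁻¹ * (s * t) * g := by rw [hst]
      _ = t * u := by rw [hu, hs]; group
  have huu : u * u = 1 := by
    calc u * u = g⁻¹ * (t * t) * g := by rw [hu]; group
      _ = 1 := by rw [h.tt]; group
  by_cases hne : ∃ m, u * ι m ≠ ι m * u
  · have hle : E ≤ D := by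
      apply h.le_of_comm F hut huu hne E
      · rw [hcard]; exact h.odd
      · intro e he
        have h1 := hDs _ ((hEmem e).1 he)
        calc e * t = g⁻¹ * ((g * e * g⁻¹) * s) * g := by rw [hs]; group
          _ = g⁻¹ * (s * (g * e * g⁻¹)) * g := by rw [h1]
          _ = t * e := by rw [hs]; group
      · intro e he
        have h1 := h.Dt _ ((hEmem e).1 he)
        calc e * u = g⁻¹ * ((g * e * g⁻¹) * t) * g := by rw [hu]; group
          _ = g⁻¹ * (t * (g * e * g⁻¹)) * g := by rw [h1]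
          _ = u * e := by rw [hu]; group
      · intro k hkt hku e he
        rw [hEmem] at he ⊢
        have h1 : (g * k * g⁻¹) * t = t * (g * k * g⁻¹) := by
          calc (g * k * g⁻¹) * t = g * (k * u) * g⁻¹ := by rw [hu]; group
            _ = g * (u * k) * g⁻¹ := by rw [hku]
            _ = _ := by rw [hu]; group
        have h2 := h.conj_mem h1 he
        have e1 : g * k * g⁻¹ * (g * e * g⁻¹) * (g * k * g⁻¹)⁻¹ = g * (k * e * k⁻¹) * g⁻¹ := by group
        rwa [e1] at h2
    have hfD : Finite D := inferInstance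
    have heq : E = D := Subgroup.eq_of_le_of_card_ge hle (by rw [hcard])
    rw [Subgroup.mem_normalizer_iff]
    intro d
    rw [← hEmem, heq]
  · push Not at hne
    -- `u ∈ {1, t}`
    have h1 : u = t := by
      rcases h.ker u hut hne with h2 | h2
      · exfalso
        have := eq_one_of_sq (odd_orderOf h.odd h2) huu
        apply h.t_ne
        calc t = g * u * g⁻¹ := by rw [hu]; group
          _ = 1 := by rw [this]; group
      · have h3 : (t * u) * (t * u) = 1 := by
          calc (t * u) * (t * u) = t * (u * t) * u := by group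
            _ = (t * t) * (u * u) := by rw [hut]; group
            _ = 1 := by rw [h.tt, huu, one_mul]
        have h4 := eq_one_of_sq (odd_orderOf h.odd h2) h3
        calc u = (t * t) * u := by rw [h.tt, one_mul]
          _ = t * (t * u) := by group
          _ = t := by rw [h4, mul_one]
    apply h.le_normalizer
    calc g * t = g * u := by rw [h1]
      _ = t * g := by rw [hu]; group

end Cen

end Cfsg.Agent.CoThreeStd.Core
end

-- part: CoThreeStd/Core/MF
section
/-!
# S1750: `MFacts` for `M₁₂`, inner and outer case (helper122)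
-/

set_option autoImplicit false

namespace Cfsg.Agent.CoThreeStd.Core

open Cfsg.Agent.CoThreeStd.MTwelve Cfsg.Agent.CoThreeStd.OutAut

/-- inner automorphisms of `M₁₂` -/
def Ain (τ : H ≃* H) : Prop := ∃ m, ∀ x, τ x = m * x * m⁻¹

/-- inner automorphisms of `M₁₂` and those in the coset of `alpha` -/
def Aall (τ : H ≃* H) : Prop := Ain τ ∨ ∃ m, ∀ x, τ x = m * alpha x * m⁻¹

theorem Ain.all {τ : H ≃* H} (h : Ain τ) : Aall τ := Or.inl h

theorem mfacts_all : MFacts Aall where
  center := fun m h => Gamma.center_trivial m h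
  sq := by
    rintro τ (⟨m, h⟩ | ⟨m, h⟩)
    · exact ⟨m * m, fun x => by rw [h, h]; group⟩
    · refine ⟨m * alpha m, fun x => ?_⟩
      rw [h, h, map_mul, map_mul, map_inv, alpha_alpha]
      group
  bal := by
    rintro τ (⟨m, h⟩ | ⟨m, h⟩) h2 hne Y hY hfix hn
    · have hmm : m * m = 1 := by
        apply Gamma.center_trivial
        intro x
        have := h2 x
        rw [h, h] at this
        calc m * m * x = m * (m * x * m⁻¹) * m⁻¹ * (m * m) := by group
          _ = _ := by rw [this]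
      have hm1 : m ≠ 1 := by
        rintro rfl
        obtain ⟨x, hx⟩ := hne
        apply hx
        rw [h]; group
      apply OddCent.odd_cent hmm hm1 Y hY
      · intro x hx
        have := hfix x hx
        rw [h] at this
        calc x * m = (m * x * m⁻¹) * m := by rw [this]
          _ = m * x := by group
      · intro g hg x hx
        apply hn g _ x hx
        rw [h, ← hg]
        group
    · have hmm : alpha m * m = 1 := by
        have h3 : m * alpha m = 1 := by
          apply Gamma.center_trivial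
          intro x
          have := h2 x
          rw [h, h, map_mul, map_mul, map_inv, alpha_alpha] at this
          calc m * alpha m * x = m * (alpha m * x * (alpha m)⁻¹) * m⁻¹ * (m * alpha m) := by group
            _ = _ := by rw [this]
        have h4 : alpha m = m⁻¹ := (inv_eq_of_mul_eq_one_right h3).symm
        rw [h4, inv_mul_cancel]
      have hm' : alpha m⁻¹ * m⁻¹ = 1 := by
        have : m * alpha m = 1 := by
          rw [mul_eq_one_iff_eq_inv] at hmm ⊢
          rw [hmm, inv_inv]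
        rw [map_inv, ← mul_inv_rev, this, inv_one]
      apply OddCent.odd_outer hm' Y hY
      · intro x hx
        have := hfix x hx
        rw [h] at this
        rwa [inv_inv]
      · intro g hg x hx
        apply hn g _ x hx
        rw [h]
        rwa [inv_inv] at hg

theorem mfacts_in : MFacts Ain where
  center := mfacts_all.center
  sq := fun τ h => mfacts_all.sq τ h.all
  bal := fun τ h => mfacts_all.bal τ h.all

end Cfsg.Agent.CoThreeStd.Core
end

-- part: CoThreeStd/GammaSys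
section
/-!
# S1750, pattern γ, the involutions `L e` (helper781)

`L (y^m) = g^m` for `g` as in `exists_g`. The pure relation: `L e₁ · L e₂ = L (e₁ e₂)` when `(e₁, e₂)` is conjugate
to `(y, s)`.
-/

set_option autoImplicit false

namespace Cfsg.Agent.CoThreeStd.Gamma

open Cfsg.Agent.CoThreeStd.MTwelve Cfsg.Agent.CoThreeStd.Fusion Cfsg.Agent.SporRec.Co3

variable {G : Type*} [Group G] {t : G} {f : H →* G} {L : H → G}

/-- The involutions `L e`, `e ∈ 2A`. -/
structure Sys (t : G) (f : H →* G) (L : H → G) : Prop where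
  conj : ∀ e m, (f m)⁻¹ * L e * f m = L (m⁻¹ * e * m)
  sq : ∀ e, L e * L e = 1
  tt : ∀ e, (∃ m, m⁻¹ * y * m = e) → t * L e * t = L e * f e

theorem exists_L (c : Cx t f) {g : G} (h1 : g * g = 1) (h2 : g * t * g⁻¹ = t * f y)
    (h3 : ∀ m, m * y = y * m → f m * g = g * f m) : ∃ L, Sys t f L := by
  classical
  let L : H → G := fun e => if h : ∃ m, m⁻¹ * y * m = e then (f h.choose)⁻¹ * g * f h.choose else 1
  have hL : ∀ e m, m⁻¹ * y * m = e → L e = (f m)⁻¹ * g * f m := by
    intro e m hm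
    have h : ∃ m, m⁻¹ * y * m = e := ⟨m, hm⟩
    have e1 : L e = (f h.choose)⁻¹ * g * f h.choose := dif_pos h
    rw [e1]
    have h4 : h.choose⁻¹ * y * h.choose = m⁻¹ * y * m := h.choose_spec.trans hm.symm
    set n := h.choose
    have h5 : (m * n⁻¹) * y = y * (m * n⁻¹) := by
      calc (m * n⁻¹) * y = m * (n⁻¹ * y * n) * n⁻¹ := by group
        _ = m * (m⁻¹ * y * m) * n⁻¹ := by rw [h4]
        _ = _ := by group
    have h6 := h3 _ h5
    rw [map_mul, map_inv] at h6
    calc (f n)⁻¹ * g * f n = (f m)⁻¹ * (f m * (f n)⁻¹ * g) * f n := by group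
      _ = (f m)⁻¹ * (g * (f m * (f n)⁻¹)) * f n := by rw [h6]
      _ = _ := by group
  have hL' : ∀ e, ¬ (∃ m, m⁻¹ * y * m = e) → L e = 1 := fun e h => dif_neg h
  have hgt : g * t * g = t * f y := by
    have e : g⁻¹ = g := inv_eq_of_mul_eq_one_left h1
    rw [← h2, e]
  refine ⟨L, ⟨?_, ?_, ?_⟩⟩
  · intro e m
    by_cases h : ∃ m, m⁻¹ * y * m = e
    · obtain ⟨n, rfl⟩ := h
      rw [hL _ n rfl, hL (m⁻¹ * (n⁻¹ * y * n) * m) (n * m) (by group), map_mul]
      group
    · have h' : ¬ ∃ n, n⁻¹ * y * n = m⁻¹ * e * m := by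
        rintro ⟨n, hn⟩
        apply h
        refine ⟨n * m⁻¹, ?_⟩
        calc (n * m⁻¹)⁻¹ * y * (n * m⁻¹) = m * (n⁻¹ * y * n) * m⁻¹ := by group
          _ = e := by rw [hn]; group
      rw [hL' _ h, hL' _ h']
      group
  · intro e
    by_cases h : ∃ m, m⁻¹ * y * m = e
    · obtain ⟨n, rfl⟩ := h
      rw [hL _ n rfl]
      calc (f n)⁻¹ * g * f n * ((f n)⁻¹ * g * f n) = (f n)⁻¹ * (g * g) * f n := by group
        _ = 1 := by rw [h1]; group
    · rw [hL' _ h, one_mul]
  · rintro e ⟨n, rfl⟩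
    rw [hL _ n rfl, map_mul, map_mul, map_inv]
    have h4 : t * (f n)⁻¹ = (f n)⁻¹ * t := by rw [← map_inv]; exact (c.comm _).symm
    have h5 : t * g * t = g * f y := by
      calc t * g * t = (g * g) * (t * g * t) := by rw [h1, one_mul]
        _ = g * (g * t * g) * t := by group
        _ = g * (t * f y) * t := by rw [hgt]
        _ = g * t * (f y * t) := by group
        _ = g * (t * t) * f y := by rw [c.comm]; group
        _ = _ := by rw [c.tt, mul_one]
    calc t * ((f n)⁻¹ * g * f n) * t = (t * (f n)⁻¹) * g * (f n * t) := by group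
      _ = (f n)⁻¹ * (t * g * t) * f n := by rw [h4, c.comm]; group
      _ = (f n)⁻¹ * (g * f y) * f n := by rw [h5]
      _ = _ := by group

namespace Sys

theorem comm (S : Sys t f L) {e m : H} (h : m * e = e * m) : f m * L e = L e * f m := by
  have h1 := S.conj e m
  have h2 : m⁻¹ * e * m = e := by rw [mul_assoc, ← h]; group
  rw [h2] at h1
  calc f m * L e = f m * ((f m)⁻¹ * L e * f m) := by rw [h1]
    _ = _ := by group

theorem conj_wd (S : Sys t f L) (x m x' : List ℕ) (h : eqW (cj x m) x' = true) :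
    (f (wd m))⁻¹ * L (wd x) * f (wd m) = L (wd x') := by
  rw [S.conj, ← wd_cj, wd_eq h]

theorem comm_wd (S : Sys t f L) (x m : List ℕ) (h : eqW (m ++ x) (x ++ m) = true) :
    Commute (f (wd m)) (L (wd x)) := by
  apply S.comm
  rw [← wd_append, wd_eq h, wd_append]

theorem t_wd (S : Sys t f L) (x m : List ℕ) (h : eqW (cj [0] m) x = true) :
    t * L (wd x) * t = L (wd x) * f (wd x) := by
  apply S.tt
  exact ⟨wd m, by rw [← wd_y, ← wd_cj, wd_eq h]⟩

end Sys

/-- two elements of `2A` -/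
theorem sigma_cases : ∀ σ : P5, σ * Equiv.swap 3 4 = Equiv.swap 3 4 * σ →
    σ * (Equiv.swap 0 1 * Equiv.swap 1 2) = (Equiv.swap 0 1 * Equiv.swap 1 2) * σ →
    σ * (Equiv.swap 0 1 * Equiv.swap 3 4) = (Equiv.swap 0 1 * Equiv.swap 3 4) * σ →
    σ = 1 ∨ σ = Equiv.swap 3 4 := by
  decide +kernel

/-- The product `u = L y · L s · L (ys)`. -/
theorem pure (c : Cx t f) (S : Sys t f L) :
    L y * L s * L (y * s) = 1 ∨ L y * L s * L (y * s) = t * f s := by
  set u := L y * L s * L (y * s) with hu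
  have ety : t * L y * t = L y * f y := S.tt _ ⟨1, by group⟩
  have ets : t * L s * t = L s * f s := S.tt _ ⟨wd wdD, d_y⟩
  have etys : t * L (y * s) * t = L (y * s) * f (y * s) := by
    apply S.tt
    refine ⟨wd wdD * wd wdD, ?_⟩
    calc (wd wdD * wd wdD)⁻¹ * y * (wd wdD * wd wdD) = (wd wdD)⁻¹ * ((wd wdD)⁻¹ * y * wd wdD) * wd wdD := by group
      _ = _ := by rw [d_y, d_s]
  have tt := c.tt
  have hyy : f y * f y = 1 := by rw [← map_mul, y_sq, map_one]
  have hss : f s * f s = 1 := by rw [← map_mul, s_sq, map_one]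
  -- commutation of `f m` with the three
  have hcm : ∀ m : H, m * y = y * m → m * s = s * m → Commute (f m) u := by
    intro m h1 h2
    have h3 : m * (y * s) = (y * s) * m := by rw [← mul_assoc, h1, mul_assoc, h2, mul_assoc]
    have e1 : Commute (f m) (L y) := S.comm h1
    have e2 : Commute (f m) (L s) := S.comm h2
    have e3 : Commute (f m) (L (y * s)) := S.comm h3
    exact (e1.mul_right e2).mul_right e3
  have hys : y * s = s * y := ys_comm
  have cyy : Commute (f y) (L y) := S.comm rfl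
  have cys : Commute (f y) (L s) := S.comm hys
  have csy : Commute (f s) (L y) := S.comm hys.symm
  have cyys : Commute (f y) (L (y * s)) := S.comm (by rw [mul_assoc y s y, ← hys])
  have csys : Commute (f s) (L (y * s)) := S.comm (by rw [← mul_assoc, ← hys])
  have hut : u * t = t * u := by
    have h1 : t * u * t = u := by
      have e1 : Commute (f s) (L (y * s) * f (y * s)) := by
        apply csys.mul_right
        show f s * f (y * s) = f (y * s) * f s
        rw [← map_mul, ← map_mul, ← mul_assoc, ← hys]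
      calc t * u * t = (t * L y * t) * (t * L s * t) * (t * L (y * s) * t) := by
            have : ∀ a b e : G, (t * a * t) * (t * b * t) * (t * e * t) = t * (a * (t * t) * b * (t * t) * e) * t := by
              intros; group
            rw [this, tt, hu]; group
        _ = L y * (f y * L s) * f s * L (y * s) * f (y * s) := by rw [ety, ets, etys]; group
        _ = L y * L s * f y * (f s * (L (y * s) * f (y * s))) := by rw [cys.eq]; group
        _ = L y * L s * (f y * L (y * s)) * f (y * s) * f s := by rw [e1.eq]; group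
        _ = u * (f (y * (y * s) * s)) := by rw [cyys.eq, hu]; simp only [map_mul, mul_assoc]
        _ = u := by
          have : y * (y * s) * s = 1 := by rw [← mul_assoc, y_sq, one_mul, s_sq]
          rw [this, map_one, mul_one]
    calc u * t = t * t * (u * t) := by rw [tt, one_mul]
      _ = t * (t * u * t) := by group
      _ = _ := by rw [h1]
  have huy : u * f y = f y * u := (hcm y rfl hys).eq.symm
  have hus : f s * u = u * f s := (hcm s hys.symm rfl).eq
  obtain ⟨σ, v, hv, hσ⟩ := decomp2 c hut huy (τ := Equiv.swap 3 4) (Equiv.Perm.sign_swap (by decide))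
    (by rw [w_s]; exact hus.symm)
  -- commutation of `σ`
  have hστ : ∀ τ : P5, Commute (f (w τ)) u → σ * τ = τ * σ := by
    intro τ hτ
    have h4 := hτ.eq
    rw [hσ] at h4
    have h5 : v * f (w (τ * σ)) = v * f (w (σ * τ)) := by
      rw [map_mul, map_mul, map_mul, map_mul, ← mul_assoc, inV_comm_w c hv, mul_assoc, h4, mul_assoc]
    exact (w_injective (c.inj (mul_left_cancel h5))).symm
  have hwc : ∀ τ : P5, τ * Equiv.swap 3 4 = Equiv.swap 3 4 * τ → Commute (f (w τ)) u := by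
    intro τ h1
    apply hcm _ (y_comm τ).symm
    rw [← w_s, ← map_mul, h1, map_mul]
  have hσ2 := sigma_cases σ (hστ _ (hwc _ rfl)) (hστ _ (hwc _ (by decide +kernel)))
    (hστ _ (hwc _ (by decide +kernel)))
  have hu2 : ∃ n : List ℕ, (n = [] ∨ n = [0] ∨ n = [4] ∨ n = [0, 4]) ∧ (u = f (wd n) ∨ u = t * f (wd n)) := by
    rcases inV_cases c hv with h5 | h5 | h5 | h5 <;> rcases hσ2 with h6 | h6
    · exact ⟨[], by simp, Or.inl (by rw [hσ, h5, h6, wd_nil, map_one, one_mul])⟩
    · exact ⟨[4], by simp, Or.inl (by rw [hσ, h5, h6, wd_s, w_s, one_mul])⟩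
    · exact ⟨[], by simp, Or.inr (by rw [hσ, h5, h6, wd_nil, map_one])⟩
    · exact ⟨[4], by simp, Or.inr (by rw [hσ, h5, h6, wd_s, w_s])⟩
    · exact ⟨[0], by simp, Or.inl (by rw [hσ, h5, h6, wd_y, map_one, map_one, mul_one])⟩
    · exact ⟨[0, 4], by simp, Or.inl (by rw [hσ, h5, h6, wd_cons, wd_s, w_s, map_mul]; rfl)⟩
    · exact ⟨[0], by simp, Or.inr (by rw [hσ, h5, h6, wd_y, map_one, map_one, mul_one])⟩
    · exact ⟨[0, 4], by simp, Or.inr (by rw [hσ, h5, h6, wd_cons, wd_s, w_s, map_mul]; rw [mul_assoc]; rfl)⟩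
  -- the relation `L y · u · L y = u ^ d`
  have hd : (f (wd wdD))⁻¹ * u * f (wd wdD) = L y * u * L y := by
    have e1 : (f (wd wdD))⁻¹ * L y * f (wd wdD) = L s := by rw [S.conj, d_y]
    have e2 : (f (wd wdD))⁻¹ * L s * f (wd wdD) = L (y * s) := by rw [S.conj, d_s]
    have e3 : (f (wd wdD))⁻¹ * L (y * s) * f (wd wdD) = L y := by rw [S.conj, d_ys]
    calc (f (wd wdD))⁻¹ * u * f (wd wdD) = ((f (wd wdD))⁻¹ * L y * f (wd wdD)) *
          ((f (wd wdD))⁻¹ * L s * f (wd wdD)) * ((f (wd wdD))⁻¹ * L (y * s) * f (wd wdD)) := by rw [hu]; group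
      _ = L s * L (y * s) * L y := by rw [e1, e2, e3]
      _ = (L y * L y) * L s * L (y * s) * L y := by rw [S.sq, one_mul]
      _ = _ := by rw [hu]; group
  have hLt : L y * t * L y = t * f y := by
    calc L y * t * L y = L y * (t * L y * t) * t⁻¹ := by group
      _ = (L y * L y) * f y * t⁻¹ := by rw [ety]; group
      _ = f y * t := by rw [S.sq, one_mul, c.inv_t]
      _ = _ := c.comm y
  have hLn : ∀ n : H, n * y = y * n → L y * f n * L y = f n := by
    intro n hn
    have e1 : f n * L y = L y * f n := S.comm hn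
    rw [mul_assoc, e1, ← mul_assoc, S.sq, one_mul]
  have hn0 : ∀ n : List ℕ, (n = [] ∨ n = [0] ∨ n = [4] ∨ n = [0, 4]) → wd n * y = y * wd n := by
    intro n hn
    rw [← wd_y, ← wd_append, ← wd_append]
    apply wd_eq
    rcases hn with rfl | rfl | rfl | rfl <;> decide +kernel
  have hft : (f (wd wdD))⁻¹ * t = t * (f (wd wdD))⁻¹ := by rw [← map_inv]; exact c.comm _
  have key0 : ∀ n : List ℕ, (n = [] ∨ n = [0] ∨ n = [4] ∨ n = [0, 4]) → u = f (wd n) → wd (cj n wdD) = wd n := by
    intro n hn h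
    rw [h, hLn _ (hn0 n hn)] at hd
    apply c.inj
    rw [wd_cj, map_mul, map_mul, map_inv]
    exact hd
  have key1 : ∀ n : List ℕ, (n = [] ∨ n = [0] ∨ n = [4] ∨ n = [0, 4]) → u = t * f (wd n) →
      wd (cj n wdD) = wd ([0] ++ n) := by
    intro n hn h
    have e1 : (f (wd wdD))⁻¹ * (t * f (wd n)) * f (wd wdD) = t * f (wd (cj n wdD)) := by
      rw [wd_cj, map_mul, map_mul, map_inv]
      calc (f (wd wdD))⁻¹ * (t * f (wd n)) * f (wd wdD) = ((f (wd wdD))⁻¹ * t) * f (wd n) * f (wd wdD) := by group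
        _ = _ := by rw [hft]; group
    have e2 : L y * (t * f (wd n)) * L y = t * f (wd ([0] ++ n)) := by
      have e3 : f (wd n) * L y = L y * f (wd n) := S.comm (hn0 n hn)
      calc L y * (t * f (wd n)) * L y = L y * t * (f (wd n) * L y) := by group
        _ = (L y * t * L y) * f (wd n) := by rw [e3]; group
        _ = _ := by rw [hLt, wd_append, wd_y, map_mul]; group
    rw [h, e1, e2] at hd
    exact c.inj (mul_left_cancel hd)
  obtain ⟨n, hn, h⟩ := hu2
  rcases h with h | h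
  · left
    have h1 := eqW_of_wd (key0 n hn h)
    rcases hn with rfl | rfl | rfl | rfl
    · rw [h, wd_nil, map_one]
    · exact absurd h1 (by decide +kernel)
    · exact absurd h1 (by decide +kernel)
    · exact absurd h1 (by decide +kernel)
  · right
    have h1 := eqW_of_wd (key1 n hn h)
    rcases hn with rfl | rfl | rfl | rfl
    · exact absurd h1 (by decide +kernel)
    · exact absurd h1 (by decide +kernel)
    · rw [h, wd_s]
    · exact absurd h1 (by decide +kernel)

end Cfsg.Agent.CoThreeStd.Gamma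
end

-- part: CoThreeStd/GammaPure
section
/-!
# S1750, pattern γ, the pure relation (helper781)
-/

set_option autoImplicit false

namespace Cfsg.Agent.CoThreeStd.Gamma

open Cfsg.Agent.CoThreeStd.MTwelve Cfsg.Agent.CoThreeStd.Fusion Cfsg.Agent.SporRec.Co3

variable {G : Type*} [Group G] {t : G} {f : H →* G} {L : H → G}

/-- `F l` is the element of `f H` given by the word `l` -/
def F (f : H →* G) (l : List ℕ) : G := f (wd l)

/-- `Lw l` is the involution attached to the word `l` -/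
def Lw (L : H → G) (l : List ℕ) : G := L (wd l)

theorem F_append (l l' : List ℕ) : F f (l ++ l') = F f l * F f l' := by rw [F, F, F, wd_append, map_mul]
theorem F_nil : F f [] = 1 := by rw [F, wd_nil, map_one]
theorem F_eq {l l' : List ℕ} (h : eqW l l' = true) : F f l = F f l' := by rw [F, F, wd_eq h]
theorem F_cons (i : ℕ) (l : List ℕ) : F f (i :: l) = F f [i] * F f l := by
  rw [← F_append]; rfl
theorem F_comm {l l' : List ℕ} (h : eqW (l ++ l') (l' ++ l) = true) : Commute (F f l) (F f l') := by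
  show F f l * F f l' = F f l' * F f l
  rw [← F_append, F_eq h, F_append]
theorem F_inj (c : Cx t f) {l l' : List ℕ} (h : F f l = F f l') : eqW l l' = true :=
  eqW_of_wd (c.inj h)
theorem F_sq {l : List ℕ} (h : eqW (l ++ l) [] = true) : F f l * F f l = 1 := by
  rw [← F_append, F_eq h, F_nil]

theorem F_t (c : Cx t f) (l : List ℕ) : Commute t (F f l) := (c.comm _).symm

namespace Sys

theorem cjw (S : Sys t f L) (m : List ℕ) {x x' : List ℕ} (h : eqW (cj x m) x' = true) :
    (F f m)⁻¹ * Lw L x * F f m = Lw L x' := S.conj_wd x m x' h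

theorem cmw (S : Sys t f L) (x m : List ℕ) (h : eqW (m ++ x) (x ++ m) = true) :
    Commute (F f m) (Lw L x) := S.comm_wd x m h

theorem tw (S : Sys t f L) (x m : List ℕ) (h : eqW (cj [0] m) x = true) :
    t * Lw L x * t = Lw L x * F f x := S.t_wd x m h

theorem sqw (S : Sys t f L) (x : List ℕ) : Lw L x * Lw L x = 1 := S.sq _

theorem eqw {x x' : List ℕ} (h : eqW x x' = true) : Lw L x = Lw L x' := by rw [Lw, Lw, wd_eq h]

end Sys

/-- the elements of order 4 in the bad case -/
def X (t : G) (L : H → G) (l : List ℕ) : G := Lw L l * t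

theorem X_sq (c : Cx t f) (S : Sys t f L) (l m : List ℕ) (h : eqW (cj [0] m) l = true) :
    X t L l * X t L l = F f l := by
  have h1 := S.tw l m h
  calc X t L l * X t L l = Lw L l * (t * Lw L l * t) := by rw [X]; group
    _ = (Lw L l * Lw L l) * F f l := by rw [h1]; group
    _ = F f l := by rw [S.sqw, one_mul]

theorem X_rel (c : Cx t f) (S : Sys t f L) (hb : L y * L s * L (y * s) = t * f s) (m l1 l2 l3 m1 m2 m3 : List ℕ)
    (h1 : eqW (cj [0] m) l1 = true) (h2 : eqW (cj [4] m) l2 = true) (h3 : eqW (cj [0, 4] m) l3 = true)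
    (k1 : eqW (cj [0] m1) l1 = true) (k2 : eqW (cj [0] m2) l2 = true) (k3 : eqW (cj [0] m3) l3 = true)
    (h4 : eqW (l2 ++ l3) (l3 ++ l2) = true) (h5 : eqW (l1 ++ l2) l3 = true) (h6 : eqW (l3 ++ l3) [] = true)
    (h7 : eqW (l2 ++ l2) [] = true) :
    X t L l1 * X t L l2 * X t L l3 = 1 ∧ Commute (X t L l1) (X t L l2) := by
  have e0 : Lw L l1 * Lw L l2 * Lw L l3 = t * F f l2 := by
    have hb' : Lw L [0] * Lw L [4] * Lw L [0, 4] = t * F f [4] := by
      have e : wd [0, 4] = y * s := by rw [wd_cons, wd_s]; rfl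
      rw [Lw, Lw, Lw, F, wd_y, wd_s, e]
      exact hb
    rw [← S.cjw m h1, ← S.cjw m h2, ← S.cjw m h3]
    have e1 : (F f m)⁻¹ * t = t * (F f m)⁻¹ := (F_t c m).symm.inv_left
    calc (F f m)⁻¹ * Lw L [0] * F f m * ((F f m)⁻¹ * Lw L [4] * F f m) * ((F f m)⁻¹ * Lw L [0, 4] * F f m)
        = (F f m)⁻¹ * (Lw L [0] * Lw L [4] * Lw L [0, 4]) * F f m := by group
      _ = ((F f m)⁻¹ * t) * F f [4] * F f m := by rw [hb']; group
      _ = t * ((F f m)⁻¹ * F f [4] * F f m) := by rw [e1]; group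
      _ = t * F f l2 := by
        rw [← F_eq h2, F, F, F, wd_cj, map_mul, map_mul, map_inv]
  have e1 : X t L l1 * X t L l2 * X t L l3 = 1 := by
    have c1 : F f l2 * Lw L l3 = Lw L l3 * F f l2 := S.cmw l3 l2 h4
    have c2 : F f l2 * F f l2 = 1 := F_sq h7
    calc X t L l1 * X t L l2 * X t L l3 = Lw L l1 * (t * Lw L l2 * t) * Lw L l3 * t := by
          rw [X, X, X]; group
      _ = Lw L l1 * Lw L l2 * (F f l2 * Lw L l3) * t := by rw [S.tw l2 m2 k2]; group
      _ = (Lw L l1 * Lw L l2 * Lw L l3) * F f l2 * t := by rw [c1]; group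
      _ = t * (F f l2 * F f l2) * t := by rw [e0]; group
      _ = 1 := by rw [c2, mul_one, c.tt]
  refine ⟨e1, ?_⟩
  have s1 := X_sq c S l1 m1 k1
  have s2 := X_sq c S l2 m2 k2
  have s3 := X_sq c S l3 m3 k3
  set x1 := X t L l1
  set x2 := X t L l2
  set x3 := X t L l3
  have e2 : x3 = (x1 * x2)⁻¹ := (inv_eq_of_mul_eq_one_right e1).symm
  have e3 : (x1 * x2) * (x1 * x2) = (x1 * x1) * (x2 * x2) := by
    have e4 : (x1 * x2) * (x1 * x2) = (x3 * x3)⁻¹ := by rw [e2]; group
    have e5 : (F f l3)⁻¹ = F f l3 := inv_eq_of_mul_eq_one_left (F_sq h6)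
    rw [e4, s3, s1, s2, e5, ← F_append, F_eq h5]
  have e6 : x1 * (x2 * x1) * x2 = x1 * (x1 * x2) * x2 := by
    calc x1 * (x2 * x1) * x2 = (x1 * x2) * (x1 * x2) := by group
      _ = (x1 * x1) * (x2 * x2) := e3
      _ = _ := by group
  exact (mul_left_cancel (mul_right_cancel e6)).symm

theorem pure_one (c : Cx t f) (S : Sys t f L) : L y * L s * L (y * s) = 1 := by
  rcases pure c S with h | h
  · exact h
  exfalso
  -- classes
  obtain ⟨a1, b1⟩ := X_rel c S h [3, 2, 1, 4, 3, 2] [0] [1] [0, 1] [] [5, 1, 5, 2, 3, 5, 2] [5, 0, 1, 2, 5, 1, 5]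
    (by decide +kernel) (by decide +kernel) (by decide +kernel) (by decide +kernel) (by decide +kernel)
    (by decide +kernel) (by decide +kernel) (by decide +kernel) (by decide +kernel) (by decide +kernel)
  obtain ⟨a2, b2⟩ := X_rel c S h [3, 4] [0] [3] [0, 3] [] [5, 0, 5, 0, 3, 5] [5, 3, 2, 5, 1, 5]
    (by decide +kernel) (by decide +kernel) (by decide +kernel) (by decide +kernel) (by decide +kernel)
    (by decide +kernel) (by decide +kernel) (by decide +kernel) (by decide +kernel) (by decide +kernel)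
  obtain ⟨a3, b3⟩ := X_rel c S h [5, 1, 5, 0, 2, 5, 2] [1] [0, 3] [0, 1, 3] [5, 1, 5, 2, 3, 5, 2]
    [5, 3, 2, 5, 1, 5] [5, 0, 1, 3, 5, 2, 4]
    (by decide +kernel) (by decide +kernel) (by decide +kernel) (by decide +kernel) (by decide +kernel)
    (by decide +kernel) (by decide +kernel) (by decide +kernel) (by decide +kernel) (by decide +kernel)
  obtain ⟨a4, b4⟩ := X_rel c S h [5, 0, 5, 0, 2, 5, 3, 2] [3] [0, 1] [0, 1, 3] [5, 0, 5, 0, 3, 5]
    [5, 0, 1, 2, 5, 1, 5] [5, 0, 1, 3, 5, 2, 4]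
    (by decide +kernel) (by decide +kernel) (by decide +kernel) (by decide +kernel) (by decide +kernel)
    (by decide +kernel) (by decide +kernel) (by decide +kernel) (by decide +kernel) (by decide +kernel)
  have s1 := X_sq c S [1] [5, 1, 5, 2, 3, 5, 2] (by decide +kernel)
  have s3 := X_sq c S [3] [5, 0, 5, 0, 3, 5] (by decide +kernel)
  set xy := X t L [0]
  set xp := X t L [1]
  set xr := X t L [3]
  set xyp := X t L [0, 1]
  set xyr := X t L [0, 3]
  set xyz := X t L [0, 1, 3]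
  have e1 : xyp = (xy * xp)⁻¹ := (inv_eq_of_mul_eq_one_right a1).symm
  have e2 : xyr = (xy * xr)⁻¹ := (inv_eq_of_mul_eq_one_right a2).symm
  have e3 : xp * xyr = xr * xyp := by
    have e4 : xyz = (xp * xyr)⁻¹ := (inv_eq_of_mul_eq_one_right a3).symm
    have e5 : xyz = (xr * xyp)⁻¹ := (inv_eq_of_mul_eq_one_right a4).symm
    exact inv_injective (e4.symm.trans e5)
  have cpr : Commute xp xr := by
    have c1 : Commute xp xyr := b3
    have c2 : Commute xp xy := b1.symm
    have e6 : xr = xy⁻¹ * xyr⁻¹ := by rw [e2]; group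
    rw [e6]
    exact c2.inv_right.mul_right c1.inv_right
  have e7 : xp * xr⁻¹ = xr * xp⁻¹ := by
    rw [e1, e2] at e3
    have e8 : xp * xr⁻¹ * xy⁻¹ = xr * xp⁻¹ * xy⁻¹ := by
      calc xp * xr⁻¹ * xy⁻¹ = xp * (xy * xr)⁻¹ := by group
        _ = xr * (xy * xp)⁻¹ := e3
        _ = _ := by group
    exact mul_right_cancel e8
  have e9 : xp * xp = xr * xr := by
    calc xp * xp = (xp * xr⁻¹) * (xr * xp) := by group
      _ = (xr * xp⁻¹) * (xp * xr) := by rw [e7, cpr.eq]
      _ = xr * xr := by group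
  rw [s1, s3] at e9
  exact absurd (F_inj c e9) (by decide +kernel)

/-- pure pairs -/
theorem pt (c : Cx t f) (S : Sys t f L) (m : List ℕ) {l1 l2 l3 : List ℕ}
    (h1 : eqW (cj [0] m) l1 = true) (h2 : eqW (cj [4] m) l2 = true) (h3 : eqW (cj [0, 4] m) l3 = true) :
    Lw L l1 * Lw L l2 = Lw L l3 ∧ Commute (Lw L l1) (Lw L l2) := by
  have e0 : Lw L l1 * Lw L l2 * Lw L l3 = 1 := by
    have hb' : Lw L [0] * Lw L [4] * Lw L [0, 4] = 1 := by
      have e : wd [0, 4] = y * s := by rw [wd_cons, wd_s]; rfl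
      rw [Lw, Lw, Lw, wd_y, wd_s, e]
      exact pure_one c S
    rw [← S.cjw m h1, ← S.cjw m h2, ← S.cjw m h3]
    calc (F f m)⁻¹ * Lw L [0] * F f m * ((F f m)⁻¹ * Lw L [4] * F f m) * ((F f m)⁻¹ * Lw L [0, 4] * F f m)
        = (F f m)⁻¹ * (Lw L [0] * Lw L [4] * Lw L [0, 4]) * F f m := by group
      _ = 1 := by rw [hb']; group
  have e1 : Lw L l1 * Lw L l2 = Lw L l3 := by
    calc Lw L l1 * Lw L l2 = (Lw L l1 * Lw L l2 * Lw L l3) * (Lw L l3)⁻¹ := by group
      _ = (Lw L l3)⁻¹ := by rw [e0, one_mul]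
      _ = _ := inv_eq_of_mul_eq_one_left (S.sqw _)
  refine ⟨e1, ?_⟩
  have s1 := S.sqw l1
  have s2 := S.sqw l2
  have s3 : (Lw L l1 * Lw L l2) * (Lw L l1 * Lw L l2) = 1 := by rw [e1, S.sqw]
  set a := Lw L l1
  set b := Lw L l2
  show a * b = b * a
  have i1 : a⁻¹ = a := inv_eq_of_mul_eq_one_left s1
  have i2 : b⁻¹ = b := inv_eq_of_mul_eq_one_left s2
  calc a * b = (a * b)⁻¹ := eq_inv_of_mul_eq_one_left s3
    _ = _ := by rw [mul_inv_rev, i1, i2]

end Cfsg.Agent.CoThreeStd.Gamma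
end

-- part: CoThreeStd/GammaZ
section
/-!
# S1750, pattern γ, the elements `Z`, `X` and the relation `ζ = 1` (helper781)
-/

set_option autoImplicit false

namespace Cfsg.Agent.CoThreeStd.Gamma

open Cfsg.Agent.CoThreeStd.MTwelve Cfsg.Agent.CoThreeStd.Fusion Cfsg.Agent.SporRec.Co3

variable {G : Type*} [Group G] {t : G} {f : H →* G} {L : H → G}

theorem inv_of_sq {K : Type*} [Group K] {a : K} (h : a * a = 1) : a⁻¹ = a := inv_eq_of_mul_eq_one_left h

/-- `y` commutes with `p` -/
theorem base (c : Cx t f) (S : Sys t f L) : Commute (Lw L [0]) (Lw L [1]) ∧ Commute (Lw L [0]) (Lw L [3]) ∧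
    Commute (Lw L [1]) (Lw L [3]) ∧ Lw L [1] * Lw L [3] = Lw L [0] * Lw L [0, 1, 3] ∧
    Commute (Lw L [0]) (Lw L [0, 1, 3]) := by
  obtain ⟨-, b1⟩ := pt c S [3, 2, 1, 4, 3, 2] (l1 := [0]) (l2 := [1]) (l3 := [0, 1])
    (by decide +kernel) (by decide +kernel) (by decide +kernel)
  obtain ⟨a2, b2⟩ := pt c S [3, 4] (l1 := [0]) (l2 := [3]) (l3 := [0, 3])
    (by decide +kernel) (by decide +kernel) (by decide +kernel)
  obtain ⟨a3, b3⟩ := pt c S [5, 1, 5, 0, 2, 5, 2] (l1 := [1]) (l2 := [0, 3]) (l3 := [0, 1, 3])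
    (by decide +kernel) (by decide +kernel) (by decide +kernel)
  have sy := S.sqw [0]
  set Y := Lw L [0]
  set P := Lw L [1]
  set R := Lw L [3]
  rw [← a2] at b3 a3
  have e1 : P * R = Y * Lw L [0, 1, 3] := by
    rw [← a3]
    calc P * R = (Y * Y) * P * R := by rw [sy, one_mul]
      _ = Y * (Y * P) * R := by group
      _ = Y * (P * Y) * R := by rw [b1.eq]
      _ = _ := by group
  have cPR : Commute P R := by
    have e : R = Y⁻¹ * (Y * R) := by group
    rw [e]
    exact b1.symm.inv_right.mul_right b3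
  refine ⟨b1, b2, cPR, e1, ?_⟩
  have e2 : Lw L [0, 1, 3] = Y⁻¹ * (P * R) := by rw [e1]; group
  rw [e2]
  exact ((Commute.refl Y).inv_right).mul_right (b1.mul_right b2)

theorem conj_comm {a b x y m : G} (h : Commute a b) (h1 : m⁻¹ * a * m = x) (h2 : m⁻¹ * b * m = y) :
    Commute x y := by
  subst h1 h2
  show m⁻¹ * a * m * (m⁻¹ * b * m) = m⁻¹ * b * m * (m⁻¹ * a * m)
  calc m⁻¹ * a * m * (m⁻¹ * b * m) = m⁻¹ * (a * b) * m := by group
    _ = m⁻¹ * (b * a) * m := by rw [h.eq]
    _ = _ := by group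

theorem cp (c : Cx t f) (S : Sys t f L) (m : List ℕ) {l1 l2 : List ℕ}
    (h1 : eqW (cj [1] m) l1 = true) (h2 : eqW (cj [3] m) l2 = true) : Commute (Lw L l1) (Lw L l2) :=
  conj_comm (base c S).2.2.1 (S.cjw m h1) (S.cjw m h2)

theorem cya (c : Cx t f) (S : Sys t f L) (m : List ℕ) {l1 l2 : List ℕ}
    (h1 : eqW (cj [0] m) l1 = true) (h2 : eqW (cj [0, 1, 3] m) l2 = true) : Commute (Lw L l1) (Lw L l2) :=
  conj_comm (base c S).2.2.2.2 (S.cjw m h1) (S.cjw m h2)

theorem hrel (c : Cx t f) (S : Sys t f L) (m : List ℕ) {l1 l2 l3 l4 : List ℕ}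
    (h1 : eqW (cj [1] m) l1 = true) (h2 : eqW (cj [3] m) l2 = true) (h3 : eqW (cj [0] m) l3 = true)
    (h4 : eqW (cj [0, 1, 3] m) l4 = true) : Lw L l1 * Lw L l2 = Lw L l3 * Lw L l4 := by
  rw [← S.cjw m h1, ← S.cjw m h2, ← S.cjw m h3, ← S.cjw m h4]
  have h := (base c S).2.2.2.1
  calc (F f m)⁻¹ * Lw L [1] * F f m * ((F f m)⁻¹ * Lw L [3] * F f m)
      = (F f m)⁻¹ * (Lw L [1] * Lw L [3]) * F f m := by group
    _ = (F f m)⁻¹ * (Lw L [0] * Lw L [0, 1, 3]) * F f m := by rw [h]
    _ = _ := by group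

/-- words for `yz`, `yd'`, `yd''` -/
def wA : List ℕ := [0, 1, 3]
def wB : List ℕ := [0, 2, 1, 3, 2]
def wC : List ℕ := [0, 3, 2, 1, 3, 2, 3]

theorem sigma_one : ∀ σ : P5, σ * Equiv.swap 1 2 = Equiv.swap 1 2 * σ →
    σ * Equiv.swap 2 3 = Equiv.swap 2 3 * σ →
    σ * (Equiv.swap 0 1 * Equiv.swap 2 3) = (Equiv.swap 0 1 * Equiv.swap 2 3) * σ → σ = 1 := by
  decide +kernel

/-- from commutation with `F (w τ)` to commutation in the symmetric group -/
theorem comm_sigma (c : Cx t f) {u v : G} (hv : inV t f v) {σ : P5} (hσ : u = v * f (w σ)) {τ : P5}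
    (hτ : Commute (f (w τ)) u) : σ * τ = τ * σ := by
  have h4 := hτ.eq
  rw [hσ] at h4
  have h5 : v * f (w (τ * σ)) = v * f (w (σ * τ)) := by
    rw [map_mul, map_mul, map_mul, map_mul, ← mul_assoc, inV_comm_w c hv, mul_assoc, h4, mul_assoc]
  exact (w_injective (c.inj (mul_left_cancel h5))).symm

theorem ne_one_of_t (c : Cx t f) (S : Sys t f L) : ¬ Commute (Lw L [0]) t := by
  intro h
  have h1 := S.tw [0] [] (by decide +kernel)
  have h2 : Lw L [0] * F f [0] = Lw L [0] * F f [] := by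
    rw [← h1, F_nil, mul_one, ← h.eq, mul_assoc, c.tt, mul_one]
  exact absurd (F_inj c (mul_left_cancel h2)) (by decide +kernel)

/-- an element of `⟨t, y⟩` commuting with `L y` is `1` or `y` -/
theorem inV_commL (c : Cx t f) (S : Sys t f L) {v : G} (hv : inV t f v) (h : Commute (Lw L [0]) v) :
    v = 1 ∨ v = F f [0] := by
  have h0 := ne_one_of_t c S
  have hc : Commute (Lw L [0]) (F f [0]) := (S.cmw [0] [0] (by decide +kernel)).symm
  rcases inV_cases c hv with h5 | h5 | h5 | h5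
  · exact Or.inl h5
  · rw [h5] at h; exact absurd h h0
  · right; rw [h5, F, wd_y]
  · exfalso
    apply h0
    have e : t = v * (F f [0])⁻¹ := by rw [h5, F, wd_y]; group
    rw [e]
    exact h.mul_right hc.inv_right

theorem comms (c : Cx t f) (S : Sys t f L) : Commute (Lw L [0]) (Lw L wA) ∧ Commute (Lw L [0]) (Lw L wB) ∧
    Commute (Lw L [0]) (Lw L wC) ∧ Commute (Lw L wA) (Lw L wB) ∧ Commute (Lw L wA) (Lw L wC) ∧
    Commute (Lw L wB) (Lw L wC) :=
  ⟨cya c S [] (by decide +kernel) (by decide +kernel), cya c S [2] (by decide +kernel) (by decide +kernel),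
    cya c S [2, 3] (by decide +kernel) (by decide +kernel),
    cp c S [5, 2, 4, 5, 2, 1] (by decide +kernel) (by decide +kernel),
    cp c S [5, 2, 4, 5, 2, 1, 3] (by decide +kernel) (by decide +kernel),
    cp c S [5, 2, 4, 5, 2, 1, 3, 2] (by decide +kernel) (by decide +kernel)⟩

set_option maxHeartbeats 1000000 in
/-- `ζ = 1` -/
theorem zeta (c : Cx t f) (S : Sys t f L) : Lw L [0] * Lw L wA * Lw L wB * Lw L wC = 1 := by
  obtain ⟨c1, c2, c3, c4, c5, c6⟩ := comms c S
  obtain ⟨b1, b2, b3, b4, b5⟩ := base c S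
  have t0 := S.tw [0] [] (by decide +kernel)
  have tA := S.tw wA [5, 0, 1, 3, 5, 2, 4] (by decide +kernel)
  have tB := S.tw wB [5, 0, 1, 3, 5, 4] (by decide +kernel)
  have tC := S.tw wC [5, 0, 1, 3, 5, 1, 4] (by decide +kernel)
  -- the conjugation by `ρ`
  have r0 := S.cjw (x := [0]) (x' := [1]) [5, 1, 5, 2, 3, 5, 2, 4] (by decide +kernel)
  have rA := S.cjw (x := wA) (x' := [3]) [5, 1, 5, 2, 3, 5, 2, 4] (by decide +kernel)
  have rB := S.cjw (x := wB) (x' := cj wB [5, 1, 5, 2, 3, 5, 2, 4]) [5, 1, 5, 2, 3, 5, 2, 4] (by decide +kernel)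
  have rC := S.cjw (x := wC) (x' := cj wC [5, 1, 5, 2, 3, 5, 2, 4]) [5, 1, 5, 2, 3, 5, 2, 4] (by decide +kernel)
  have hBC := hrel c S [5, 2, 4, 5, 0] (l1 := wB) (l2 := wC) (l3 := cj wB [5, 1, 5, 2, 3, 5, 2, 4])
    (l4 := cj wC [5, 1, 5, 2, 3, 5, 2, 4]) (by decide +kernel) (by decide +kernel) (by decide +kernel)
    (by decide +kernel)
  -- commutations with `f H`
  have fy0 := S.cmw [0] [0] (by decide +kernel)
  have fyA := S.cmw wA [0] (by decide +kernel)
  have fyB := S.cmw wB [0] (by decide +kernel)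
  have fyC := S.cmw wC [0] (by decide +kernel)
  have fz0 := S.cmw [0] [1, 3] (by decide +kernel)
  have fzA := S.cmw wA [1, 3] (by decide +kernel)
  have fzB := S.cmw wB [1, 3] (by decide +kernel)
  have fzC := S.cmw wC [1, 3] (by decide +kernel)
  have fAB := S.cmw wB wA (by decide +kernel)
  have fAC := S.cmw wC wA (by decide +kernel)
  have fBC := S.cmw wC wB (by decide +kernel)
  have f0A := S.cmw wA [0] (by decide +kernel)
  have q0 := S.cmw [0] [2] (by decide +kernel)
  have qA := S.cjw (x := wA) (x' := wB) [2] (by decide +kernel)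
  have qB := S.cjw (x := wB) (x' := wA) [2] (by decide +kernel)
  have qC := S.cmw wC [2] (by decide +kernel)
  have r0' := S.cmw [0] [3] (by decide +kernel)
  have rA' := S.cmw wA [3] (by decide +kernel)
  have rB' := S.cjw (x := wB) (x' := wC) [3] (by decide +kernel)
  have rC' := S.cjw (x := wC) (x' := wB) [3] (by decide +kernel)
  have hYA : Lw L [1] * Lw L [3] = Lw L [0] * Lw L wA := b4
  set Y := Lw L [0]
  set A := Lw L wA
  set B := Lw L wB
  set C := Lw L wC
  obtain ⟨ζ, hζ⟩ : ∃ ζ, ζ = Y * A * B * C := ⟨_, rfl⟩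
  rw [← hζ]
  have hmul : ∀ g : G, Commute g Y → Commute g A → Commute g B → Commute g C → Commute g ζ := by
    intro g h1 h2 h3 h4
    rw [hζ]
    exact ((h1.mul_right h2).mul_right h3).mul_right h4
  have kt : Commute t ζ := by
    have e1 : t * ζ * t = ζ := by
      have e2 : F f [0] * F f wA * F f wB * F f wC = 1 := by
        rw [← F_append, ← F_append, ← F_append, ← F_nil (f := f)]
        exact F_eq (by decide +kernel)
      calc t * ζ * t = (t * Y * t) * (t * A * t) * (t * B * t) * (t * C * t) := by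
            have : ∀ a b e g : G, (t * a * t) * (t * b * t) * (t * e * t) * (t * g * t) =
                t * (a * (t * t) * b * (t * t) * e * (t * t) * g) * t := by
              intros; group
            rw [this, c.tt, hζ]; group
        _ = Y * (F f [0] * A) * (F f wA * B) * F f wB * C * F f wC := by rw [t0, tA, tB, tC]; group
        _ = Y * A * (F f [0] * B) * F f wA * (F f wB * C) * F f wC := by rw [f0A.eq, fAB.eq]; group
        _ = Y * A * B * F f [0] * (F f wA * C) * F f wB * F f wC := by rw [fyB.eq, fBC.eq]; group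
        _ = Y * A * B * (F f [0] * C) * F f wA * F f wB * F f wC := by rw [fAC.eq]; group
        _ = ζ * (F f [0] * F f wA * F f wB * F f wC) := by rw [fyC.eq, hζ]; group
        _ = ζ := by rw [e2, mul_one]
    show t * ζ = ζ * t
    calc t * ζ = (t * ζ * t) * t⁻¹ := by group
      _ = _ := by rw [e1, c.inv_t]
  have ky : Commute (F f [0]) ζ := hmul _ fy0 fyA fyB fyC
  have kz : Commute (F f [1, 3]) ζ := hmul _ fz0 fzA fzB fzC
  have kY : Commute Y ζ := hmul _ (Commute.refl _) c1 c2 c3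
  have kq : Commute (F f [2]) ζ := by
    have e1 : (F f [2])⁻¹ * ζ * F f [2] = ζ := by
      have e2 : (F f [2])⁻¹ * Y * F f [2] = Y := by rw [mul_assoc, ← q0.eq]; group
      have e3 : (F f [2])⁻¹ * C * F f [2] = C := by rw [mul_assoc, ← qC.eq]; group
      calc (F f [2])⁻¹ * ζ * F f [2] = ((F f [2])⁻¹ * Y * F f [2]) * ((F f [2])⁻¹ * A * F f [2]) *
            ((F f [2])⁻¹ * B * F f [2]) * ((F f [2])⁻¹ * C * F f [2]) := by rw [hζ]; group
        _ = Y * (B * A) * C := by rw [e2, e3, qA, qB]; group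
        _ = ζ := by rw [← c4.eq, hζ]; group
    show F f [2] * ζ = ζ * F f [2]
    calc F f [2] * ζ = F f [2] * ((F f [2])⁻¹ * ζ * F f [2]) := by rw [e1]
      _ = _ := by group
  have kr : Commute (F f [3]) ζ := by
    have e1 : (F f [3])⁻¹ * ζ * F f [3] = ζ := by
      have e2 : (F f [3])⁻¹ * Y * F f [3] = Y := by rw [mul_assoc, ← r0'.eq]; group
      have e3 : (F f [3])⁻¹ * A * F f [3] = A := by rw [mul_assoc, ← rA'.eq]; group
      calc (F f [3])⁻¹ * ζ * F f [3] = ((F f [3])⁻¹ * Y * F f [3]) * ((F f [3])⁻¹ * A * F f [3]) *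
            ((F f [3])⁻¹ * B * F f [3]) * ((F f [3])⁻¹ * C * F f [3]) := by rw [hζ]; group
        _ = Y * A * (C * B) := by rw [e2, e3, rB', rC']; group
        _ = ζ := by rw [← c6.eq, hζ]; group
    show F f [3] * ζ = ζ * F f [3]
    calc F f [3] * ζ = F f [3] * ((F f [3])⁻¹ * ζ * F f [3]) := by rw [e1]
      _ = _ := by group
  obtain ⟨σ, v, hv, hσ⟩ := decomp2 c kt.eq.symm (by
    have := ky.eq
    rw [F, wd_y] at this
    exact this.symm) (τ := Equiv.swap 1 2) (Equiv.Perm.sign_swap (by decide)) (by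
    rw [w_q, ← wd_q]
    exact kq.eq.symm)
  have hσ1 : σ = 1 := by
    apply sigma_one
    · exact comm_sigma c hv hσ (by rw [w_q, ← wd_q]; exact kq)
    · exact comm_sigma c hv hσ (by rw [w_r, ← wd_r]; exact kr)
    · exact comm_sigma c hv hσ (by rw [map_mul, w_p, w_r, ← wd_pr]; exact kz)
  rw [hσ1, map_one, map_one, mul_one] at hσ
  rcases inV_commL c S hv (by rw [← hσ]; exact kY) with h5 | h5
  · rw [hσ, h5]
  exfalso
  -- `ρ`
  have e1 : (F f [5, 1, 5, 2, 3, 5, 2, 4])⁻¹ * ζ * F f [5, 1, 5, 2, 3, 5, 2, 4] = ζ := by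
    set m := F f [5, 1, 5, 2, 3, 5, 2, 4]
    calc m⁻¹ * ζ * m = ((m⁻¹ * Y * m) * (m⁻¹ * A * m)) * ((m⁻¹ * B * m) * (m⁻¹ * C * m)) := by rw [hζ]; group
      _ = (Y * A) * (B * C) := by rw [r0, rA, rB, rC, hYA, ← hBC]
      _ = ζ := by rw [hζ]; group
  rw [hσ, h5] at e1
  have e2 : (F f [5, 1, 5, 2, 3, 5, 2, 4])⁻¹ * F f [0] * F f [5, 1, 5, 2, 3, 5, 2, 4] =
      F f (cj [0] [5, 1, 5, 2, 3, 5, 2, 4]) := by
    rw [F, F, F, wd_cj, map_mul, map_mul, map_inv]
  rw [e2] at e1
  exact absurd (F_inj c e1) (by decide +kernel)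

end Cfsg.Agent.CoThreeStd.Gamma
end

-- part: CoThreeStd/GammaKappa
section
/-!
# S1750, pattern γ, the dichotomy for `κ = (PX)²` (helper781)
-/

set_option autoImplicit false

namespace Cfsg.Agent.CoThreeStd.Gamma

open Cfsg.Agent.CoThreeStd.MTwelve Cfsg.Agent.CoThreeStd.Fusion Cfsg.Agent.SporRec.Co3

variable {G : Type*} [Group G] {t : G} {f : H →* G} {L : H → G}

theorem sigma_eight : ∀ σ : P5, σ * (Equiv.swap 0 1 * Equiv.swap 2 3) = (Equiv.swap 0 1 * Equiv.swap 2 3) * σ →
    σ = 1 ∨ σ = Equiv.swap 0 1 * Equiv.swap 2 3 ∨ σ = Equiv.swap 0 1 ∨ σ = Equiv.swap 2 3 ∨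
    σ = Equiv.swap 1 2 * Equiv.swap 0 1 * Equiv.swap 2 3 * Equiv.swap 1 2 ∨
    σ = Equiv.swap 2 3 * Equiv.swap 1 2 * Equiv.swap 0 1 * Equiv.swap 2 3 * Equiv.swap 1 2 * Equiv.swap 2 3 ∨
    σ = Equiv.swap 0 1 * Equiv.swap 1 2 * Equiv.swap 0 1 * Equiv.swap 2 3 * Equiv.swap 1 2 ∨
    σ = Equiv.swap 1 2 * Equiv.swap 0 1 * Equiv.swap 2 3 * Equiv.swap 1 2 * Equiv.swap 0 1 := by
  decide +kernel

theorem w_words (σ : P5) (h : σ * (Equiv.swap 0 1 * Equiv.swap 2 3) = (Equiv.swap 0 1 * Equiv.swap 2 3) * σ) :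
    w σ = wd [] ∨ w σ = wd [1, 3] ∨ w σ = wd [1] ∨ w σ = wd [3] ∨ w σ = wd [2, 1, 3, 2] ∨
    w σ = wd [3, 2, 1, 3, 2, 3] ∨ w σ = wd [1, 2, 1, 3, 2] ∨ w σ = wd [2, 1, 3, 2, 1] := by
  have hc : ∀ (i : ℕ) (l : List ℕ), wd (i :: l) = wd [i] * wd l := by
    intro i l; rw [← wd_append]; rfl
  rcases sigma_eight σ h with rfl | rfl | rfl | rfl | rfl | rfl | rfl | rfl
  · left; rw [wd_nil, map_one]
  · right; left; rw [hc, wd_p, wd_r, map_mul, w_p, w_r]
  · right; right; left; rw [wd_p, w_p]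
  · right; right; right; left; rw [wd_r, w_r]
  · right; right; right; right; left
    rw [hc 2, hc 1, hc 3, wd_p, wd_r, wd_q]
    simp only [map_mul, w_p, w_q, w_r, mul_assoc]
  · right; right; right; right; right; left
    rw [hc 3, hc 2, hc 1, hc 3 [2, 3], hc 2 [3], wd_p, wd_r, wd_q]
    simp only [map_mul, w_p, w_q, w_r, mul_assoc]
  · right; right; right; right; right; right; left
    rw [hc 1, hc 2, hc 1 [3, 2], hc 3, wd_p, wd_r, wd_q]
    simp only [map_mul, w_p, w_q, w_r, mul_assoc]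
  · right; right; right; right; right; right; right
    rw [hc 2, hc 1, hc 3, hc 2 [1], wd_p, wd_r, wd_q]
    simp only [map_mul, w_p, w_q, w_r, mul_assoc]

/-- The facts used below. -/
structure Facts (f : H →* G) (t Y P R A B C : G) : Prop where
  tt : t * t = 1
  YY : Y * Y = 1
  PP : P * P = 1
  RR : R * R = 1
  AA : A * A = 1
  BB : B * B = 1
  CC : C * C = 1
  cYP : Commute Y P
  cYR : Commute Y R
  cPR : Commute P R
  PR : P * R = Y * A
  cYA : Commute Y A
  cYB : Commute Y B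
  cYC : Commute Y C
  cAB : Commute A B
  cAC : Commute A C
  cBC : Commute B C
  zeta : Y * A * B * C = 1
  -- `t`
  tY : t * Y * t = Y * F f [0]
  tP : t * P * t = P * F f [1]
  tR : t * R * t = R * F f [3]
  tB : t * B * t = B * F f wB
  -- `y`
  yY : Commute (F f [0]) Y
  yP : Commute (F f [0]) P
  yR : Commute (F f [0]) R
  yB : Commute (F f [0]) B
  -- `p`
  pY : Commute (F f [1]) Y
  pP : Commute (F f [1]) P
  pR : Commute (F f [1]) R
  pB : F f [1] * B = C * F f [1]
  -- `r`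
  rY : Commute (F f [3]) Y
  rP : Commute (F f [3]) P
  rR : Commute (F f [3]) R
  rB : F f [3] * B = C * F f [3]
  -- `z`
  zB : Commute (F f [1, 3]) B
  -- `d'`
  dY : Commute (F f [2, 1, 3, 2]) Y
  dB : Commute (F f [2, 1, 3, 2]) B
  dP : F f [2, 1, 3, 2] * P = R * F f [2, 1, 3, 2]

theorem move {g a b m : G} (h : m⁻¹ * a * m = b) (h2 : m * m = 1) : m * a = b * m := by
  have e : m⁻¹ = m := inv_of_sq h2
  rw [e] at h
  rw [← h, mul_assoc, h2, mul_one]

theorem facts (c : Cx t f) (S : Sys t f L) :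
    Facts f t (Lw L [0]) (Lw L [1]) (Lw L [3]) (Lw L wA) (Lw L wB) (Lw L wC) := by
  obtain ⟨c1, c2, c3, c4, c5, c6⟩ := comms c S
  obtain ⟨b1, b2, b3, b4, b5⟩ := base c S
  exact
    { tt := c.tt
      YY := S.sqw _, PP := S.sqw _, RR := S.sqw _, AA := S.sqw _, BB := S.sqw _, CC := S.sqw _
      cYP := b1, cYR := b2, cPR := b3, PR := b4
      cYA := c1, cYB := c2, cYC := c3, cAB := c4, cAC := c5, cBC := c6
      zeta := zeta c S
      tY := S.tw [0] [] (by decide +kernel)
      tP := S.tw [1] [5, 1, 5, 2, 3, 5, 2] (by decide +kernel)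
      tR := S.tw [3] [5, 0, 5, 0, 3, 5] (by decide +kernel)
      tB := S.tw wB [5, 0, 1, 3, 5, 4] (by decide +kernel)
      yY := S.cmw _ _ (by decide +kernel)
      yP := S.cmw _ _ (by decide +kernel)
      yR := S.cmw _ _ (by decide +kernel)
      yB := S.cmw _ _ (by decide +kernel)
      pY := S.cmw _ _ (by decide +kernel)
      pP := S.cmw _ _ (by decide +kernel)
      pR := S.cmw _ _ (by decide +kernel)
      pB := move (g := 1) (S.cjw (x := wB) (x' := wC) [1] (by decide +kernel)) (F_sq (by decide +kernel))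
      rY := S.cmw _ _ (by decide +kernel)
      rP := S.cmw _ _ (by decide +kernel)
      rR := S.cmw _ _ (by decide +kernel)
      rB := move (g := 1) (S.cjw (x := wB) (x' := wC) [3] (by decide +kernel)) (F_sq (by decide +kernel))
      zB := S.cmw _ _ (by decide +kernel)
      dY := S.cmw _ _ (by decide +kernel)
      dB := S.cmw _ _ (by decide +kernel)
      dP := move (g := 1) (S.cjw (x := [1]) (x' := [3]) [2, 1, 3, 2] (by decide +kernel))
        (F_sq (by decide +kernel)) }

namespace Facts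

variable {Y P R A B C : G}

/-- `Z` -/
def Z (P R : G) : G := P * R

/-- `X` -/
def X (Y B : G) : G := Y * B

theorem ZZ (h : Facts f t Y P R A B C) : (P * R) * (P * R) = 1 := by
  calc (P * R) * (P * R) = P * (R * P) * R := by group
    _ = P * (P * R) * R := by rw [h.cPR.eq]
    _ = (P * P) * (R * R) := by group
    _ = 1 := by rw [h.PP, h.RR, one_mul]

theorem cZP (h : Facts f t Y P R A B C) : Commute (P * R) P := (Commute.refl P).mul_left h.cPR.symm
theorem cZR (h : Facts f t Y P R A B C) : Commute (P * R) R := h.cPR.mul_left (Commute.refl R)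
theorem cZY (h : Facts f t Y P R A B C) : Commute (P * R) Y := (h.cYP.mul_right h.cYR).symm
theorem cZX (h : Facts f t Y P R A B C) : Commute (P * R) (Y * B) := by
  rw [h.PR]
  exact ((Commute.refl Y).mul_left h.cYA.symm).mul_right (h.cYB.mul_left h.cAB)

theorem XX (h : Facts f t Y P R A B C) : (Y * B) * (Y * B) = 1 := by
  calc (Y * B) * (Y * B) = Y * (B * Y) * B := by group
    _ = Y * (Y * B) * B := by rw [h.cYB.eq]
    _ = (Y * Y) * (B * B) := by group
    _ = 1 := by rw [h.YY, h.BB, one_mul]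

/-- `X'' = Z X` -/
theorem YC (h : Facts f t Y P R A B C) : Y * C = (P * R) * (Y * B) := by
  rw [h.PR]
  have e1 : Y * A * B = C⁻¹ := mul_eq_one_iff_eq_inv.1 h.zeta
  have e2 : C⁻¹ = C := inv_of_sq h.CC
  calc Y * C = C * Y := h.cYC.eq
    _ = (Y * A * B) * Y := by rw [e1, e2]
    _ = Y * A * (B * Y) := by group
    _ = _ := by rw [h.cYB.eq]

/-- `AC = X` -/
theorem AC (h : Facts f t Y P R A B C) : A * C = Y * B := by
  have e3 : A⁻¹ = A := inv_of_sq h.AA
  have e4 : Y * C = Y * A * (Y * B) := by rw [YC h, h.PR]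
  have e5 : C = A * (Y * B) := by
    apply mul_left_cancel (a := Y)
    rw [e4]; group
  rw [e5, ← mul_assoc, h.AA, one_mul]

theorem pX (h : Facts f t Y P R A B C) : F f [1] * (Y * B) = (P * R) * (Y * B) * F f [1] := by
  calc F f [1] * (Y * B) = (F f [1] * Y) * B := by group
    _ = Y * (F f [1] * B) := by rw [h.pY.eq]; group
    _ = (Y * C) * F f [1] := by rw [h.pB]; group
    _ = _ := by rw [YC h]

theorem rX (h : Facts f t Y P R A B C) : F f [3] * (Y * B) = (P * R) * (Y * B) * F f [3] := by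
  calc F f [3] * (Y * B) = (F f [3] * Y) * B := by group
    _ = Y * (F f [3] * B) := by rw [h.rY.eq]; group
    _ = (Y * C) * F f [3] := by rw [h.rB]; group
    _ = _ := by rw [YC h]

theorem dX (h : Facts f t Y P R A B C) : Commute (F f [2, 1, 3, 2]) (Y * B) := h.dY.mul_right h.dB
theorem yX (h : Facts f t Y P R A B C) : Commute (F f [0]) (Y * B) := h.yY.mul_right h.yB
theorem yZ (h : Facts f t Y P R A B C) : Commute (F f [0]) (P * R) := h.yP.mul_right h.yR
theorem pZ (h : Facts f t Y P R A B C) : Commute (F f [1]) (P * R) := h.pP.mul_right h.pR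
theorem rZ (h : Facts f t Y P R A B C) : Commute (F f [3]) (P * R) := h.rP.mul_right h.rR

theorem tX (h : Facts f t Y P R A B C) : t * (Y * B) * t = (Y * B) * F f [2, 1, 3, 2] := by
  have e1 : F f [0] * F f wB = F f [2, 1, 3, 2] := by
    rw [← F_append]; exact F_eq (by decide +kernel)
  calc t * (Y * B) * t = (t * Y * t) * (t * B * t) := by
        have : (t * Y * t) * (t * B * t) = t * Y * (t * t) * B * t := by group
        rw [this, h.tt]; group
    _ = Y * (F f [0] * B) * F f wB := by rw [h.tY, h.tB]; group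
    _ = Y * B * (F f [0] * F f wB) := by rw [h.yB.eq]; group
    _ = _ := by rw [e1]

theorem tZ (h : Facts f t Y P R A B C) : t * (P * R) * t = (P * R) * F f [1, 3] := by
  have e1 : F f [1] * F f [3] = F f [1, 3] := by rw [← F_append]; rfl
  calc t * (P * R) * t = (t * P * t) * (t * R * t) := by
        have : (t * P * t) * (t * R * t) = t * P * (t * t) * R * t := by group
        rw [this, h.tt]; group
    _ = P * (F f [1] * R) * F f [3] := by rw [h.tP, h.tR]; group
    _ = P * R * (F f [1] * F f [3]) := by rw [h.pR.eq]; group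
    _ = _ := by rw [e1]

theorem zZ (h : Facts f t Y P R A B C) : Commute (F f [1, 3]) (P * R) := by
  have e1 : F f [1] * F f [3] = F f [1, 3] := by rw [← F_append]; rfl
  rw [← e1]
  exact h.pZ.mul_left h.rZ

theorem zP (h : Facts f t Y P R A B C) : Commute (F f [1, 3]) P := by
  have e1 : F f [1] * F f [3] = F f [1, 3] := by rw [← F_append]; rfl
  rw [← e1]
  exact h.pP.mul_left h.rP

theorem zY (h : Facts f t Y P R A B C) : Commute (F f [1, 3]) Y := by
  have e1 : F f [1] * F f [3] = F f [1, 3] := by rw [← F_append]; rfl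
  rw [← e1]
  exact h.pY.mul_left h.rY

theorem zX (h : Facts f t Y P R A B C) : Commute (F f [1, 3]) (Y * B) := h.zY.mul_right h.zB

/-- `κ^t = κ z` -/
theorem tkappa (h : Facts f t Y P R A B C) :
    t * (P * (Y * B) * P * (Y * B)) * t = (P * (Y * B) * P * (Y * B)) * F f [1, 3] := by
  have hd : F f [2, 1, 3, 2] * F f [1] = F f [3] * F f [2, 1, 3, 2] := by
    rw [← F_append, ← F_append]; exact F_eq (by decide +kernel)
  have hpr : F f [1] * F f [3] = F f [1, 3] := by rw [← F_append]; rfl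
  have hRP : R = P * (P * R) := by rw [← mul_assoc, h.PP, one_mul]
  have hdd : F f [2, 1, 3, 2] * F f [2, 1, 3, 2] = 1 := F_sq (by decide +kernel)
  have tt := h.tt
  have tP := h.tP
  have tX := h.tX
  have pX := h.pX
  have rX := h.rX
  have dX := h.dX
  have dP := h.dP
  have pR := h.pR
  have pZ := h.pZ
  have cZX := h.cZX
  have ZZ := h.ZZ
  have cZP := h.cZP
  obtain ⟨Z, hZ⟩ : ∃ Z, Z = P * R := ⟨_, rfl⟩
  obtain ⟨X, hX⟩ : ∃ X, X = Y * B := ⟨_, rfl⟩
  rw [← hZ] at hRP pX rX pZ cZX ZZ cZP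
  rw [← hX] at tX pX rX dX cZX ⊢
  set p' := F f [1]
  set r' := F f [3]
  set d' := F f [2, 1, 3, 2]
  calc t * (P * X * P * X) * t = (t * P * t) * (t * X * t) * (t * P * t) * (t * X * t) := by
        have : (t * P * t) * (t * X * t) * (t * P * t) * (t * X * t) =
          t * (P * (t * t) * X * (t * t) * P * (t * t) * X) * t := by group
        rw [this, tt]; group
    _ = P * (p' * X) * (d' * P) * p' * X * d' := by rw [tP, tX]; group
    _ = P * Z * X * (p' * R) * (d' * p') * X * d' := by rw [pX, dP]; group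
    _ = P * Z * X * R * p' * r' * (d' * X) * d' := by rw [pR.eq, hd]; group
    _ = P * Z * X * R * p' * (r' * X) * (d' * d') := by rw [dX.eq]; group
    _ = P * Z * X * R * (p' * Z) * X * r' := by rw [rX, hdd]; group
    _ = P * Z * X * R * Z * (p' * X) * r' := by rw [pZ.eq]; group
    _ = P * Z * X * R * (Z * Z) * X * p' * r' := by rw [pX]; group
    _ = P * (Z * X) * P * (Z * X) * (p' * r') := by rw [ZZ, hRP]; group
    _ = P * X * (Z * P) * (X * Z) * F f [1, 3] := by rw [cZX.eq, hpr]; group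
    _ = P * X * P * (Z * X) * Z * F f [1, 3] := by rw [cZP.eq]; group
    _ = P * X * P * X * (Z * Z) * F f [1, 3] := by rw [cZX.eq]; group
    _ = _ := by rw [ZZ, mul_one]

end Facts

end Cfsg.Agent.CoThreeStd.Gamma
end

-- part: CoThreeStd/GammaDich
section
/-!
# S1750, pattern γ, the dichotomy (helper781)
-/

set_option autoImplicit false

namespace Cfsg.Agent.CoThreeStd.Gamma

open Cfsg.Agent.CoThreeStd.MTwelve Cfsg.Agent.CoThreeStd.Fusion Cfsg.Agent.SporRec.Co3

variable {G : Type*} [Group G] {t : G} {f : H →* G} {L : H → G}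

/-- the word `y'` -/
def wy : List ℕ := [1, 5, 2, 4, 5, 0, 5, 2, 4, 5]

theorem commute_of_conj {a m : G} (h : m⁻¹ * a * m = a) : Commute m a := by
  show m * a = a * m
  calc m * a = m * (m⁻¹ * a * m) := by rw [h]
    _ = _ := by group

set_option maxHeartbeats 1000000 in
theorem kappa (c : Cx t f) (S : Sys t f L) :
    Lw L [1] * (Lw L [0] * Lw L wB) * Lw L [1] * (Lw L [0] * Lw L wB) = Lw L [1] * Lw L [3] ∨
    Lw L [1] * (Lw L [0] * Lw L wB) * Lw L [1] * (Lw L [0] * Lw L wB) = Lw L [1] * Lw L [3] * F f [1, 3] := by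
  have h := facts c S
  have y1 := S.cmw [1] wy (by decide +kernel)
  have y2 := S.cjw (x := [0]) (x' := wA) wy (by decide +kernel)
  have y3 := S.cjw (x := wA) (x' := [0]) wy (by decide +kernel)
  have y4 := S.cjw (x := wB) (x' := wC) wy (by decide +kernel)
  have hnc := inV_commL c S (v := 1)
  have hL0 : ∀ v, inV t f v → Commute (Lw L [0]) v → v = 1 ∨ v = F f [0] := fun v hv h => inV_commL c S hv h
  have hLw : ∀ σ : P5, Commute (Lw L [0]) (f (w σ)) := by
    intro σ
    rw [Lw, wd_y]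
    exact (S.comm (y_comm σ).symm : f (w σ) * L y = L y * f (w σ)).symm
  set Y := Lw L [0]
  set P := Lw L [1]
  set R := Lw L [3]
  set A := Lw L wA
  set B := Lw L wB
  set C := Lw L wC
  have yX : Commute (F f wy) (Y * B) := by
    apply commute_of_conj
    calc (F f wy)⁻¹ * (Y * B) * F f wy = ((F f wy)⁻¹ * Y * F f wy) * ((F f wy)⁻¹ * B * F f wy) := by group
      _ = A * C := by rw [y2, y4]
      _ = Y * B := h.AC
  have yZ : Commute (F f wy) (P * R) := by
    rw [h.PR]
    apply commute_of_conj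
    calc (F f wy)⁻¹ * (Y * A) * F f wy = ((F f wy)⁻¹ * Y * F f wy) * ((F f wy)⁻¹ * A * F f wy) := by group
      _ = A * Y := by rw [y2, y3]
      _ = Y * A := h.cYA.eq.symm
  have tk := h.tkappa
  have tz := h.tZ
  have pX := h.pX
  have rX := h.rX
  have dX := h.dX
  have dP := h.dP
  have cZX := h.cZX
  have cZP := h.cZP
  have ZZ := h.ZZ
  have XX := h.XX
  have zX := h.zX
  have zZ := h.zZ
  have cYX : Commute Y (Y * B) := (Commute.refl Y).mul_right h.cYB
  have cYZ := h.cZY.symm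
  have yX' := h.yX
  have yZ' := h.yZ
  have hRPZ : R * P = P * R := h.cPR.eq.symm
  have pZ := h.pZ
  obtain ⟨Z, hZ⟩ : ∃ Z, Z = P * R := ⟨_, rfl⟩
  obtain ⟨X, hX⟩ : ∃ X, X = Y * B := ⟨_, rfl⟩
  simp only [← hZ, ← hX] at *
  obtain ⟨κ, hκ⟩ : ∃ κ, κ = P * X * P * X := ⟨_, rfl⟩
  rw [← hκ] at tk ⊢
  have PP := h.PP
  -- commutations of `κ`
  have hcκ : ∀ g : G, Commute g P → Commute g X → Commute g κ := by
    intro g h1 h2
    rw [hκ]
    exact ((h1.mul_right h2).mul_right h1).mul_right h2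
  have hc0 : ∀ g : G, Commute g P → Commute g X → Commute g Z → Commute g (κ * Z) :=
    fun g h1 h2 h3 => (hcκ g h1 h2).mul_right h3
  have kt : Commute t (κ * Z) := by
    have e1 : t * (κ * Z) * t = κ * Z := by
      calc t * (κ * Z) * t = (t * κ * t) * (t * Z * t) := by
            have : (t * κ * t) * (t * Z * t) = t * (κ * (t * t) * Z) * t := by group
            rw [this, c.tt, mul_one]
        _ = κ * (F f [1, 3] * Z) * F f [1, 3] := by rw [tk, tz]; group
        _ = κ * Z * (F f [1, 3] * F f [1, 3]) := by rw [zZ.eq]; group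
        _ = κ * Z := by rw [F_sq (by decide +kernel), mul_one]
    show t * (κ * Z) = κ * Z * t
    calc t * (κ * Z) = (t * (κ * Z) * t) * t⁻¹ := by group
      _ = _ := by rw [e1, c.inv_t]
  have ky := hc0 _ h.yP yX' yZ'
  have kz := hc0 _ h.zP zX zZ
  have kw := hc0 _ y1 yX yZ
  have kY := hc0 _ h.cYP cYX cYZ
  -- `κ Z` commutes with `p`
  have kp : Commute (F f [1]) (κ * Z) := by
    have e1 : F f [1] * κ = κ * F f [1] := by
      calc F f [1] * κ = (F f [1] * P) * X * P * X := by rw [hκ]; group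
        _ = P * (F f [1] * X) * P * X := by rw [h.pP.eq]; group
        _ = P * Z * X * (F f [1] * P) * X := by rw [pX]; group
        _ = P * Z * X * P * (F f [1] * X) := by rw [h.pP.eq]; group
        _ = P * (Z * X) * (P * Z) * X * F f [1] := by rw [pX]; group
        _ = P * X * (Z * Z) * P * X * F f [1] := by rw [cZX.eq, ← cZP.eq]; group
        _ = κ * F f [1] := by rw [ZZ, hκ]; group
    exact (show Commute (F f [1]) κ from e1).mul_right pZ
  obtain ⟨σ, v, hv, hσ⟩ := decomp2 c kt.eq.symm (by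
    have := ky.eq
    rw [F, wd_y] at this
    exact this.symm) (τ := Equiv.swap 0 1) (Equiv.Perm.sign_swap (by decide)) (by
    rw [w_p, ← wd_p]
    exact kp.eq.symm)
  have hσz := comm_sigma c hv hσ (τ := Equiv.swap 0 1 * Equiv.swap 2 3)
    (by rw [map_mul, w_p, w_r, ← wd_pr]; exact kz)
  have hvY : Commute Y v := by
    have e : v = (κ * Z) * (f (w σ))⁻¹ := by rw [hσ]; group
    rw [e]
    exact kY.mul_right (hLw σ).inv_right
  have hwl : ∃ l : List ℕ, (l = [] ∨ l = [1, 3] ∨ l = [1] ∨ l = [3] ∨ l = [2, 1, 3, 2] ∨ l = [3, 2, 1, 3, 2, 3] ∨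
      l = [1, 2, 1, 3, 2] ∨ l = [2, 1, 3, 2, 1]) ∧ f (w σ) = F f l := by
    rcases w_words σ hσz with e | e | e | e | e | e | e | e
    · exact ⟨_, Or.inl rfl, by rw [e]; rfl⟩
    · exact ⟨_, Or.inr (Or.inl rfl), by rw [e]; rfl⟩
    · exact ⟨_, Or.inr (Or.inr (Or.inl rfl)), by rw [e]; rfl⟩
    · exact ⟨_, Or.inr (Or.inr (Or.inr (Or.inl rfl))), by rw [e]; rfl⟩
    · exact ⟨_, Or.inr (Or.inr (Or.inr (Or.inr (Or.inl rfl)))), by rw [e]; rfl⟩
    · exact ⟨_, Or.inr (Or.inr (Or.inr (Or.inr (Or.inr (Or.inl rfl))))), by rw [e]; rfl⟩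
    · exact ⟨_, Or.inr (Or.inr (Or.inr (Or.inr (Or.inr (Or.inr (Or.inl rfl)))))), by rw [e]; rfl⟩
    · exact ⟨_, Or.inr (Or.inr (Or.inr (Or.inr (Or.inr (Or.inr (Or.inr rfl)))))), by rw [e]; rfl⟩
  obtain ⟨l, hl, hwσ⟩ := hwl
  have hv1 : v = 1 := by
    rcases hL0 v hv hvY with h1 | h1
    · exact h1
    exfalso
    rw [hwσ, h1, ← F_append] at hσ
    rw [hσ] at kw
    have e2 : F f (wy ++ ([0] ++ l)) = F f (([0] ++ l) ++ wy) := by
      rw [F_append, F_append (f := f) ([0] ++ l)]; exact kw.eq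
    have e3 := F_inj c e2
    rcases hl with rfl | rfl | rfl | rfl | rfl | rfl | rfl | rfl <;> exact absurd e3 (by decide +kernel)
  rw [hv1, one_mul, hwσ] at hσ
  -- `P` and `X` invert `κ Z`
  have iZ : Z⁻¹ = Z := inv_of_sq ZZ
  have iP : P⁻¹ = P := inv_of_sq PP
  have iX : X⁻¹ = X := inv_of_sq XX
  have e1 : P * (κ * Z) * P = (κ * Z)⁻¹ := by
    calc P * (κ * Z) * P = (P * P) * X * P * X * (Z * P) := by rw [hκ]; group
      _ = X * P * (X * P) * Z := by rw [PP, cZP.eq]; group
      _ = Z * (X * P * X * P) := by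
        have : Commute Z (X * P * (X * P)) := (cZX.mul_right cZP).mul_right (cZX.mul_right cZP)
        rw [← this.eq]; group
      _ = (κ * Z)⁻¹ := by rw [hκ]; simp only [mul_inv_rev, iZ, iP, iX]; group
  have e2 : X * (κ * Z) * X = (κ * Z)⁻¹ := by
    calc X * (κ * Z) * X = (X * P * X * P) * (X * Z * X) := by rw [hκ]; group
      _ = (X * P * X * P) * (Z * (X * X)) := by rw [← cZX.eq]; group
      _ = (X * P * (X * P)) * Z := by rw [XX]; group
      _ = Z * (X * P * X * P) := by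
        have : Commute Z (X * P * (X * P)) := (cZX.mul_right cZP).mul_right (cZX.mul_right cZP)
        rw [← this.eq]; group
      _ = (κ * Z)⁻¹ := by rw [hκ]; simp only [mul_inv_rev, iZ, iP, iX]; group
  have hne : ∀ l' : List ℕ, Z ≠ F f l' := by
    intro l' h1
    have h2 : t * Z * t = Z := by rw [h1, (F_t c l').eq, mul_assoc, c.tt, mul_one]
    rw [tz] at h2
    have h3 : F f [1, 3] = F f [] := by
      rw [F_nil]; exact mul_left_cancel (h2.trans (mul_one Z).symm)
    exact absurd (F_inj c h3) (by decide +kernel)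
  rw [hσ] at e1 e2
  have hkey : κ = F f l * Z := by
    calc κ = (κ * Z) * Z⁻¹ := by group
      _ = _ := by rw [hσ, iZ]
  have hone : ∀ {a : List ℕ}, eqW (a ++ a) [] = true → (F f a)⁻¹ = F f a := fun h => inv_of_sq (F_sq h)
  have Pd : P * F f [2, 1, 3, 2] = F f [2, 1, 3, 2] * R := by
    have hdd : F f [2, 1, 3, 2] * F f [2, 1, 3, 2] = 1 := F_sq (by decide +kernel)
    calc P * F f [2, 1, 3, 2] = F f [2, 1, 3, 2] * (F f [2, 1, 3, 2] * P) * F f [2, 1, 3, 2] := by
          rw [← mul_assoc, hdd, one_mul]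
      _ = F f [2, 1, 3, 2] * R * (F f [2, 1, 3, 2] * F f [2, 1, 3, 2]) := by rw [dP]; group
      _ = _ := by rw [hdd, mul_one]
  rcases hl with rfl | rfl | rfl | rfl | rfl | rfl | rfl | rfl
  · left
    rw [hkey, F_nil, one_mul]
  · right
    rw [hkey, zZ.eq]
  · exfalso
    rw [hone (by decide +kernel)] at e2
    have e3 : X * F f [1] * X = Z * F f [1] := by
      calc X * F f [1] * X = X * (F f [1] * X) := by group
        _ = X * Z * X * F f [1] := by rw [pX]; group
        _ = Z * (X * X) * F f [1] := by rw [← cZX.eq]; group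
        _ = _ := by rw [XX, mul_one]
    rw [e3] at e2
    apply hne []
    rw [F_nil]
    exact mul_right_cancel (e2.trans (one_mul _).symm)
  · exfalso
    rw [hone (by decide +kernel)] at e2
    have e3 : X * F f [3] * X = Z * F f [3] := by
      calc X * F f [3] * X = X * (F f [3] * X) := by group
        _ = X * Z * X * F f [3] := by rw [rX]; group
        _ = Z * (X * X) * F f [3] := by rw [← cZX.eq]; group
        _ = _ := by rw [XX, mul_one]
    rw [e3] at e2
    apply hne []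
    rw [F_nil]
    exact mul_right_cancel (e2.trans (one_mul _).symm)
  · exfalso
    rw [hone (by decide +kernel), Pd, mul_assoc, hRPZ] at e1
    apply hne []
    rw [F_nil]
    exact mul_left_cancel (e1.trans (mul_one _).symm)
  · exfalso
    rw [hone (by decide +kernel)] at e1
    have e4 : F f [3, 2, 1, 3, 2, 3] = F f [1, 3] * F f [2, 1, 3, 2] := by
      rw [← F_append]; exact F_eq (by decide +kernel)
    have e3 : P * F f [3, 2, 1, 3, 2, 3] * P = F f [3, 2, 1, 3, 2, 3] * Z := by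
      calc P * F f [3, 2, 1, 3, 2, 3] * P = (P * F f [1, 3]) * F f [2, 1, 3, 2] * P := by rw [e4]; group
        _ = F f [1, 3] * (P * F f [2, 1, 3, 2]) * P := by rw [← h.zP.eq]; group
        _ = F f [1, 3] * F f [2, 1, 3, 2] * (R * P) := by rw [Pd]; group
        _ = _ := by rw [hRPZ, e4]
    rw [e3] at e1
    apply hne []
    rw [F_nil]
    exact mul_left_cancel (e1.trans (mul_one _).symm)
  · exfalso
    have e4 : F f [1, 2, 1, 3, 2] = F f [1] * F f [2, 1, 3, 2] := by rw [← F_append]; rfl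
    have e5 : (F f [1, 2, 1, 3, 2])⁻¹ = F f [2, 1, 3, 2, 1] := by
      apply inv_eq_of_mul_eq_one_left
      rw [← F_append, ← F_nil (f := f)]; exact F_eq (by decide +kernel)
    have e3 : P * F f [1, 2, 1, 3, 2] * P = F f [1, 2, 1, 3, 2] * Z := by
      calc P * F f [1, 2, 1, 3, 2] * P = (P * F f [1]) * F f [2, 1, 3, 2] * P := by rw [e4]; group
        _ = F f [1] * (P * F f [2, 1, 3, 2]) * P := by rw [← h.pP.eq]; group
        _ = F f [1] * F f [2, 1, 3, 2] * (R * P) := by rw [Pd]; group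
        _ = _ := by rw [hRPZ, e4]
    rw [e3, e5] at e1
    apply hne ([2, 1, 3, 2, 1] ++ [2, 1, 3, 2, 1])
    rw [F_append]
    calc Z = (F f [1, 2, 1, 3, 2])⁻¹ * (F f [1, 2, 1, 3, 2] * Z) := by group
      _ = _ := by rw [e1, e5]
  · exfalso
    have e4 : F f [2, 1, 3, 2, 1] = F f [2, 1, 3, 2] * F f [1] := by rw [← F_append]; rfl
    have e5 : (F f [2, 1, 3, 2, 1])⁻¹ = F f [1, 2, 1, 3, 2] := by
      apply inv_eq_of_mul_eq_one_left
      rw [← F_append, ← F_nil (f := f)]; exact F_eq (by decide +kernel)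
    have e3 : P * F f [2, 1, 3, 2, 1] * P = F f [2, 1, 3, 2, 1] * Z := by
      calc P * F f [2, 1, 3, 2, 1] * P = (P * F f [2, 1, 3, 2]) * (F f [1] * P) := by rw [e4]; group
        _ = F f [2, 1, 3, 2] * (R * P) * F f [1] := by rw [Pd, h.pP.eq]; group
        _ = F f [2, 1, 3, 2] * (F f [1] * Z) := by rw [hRPZ, pZ.eq]; group
        _ = _ := by rw [e4]; group
    rw [e3, e5] at e1
    apply hne ([1, 2, 1, 3, 2] ++ [1, 2, 1, 3, 2])
    rw [F_append]
    calc Z = (F f [2, 1, 3, 2, 1])⁻¹ * (F f [2, 1, 3, 2, 1] * Z) := by group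
      _ = _ := by rw [e1, e5]

end Cfsg.Agent.CoThreeStd.Gamma
end

-- part: CoThreeStd/GammaKillData
section
set_option autoImplicit false
set_option maxRecDepth 100000

namespace Cfsg.Agent.CoThreeStd.GammaKillData

open Cfsg.Agent.SporadicRecognition.CosetCert

noncomputable def tree : Tr := (.N 32 (.N 16 (.L 0xfffffffffffffffffffff42169a63f13fff5858bfffffffffffffffffffffffffffd6d6fffcf440fffce435c468e5a097fff474a724fffcf0afffe7ffffffccc3fffffff381a15f988ffff362d3948f827ffffffffff300fffffffe562ffffffffffdbfff2b0bfffffffffffffcb87fffffff3534bcb9fffda5a270bfff9085bdcfffe2e0fffcece2a263ffffffffff807c8c27b7bfff78749883230a4a6fffffff6c71d1bfffc7c265688882527ffffffd7fff1a05899fffd7d7fffcb4bfffffff1d187879fffffff1607ffffffcdcd5759495fffc70719163ffffffffff4d50441fffd050494c54313146066fffd192ffffffffffd1110f0ffff40408483e3d3e423a38d0dfffcc4c0e044040c0c5050a0bfff1fffcb0b282bfff2424808050424208082c307093fff1b1c5c6fffc4850d0c18204040c10204041f) (.L 0xfffffffdbc75b1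d1c31eefffe28a8e827648d74fffffffffff7f27fff836618dffffffffffe09c7fffffff7e27ffffffde89ffff2ef7d6ffff91857ffffffffffffff3afcabffff7725e5d968a3203fffffff6b21d577261c0a875312efffdb92817e3ffffffffff7321a88fffffff766df1efffffff6fffda0affffffffffffff6423ffffffd9d1fffd3ffffffd847fffffff847ffffffffffffffffff8ffffffffffd8077173ffffffffffffffffffffdffffffffffffffd787fffffffffffffffffd8d96fffffffffffffffffffff561bfff5a3ffff59413fffffff02dfffffff998ef2c5119555fffd5133ffffffffffd305fffe2528872c69fffd4144f35ffffb9aedaab0a6b68fffe9e648152d34a4d4d53fffd144fffffffffffffffffeaa7fffdb5cfffe7ffffffd74efffffff4313ffffffffff666bfff5)) (.N 48 (.L 0xffffffffffffffd083fffd4abfffd3bb7b2fffdbffffffffffffff3ddc977fffcc7b36fffff5f15ffffffff48ffffffff220c6a70dcd2c3ffffffcfd60fffefd5fffffffffffffffffffffffff0a88fffffffffffffffffffffbb57fffbeb3ffffffd3fffb84fffffffffffffffaf4ffffffffffffff9fffffffb54fffffffffffffffffffffeeabfffe3fffffffcb2af4ffffb39f16eb252deafffffff7f677ffffffffffac4ffffffffffffffeba8c1b5bfffefdbb75fffffffb4a7fffa94bffffffffff3ffffab4ffffffffffffffa84e950fffffffbdb0fffffffffffa43a7cefffffffe3cffffa287fff6ffff9f3ffff8b3ddcbfffab9e6cefffe7a0fffcffffffffffffffffff9a57fff9737ffffffffff3f777ffffffffffffffffffffe50cffffffffffcfffffffffff932a3cafffffffd9c7fffa19649e6)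 (.L 0xffffba7fffffffffffffff1cffffffffffffffe7cebffffb27ffffffffffffffffffffffffffff8ffffa66fffffffffffffffffffffffffffffffe7fffe893fffe193fffffffc36e497fffe5c7fff7ffffffffffffffdc9382bfffffffffff7f0fffdbfffffff6a0d583fffffffffffffffffe6cf62f7)))

noncomputable def wtree : WT := (.N 23 (.N 11 (.N 5 (.N 2 (.N 1 (.L 0 [4,0,4]) (.L 2 [4,2,4])) (.N 3 (.L 3 [4,3,4]) (.N 4 (.L 3 [1,3,1]) (.L 5 [1,4,1])))) (.N 8 (.N 6 (.L 1 [6,1,6]) (.N 7 (.L 2 [5,2,6]) (.L 0 [6,0,8]))) (.N 9 (.L 1 [8,1,9]) (.N 10 (.L 0 [1,0,1,0,1]) (.L 1 [4,1,5]))))) (.N 17 (.N 14 (.N 12 (.L 3 [5,3,5]) (.N 13 (.L 4 [9,4,9]) (.L 1 [9,1,8]))) (.N 15 (.L 5 [8,5,8]) (.N 16 (.L 4 [2,4,2]) (.L 1 [3,1,3])))) (.N 20 (.N 18 (.L 2 [3,2,3,2,3]) (.N 19 (.L 0 [5,0,7]) (.L 1 [0,1,0,1,0]))) (.N 21 (.L 0 [3,0,3]) (.N 22 (.L 2 [0,2,0]) (.L 8 [4,9,0,2,4,5,8,4,5])))))) (.N 34 (.N 28 (.N 25 (.N 24 (.L 1 [5,1,4]) (.L 9 [1,8,1])) (.N 26 (.L 6 [7,4,9,5,8]) (.N 27 (.L 7 [6,8,5,9,4]) (.L 7 [6,7,6])))) (.N 31 (.N 29 (.L 3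 [7,3,7]) (.N 30 (.L 2 [6,2,5]) (.L 8 [2,7,2]))) (.N 32 (.L 5 [0,7,0]) (.N 33 (.L 4 [8,5,4,2,0,9,4,8,5]) (.L 4 [0,4,0]))))) (.N 40 (.N 37 (.N 35 (.L 0 [8,0,6]) (.N 36 (.L 7 [0,5,0]) (.L 5 [3,5,3]))) (.N 38 (.L 7 [4,9,5,8,6]) (.N 39 (.L 4 [3,4,3]) (.L 2 [7,2,8])))) (.N 43 (.N 41 (.L 6 [2,5,2]) (.N 42 (.L 8 [0,6,0]) (.L 8 [5,9,4,7,6]))) (.N 44 (.L 10 [8,5,8,5]) (.N 45 (.L 8 [4,5,8,4,9,0,2,4,5]) (.L 10 [5,8,5,8])))))))

noncomputable def stree : ST := (.N 2 (.N 1 (.L 0 [] []) (.L 1 [] [])) (.N 3 (.L 2 [] []) (.L 3 [] [])))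

noncomputable def C : Cert where
  data := tree
  lm := 15
  rb := 158
  fb := 14
  mask := 16383
  B := 64
  k := 10
  N := 54
  inv := fun x => x
  words := wtree
  subs := stree

/-- letters: 0 = p, 1 = q, 2 = r, 3 = s, 4 = h, 5 = a, 6 = b, 7 = c, 8 = d, 9 = e -/
def rels : List (List Nat) := [[0,2,0,2], [0,3,0,3], [1,3,1,3], [4,0,4,0], [4,2,4,2], [4,3,4,3], [1,4,1,5], [2,5,2,6], [0,5,0,7], [0,6,0,8], [2,7,2,8], [1,8,1,9], [5,3,5,3], [7,3,7,3], [6,1,6,1], [6,1,6,1], [6,1,6,1], [4,9,4,9], [5,8,5,8], [6,7,6,7], [0,1,0,1,0,1], [1,2,1,2,1,2], [2,3,2,3,2,3], [4,9,5,8,6,7], [4,5,8,4,5,8,4,9,0,2]]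

def subw : List (List Nat) := [[0], [1], [2], [3]]

/-- targets:  hqh -/
def targets : List (List Nat) := [[4,1,4]]

end Cfsg.Agent.CoThreeStd.GammaKillData
end

-- part: CoThreeStd/GammaKillChk0
section
set_option autoImplicit false
set_option maxRecDepth 100000

namespace Cfsg.Agent.CoThreeStd.GammaKillChk0

open Cfsg.Agent.SporadicRecognition.CosetCert Cfsg.Agent.Lib.CosetPartial Cfsg.Agent.CoThreeStd.GammaKillData

theorem c0 : PartP C 0 54 := runP_sound C (by decide +kernel : runP C 10 1023 0x40000000000020000000000000010000000000000000000000400000000000000000000000080000400000c30080040c00000000000110c00000000080000293004000000000000008020000000001000f30000214c000000000002004000091300123002c300000008020046300000000010000000000000000000200000000000000100013000000040000000000c300000000000000100000000000000020c00002a30040090e6300a73000000000000001000000000014c730080200000008000040000000008000000000002004000000300000008010000070c000080060c000080200263004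000080000000000000080000400000000000000000000000040000000000008cc010000070c0014c02000020080290c000055340c0200000004007cc020000000002001e300000004002cc02002230000000283008000051340d43000016cc0200a1300800009230000068c010000070dd30000060c00000000000100000008000000100000008000000000000000000059300000000000000000000000010000000000000730000000000000010015300002000020000090c020055300002000000040010c0270c004cc020080200802002630051340d430040000000000000080034c00000020000000400000005cc00000000000000002008010000300000000000000000002000010056394c02000c30080000800000010000000a03008000092300000000010000000800000000040000000000020000034c03008010000238c000080020c020000000801008000080214c730000200800004022cc63000000040200002000c30000000893000010000038c020080020c020000000801000f30080214c730080000000008010000228c020080200002008020cc630040000802000020080108c1300803008020000210c020d42505405 20 1048575 0x2b300000000000000000000000000000000000002d6000000000000000000007ec0700000000000000000000000009dc1700000000000000000000000000000000000000000000000000000000000000000000000000000000000000000000000000000000072137000000000000000000000000000000000000000020b670000000000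 0 54 = true)

theorem all : PartP C 0 54 := c0

end Cfsg.Agent.CoThreeStd.GammaKillChk0
end

-- part: CoThreeStd/GammaKill
section
set_option autoImplicit false
set_option maxRecDepth 100000

namespace Cfsg.Agent.CoThreeStd.GammaKill

open Cfsg.Agent.SporadicRecognition.CosetCert Cfsg.Agent.Lib.CosetPartial Cfsg.Agent.CoThreeStd.GammaKillData

theorem part : PartP C 0 C.N := Cfsg.Agent.CoThreeStd.GammaKillChk0.all

/-- every target word lies in `H` as soon as the relators hold and the subgroup words lie in `H` -/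
theorem mem {G : Type*} [Group G] (H : Subgroup G) (g : Nat → G)
    (hinv : ∀ x, x < 10 → g x * g (C.inv x) = 1)
    (hrel : ∀ r ∈ rels, ev g r = 1) (hsub : ∀ s ∈ subw, ev g s ∈ H) :
    ∀ w ∈ targets, ev g w ∈ H :=
  mem_of_checks C H g rels subw targets (by decide +kernel) hinv hrel hsub part (by decide +kernel)

end Cfsg.Agent.CoThreeStd.GammaKill
end

-- part: CoThreeStd/GammaGood
section
/-!
# S1750, pattern γ, the bad case is killed by a coset enumeration (helper781)
-/

set_option autoImplicit false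

namespace Cfsg.Agent.CoThreeStd.Gamma

open Cfsg.Agent.CoThreeStd.MTwelve Cfsg.Agent.CoThreeStd.Fusion Cfsg.Agent.SporRec.Co3
open Cfsg.Agent.SporadicRecognition.CosetCert (ev ev_nil ev_cons ev_append)

variable {G : Type*} [Group G] {t : G} {f : H →* G} {L : H → G}

/-- the letters of the certificate -/
def kg (f : H →* G) (L : H → G) : Nat → G
  | 0 => F f [1]
  | 1 => F f [2]
  | 2 => F f [3]
  | 3 => F f [4]
  | 4 => Lw L [1]
  | 5 => Lw L [2, 1, 2]
  | 6 => Lw L [3, 2, 1, 2, 3]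
  | 7 => Lw L [2]
  | 8 => Lw L [2, 3, 2]
  | 9 => Lw L [3]
  | _ => 1

theorem kg_sq (S : Sys t f L) (x : ℕ) (hx : x < 10) : kg f L x * kg f L x = 1 := by
  interval_cases x
  · exact F_sq (by decide +kernel)
  · exact F_sq (by decide +kernel)
  · exact F_sq (by decide +kernel)
  · exact F_sq (by decide +kernel)
  · exact S.sqw _
  · exact S.sqw _
  · exact S.sqw _
  · exact S.sqw _
  · exact S.sqw _
  · exact S.sqw _

theorem rel_comm {a b : G} (h : Commute a b) (ha : a * a = 1) (hb : b * b = 1) : a * (b * (a * (b * 1))) = 1 := by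
  calc a * (b * (a * (b * 1))) = a * (b * a) * b := by group
    _ = a * (a * b) * b := by rw [h.eq]
    _ = (a * a) * (b * b) := by group
    _ = 1 := by rw [ha, hb, one_mul]

theorem rel_conj {m a b : G} (h : m⁻¹ * a * m = b) (hm : m * m = 1) (hb : b * b = 1) :
    m * (a * (m * (b * 1))) = 1 := by
  have h1 : m⁻¹ = m := inv_of_sq hm
  rw [h1] at h
  calc m * (a * (m * (b * 1))) = (m * a * m) * b := by group
    _ = 1 := by rw [h, hb]

theorem ev_two (g : Nat → G) (a b c d : ℕ) : ev g [a, b, c, d] = g a * (g b * (g c * (g d * 1))) := by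
  simp only [ev_cons, ev_nil]

theorem ev_F (L : H → G) (a : List ℕ) (h : ∀ x ∈ a, x < 4) : ev (kg f L) a = F f (a.map (· + 1)) := by
  induction a with
  | nil => rw [ev_nil]; exact F_nil.symm
  | cons x a ih =>
    rw [ev_cons, ih (fun z hz => h z (List.mem_cons_of_mem _ hz)), List.map_cons, F_cons (x + 1)]
    congr 1
    have := h x List.mem_cons_self
    interval_cases x <;> rfl

theorem ev_F_one (L : H → G) (a : List ℕ) (h : ∀ x ∈ a, x < 4) (h1 : eqW (a.map (· + 1)) [] = true) :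
    ev (kg f L) a = 1 := by
  rw [ev_F L a h, F_eq h1, F_nil]

/-- The good case holds. -/
theorem good (c : Cx t f) (S : Sys t f L) :
    Lw L [1] * (Lw L [0] * Lw L wB) * Lw L [1] * (Lw L [0] * Lw L wB) = Lw L [1] * Lw L [3] := by
  rcases kappa c S with h | h
  · exact h
  exfalso
  have hf := facts c S
  have h1 : Lw L [2, 1, 2] * Lw L [2, 3, 2] = Lw L [0] * Lw L wB :=
    hrel c S [2] (by decide +kernel) (by decide +kernel) (by decide +kernel) (by decide +kernel)
  have h2 : Lw L [3, 2, 1, 2, 3] * Lw L [2] = Lw L [0] * Lw L wC :=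
    hrel c S [2, 3] (by decide +kernel) (by decide +kernel) (by decide +kernel) (by decide +kernel)
  have hrel' : ∀ r ∈ GammaKillData.rels, ev (kg f L) r = 1 := by
    intro r hr
    simp only [GammaKillData.rels, List.mem_cons, List.not_mem_nil, or_false] at hr
    rcases hr with rfl | rfl | rfl | rfl | rfl | rfl | rfl | rfl | rfl | rfl | rfl | rfl | rfl | rfl | rfl | rfl |
      rfl | rfl | rfl | rfl | rfl | rfl | rfl | rfl | rfl
    · exact ev_F_one L _ (by decide) (by decide +kernel)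
    · exact ev_F_one L _ (by decide) (by decide +kernel)
    · exact ev_F_one L _ (by decide) (by decide +kernel)
    · rw [ev_two]
      exact rel_comm (S.cmw [1] [1] (by decide +kernel)).symm (S.sqw _) (F_sq (by decide +kernel))
    · rw [ev_two]
      exact rel_comm (S.cmw [1] [3] (by decide +kernel)).symm (S.sqw _) (F_sq (by decide +kernel))
    · rw [ev_two]
      exact rel_comm (S.cmw [1] [4] (by decide +kernel)).symm (S.sqw _) (F_sq (by decide +kernel))
    · rw [ev_two]
      exact rel_conj (S.cjw (x := [1]) (x' := [2, 1, 2]) [2] (by decide +kernel)) (F_sq (by decide +kernel))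
        (S.sqw _)
    · rw [ev_two]
      exact rel_conj (S.cjw (x := [2, 1, 2]) (x' := [3, 2, 1, 2, 3]) [3] (by decide +kernel))
        (F_sq (by decide +kernel)) (S.sqw _)
    · rw [ev_two]
      exact rel_conj (S.cjw (x := [2, 1, 2]) (x' := [2]) [1] (by decide +kernel))
        (F_sq (by decide +kernel)) (S.sqw _)
    · rw [ev_two]
      exact rel_conj (S.cjw (x := [3, 2, 1, 2, 3]) (x' := [2, 3, 2]) [1] (by decide +kernel))
        (F_sq (by decide +kernel)) (S.sqw _)
    · rw [ev_two]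
      exact rel_conj (S.cjw (x := [2]) (x' := [2, 3, 2]) [3] (by decide +kernel))
        (F_sq (by decide +kernel)) (S.sqw _)
    · rw [ev_two]
      exact rel_conj (S.cjw (x := [2, 3, 2]) (x' := [3]) [2] (by decide +kernel))
        (F_sq (by decide +kernel)) (S.sqw _)
    · rw [ev_two]
      exact rel_comm (S.cmw [2, 1, 2] [4] (by decide +kernel)).symm (S.sqw _) (F_sq (by decide +kernel))
    · rw [ev_two]
      exact rel_comm (S.cmw [2] [4] (by decide +kernel)).symm (S.sqw _) (F_sq (by decide +kernel))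
    · rw [ev_two]
      exact rel_comm (S.cmw [3, 2, 1, 2, 3] [2] (by decide +kernel)).symm (S.sqw _) (F_sq (by decide +kernel))
    · rw [ev_two]
      exact rel_comm (S.cmw [3, 2, 1, 2, 3] [2] (by decide +kernel)).symm (S.sqw _) (F_sq (by decide +kernel))
    · rw [ev_two]
      exact rel_comm (S.cmw [3, 2, 1, 2, 3] [2] (by decide +kernel)).symm (S.sqw _) (F_sq (by decide +kernel))
    · rw [ev_two]
      exact rel_comm hf.cPR (S.sqw _) (S.sqw _)
    · rw [ev_two]
      exact rel_comm (cp c S [2] (l1 := [2, 1, 2]) (l2 := [2, 3, 2]) (by decide +kernel) (by decide +kernel))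
        (S.sqw _) (S.sqw _)
    · rw [ev_two]
      exact rel_comm (cp c S [2, 3] (l1 := [3, 2, 1, 2, 3]) (l2 := [2]) (by decide +kernel) (by decide +kernel))
        (S.sqw _) (S.sqw _)
    · exact ev_F_one L _ (by decide) (by decide +kernel)
    · exact ev_F_one L _ (by decide) (by decide +kernel)
    · exact ev_F_one L _ (by decide) (by decide +kernel)
    · show ev (kg f L) [4, 9, 5, 8, 6, 7] = 1
      simp only [ev_cons, ev_nil]
      show Lw L [1] * (Lw L [3] * (Lw L [2, 1, 2] * (Lw L [2, 3, 2] * (Lw L [3, 2, 1, 2, 3] * (Lw L [2] * 1))))) = 1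
      have e := hf.YC
      calc Lw L [1] * (Lw L [3] * (Lw L [2, 1, 2] * (Lw L [2, 3, 2] * (Lw L [3, 2, 1, 2, 3] * (Lw L [2] * 1)))))
          = Lw L [1] * Lw L [3] * (Lw L [2, 1, 2] * Lw L [2, 3, 2]) * (Lw L [3, 2, 1, 2, 3] * Lw L [2]) := by group
        _ = Lw L [1] * Lw L [3] * (Lw L [0] * Lw L wB) * (Lw L [1] * Lw L [3] * (Lw L [0] * Lw L wB)) := by
          rw [h1, h2, e]
        _ = Lw L [1] * Lw L [3] * (Lw L [0] * Lw L wB) * ((Lw L [0] * Lw L wB) * (Lw L [1] * Lw L [3])) := by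
          rw [hf.cZX.eq]
        _ = Lw L [1] * Lw L [3] * ((Lw L [0] * Lw L wB) * (Lw L [0] * Lw L wB)) * (Lw L [1] * Lw L [3]) := by group
        _ = 1 := by rw [hf.XX, mul_one, hf.ZZ]
    · show ev (kg f L) [4, 5, 8, 4, 5, 8, 4, 9, 0, 2] = 1
      simp only [ev_cons, ev_nil]
      show Lw L [1] * (Lw L [2, 1, 2] * (Lw L [2, 3, 2] * (Lw L [1] * (Lw L [2, 1, 2] * (Lw L [2, 3, 2] *
        (Lw L [1] * (Lw L [3] * (F f [1] * (F f [3] * 1))))))))) = 1
      have e : F f [1] * F f [3] = F f [1, 3] := by rw [← F_append]; rfl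
      calc Lw L [1] * (Lw L [2, 1, 2] * (Lw L [2, 3, 2] * (Lw L [1] * (Lw L [2, 1, 2] * (Lw L [2, 3, 2] *
          (Lw L [1] * (Lw L [3] * (F f [1] * (F f [3] * 1)))))))))
          = (Lw L [1] * (Lw L [2, 1, 2] * Lw L [2, 3, 2]) * Lw L [1] * (Lw L [2, 1, 2] * Lw L [2, 3, 2])) *
            (Lw L [1] * Lw L [3]) * (F f [1] * F f [3]) := by group
        _ = Lw L [1] * Lw L [3] * (F f [1, 3] * (Lw L [1] * Lw L [3])) * F f [1, 3] := by rw [h1, h, e]; group
        _ = (Lw L [1] * Lw L [3]) * (Lw L [1] * Lw L [3]) * (F f [1, 3] * F f [1, 3]) := by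
          rw [hf.zZ.eq]; group
        _ = 1 := by rw [hf.ZZ, one_mul, F_sq (by decide +kernel)]
  have hinv : ∀ x, x < 10 → kg f L x * kg f L (GammaKillData.C.inv x) = 1 := by
    intro x hx
    exact kg_sq S x hx
  have hsub : ∀ s ∈ GammaKillData.subw, ev (kg f L) s ∈ Subgroup.centralizer ({t} : Set G) := by
    intro s hs
    rw [Subgroup.mem_centralizer_singleton_iff]
    have : ∃ l, ev (kg f L) s = F f l := by
      refine ⟨_, ev_F L s ?_⟩
      revert s
      decide
    obtain ⟨l, hl⟩ := this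
    rw [hl]
    exact (F_t c l).eq.symm
  have h3 := GammaKill.mem (Subgroup.centralizer ({t} : Set G)) (kg f L) hinv hrel' hsub [4, 1, 4]
    (by simp [GammaKillData.targets])
  rw [Subgroup.mem_centralizer_singleton_iff] at h3
  have e1 : ev (kg f L) [4, 1, 4] = Lw L [1] * F f [2] * Lw L [1] := by
    simp only [ev_cons, ev_nil]
    show Lw L [1] * (F f [2] * (Lw L [1] * 1)) = _
    group
  rw [e1] at h3
  have tP := hf.tP
  have pP := hf.pP
  have cq := F_t c [2]
  set P := Lw L [1]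
  have e2 : P * F f [1] * F f [2] * F f [1] * P = P * F f [2] * P := by
    calc P * F f [1] * F f [2] * F f [1] * P = (P * F f [1]) * F f [2] * (F f [1] * P) := by group
      _ = (t * P * t) * F f [2] * (t * P * t) := by rw [pP.eq, tP]
      _ = t * P * (t * F f [2]) * t * P * t := by group
      _ = t * P * F f [2] * (t * t) * P * t := by rw [cq.eq]; group
      _ = t * (P * F f [2] * P * t) := by rw [c.tt]; group
      _ = (t * t) * (P * F f [2] * P) := by rw [h3]; group
      _ = _ := by rw [c.tt, one_mul]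
  have e3 : F f [1, 2, 1] = F f [2] := by
    have e4 : F f [1, 2, 1] = F f [1] * F f [2] * F f [1] := by rw [← F_append, ← F_append]; rfl
    rw [e4]
    apply mul_left_cancel (a := P)
    apply mul_right_cancel (b := P)
    rw [← e2]; group
  exact absurd (F_inj c e3) (by decide +kernel)

end Cfsg.Agent.CoThreeStd.Gamma
end

-- part: CoThreeStd/GammaMain
section
/-!
# S1750, pattern γ is dead (helper781)
-/

set_option autoImplicit false

namespace Cfsg.Agent.CoThreeStd.Gamma

open Cfsg.Agent.CoThreeStd.MTwelve Cfsg.Agent.CoThreeStd.Fusion Cfsg.Agent.SporRec.Co3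

variable {G : Type*} [Group G] {t : G} {f : H →* G} {L : H → G}

/-- `L e` commutes with `(L e')^t` -/
def Th (t : G) (L : H → G) (e e' : List ℕ) : Prop := Commute (Lw L e) (t * Lw L e' * t)

theorem Th_base (c : Cx t f) (S : Sys t f L) : Th t L [1] wB := by
  have hg := good c S
  have h := facts c S
  have tY := h.tY
  have tX := h.tX
  have cZX := h.cZX
  have ZZ := h.ZZ
  have cYP := h.cYP
  have yP := h.yP
  have yX := h.yX
  have dP := h.dP
  have PP := h.PP
  have YY := h.YY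
  have YX : Lw L wB = Lw L [0] * (Lw L [0] * Lw L wB) := by rw [← mul_assoc, YY, one_mul]
  rw [Th]
  have hRP : Lw L [3] = Lw L [1] * (Lw L [1] * Lw L [3]) := by rw [← mul_assoc, PP, one_mul]
  have tB : t * Lw L wB * t = Lw L [0] * (Lw L [0] * Lw L wB) * F f [0] * F f [2, 1, 3, 2] := by
    calc t * Lw L wB * t = t * (Lw L [0] * (Lw L [0] * Lw L wB)) * t := by rw [← YX]
      _ = t * Lw L [0] * (t * t) * (Lw L [0] * Lw L wB) * t := by rw [c.tt]; group
      _ = (t * Lw L [0] * t) * (t * (Lw L [0] * Lw L wB) * t) := by group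
      _ = Lw L [0] * (F f [0] * (Lw L [0] * Lw L wB)) * F f [2, 1, 3, 2] := by rw [tY, tX]; group
      _ = _ := by rw [yX.eq]; group
  have cZP := h.cZP
  rw [tB]
  set Y := Lw L [0]
  set P := Lw L [1]
  set R := Lw L [3]
  set B := Lw L wB
  obtain ⟨Z, hZ⟩ : ∃ Z, Z = P * R := ⟨_, rfl⟩
  obtain ⟨X, hX⟩ : ∃ X, X = Y * B := ⟨_, rfl⟩
  rw [← hX] at hg yX cZX ⊢
  rw [← hZ] at hg hRP ZZ cZP cZX
  have e1 : P * X * P = Z * X := by
    have hXX : X * X = 1 := by rw [hX]; exact h.XX
    calc P * X * P = (P * X * P * X) * X⁻¹ := by group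
      _ = _ := by rw [hg, inv_of_sq hXX]
  set y' := F f [0]
  set d' := F f [2, 1, 3, 2]
  show P * (Y * X * y' * d') = Y * X * y' * d' * P
  symm
  calc Y * X * y' * d' * P = Y * X * y' * (d' * P) := by group
    _ = Y * X * y' * R * d' := by rw [dP]; group
    _ = Y * X * (y' * P) * Z * d' := by rw [hRP]; group
    _ = Y * (P * P) * X * P * (y' * Z) * d' := by rw [yP.eq, PP]; group
    _ = (Y * P) * (P * X * P) * (y' * Z) * d' := by group
    _ = P * Y * (Z * X) * (Z * y') * d' := by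
      have yZ : y' * Z = Z * y' := by rw [hZ]; exact (h.yZ).eq
      rw [e1, cYP.eq, yZ]
    _ = P * Y * X * (Z * Z) * y' * d' := by rw [cZX.eq]; group
    _ = _ := by rw [ZZ]; group

theorem Th_conj (c : Cx t f) (S : Sys t f L) {e e' e1 e1' : List ℕ} (h : Th t L e e') (m : List ℕ)
    (h1 : eqW (cj e m) e1 = true) (h2 : eqW (cj e' m) e1' = true) : Th t L e1 e1' := by
  apply conj_comm h (S.cjw m h1)
  have k1 := F_t c m
  have k2 : (F f m)⁻¹ * t = t * (F f m)⁻¹ := k1.symm.inv_left.eq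
  rw [← S.cjw m h2]
  calc (F f m)⁻¹ * (t * Lw L e' * t) * F f m = ((F f m)⁻¹ * t) * Lw L e' * (t * F f m) := by group
    _ = _ := by rw [k2, k1.eq]; group

theorem Th_symm (c : Cx t f) {e e' : List ℕ} (h : Th t L e e') : Th t L e' e := by
  show Lw L e' * (t * Lw L e * t) = (t * Lw L e * t) * Lw L e'
  have h1 : Lw L e * (t * Lw L e' * t) = (t * Lw L e' * t) * Lw L e := h
  have tt := c.tt
  calc Lw L e' * (t * Lw L e * t) = (t * t) * Lw L e' * (t * Lw L e * t) := by rw [tt, one_mul]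
    _ = t * ((t * Lw L e' * t) * Lw L e) * t := by group
    _ = t * (Lw L e * (t * Lw L e' * t)) * t := by rw [h1]
    _ = (t * Lw L e * t) * Lw L e' * (t * t) := by group
    _ = _ := by rw [tt, mul_one]

theorem F_LL (S : Sys t f L) {e : List ℕ} (m : List ℕ) (h : eqW (cj [0] m) e = true) :
    F f e = Lw L e * (t * Lw L e * t) := by
  rw [S.tw e m h, ← mul_assoc, S.sqw, one_mul]

theorem Th_self (S : Sys t f L) {e : List ℕ} (m : List ℕ) (h : eqW (cj [0] m) e = true) : Th t L e e := by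
  rw [Th, S.tw e m h]
  apply (Commute.refl _).mul_right
  apply Commute.symm
  exact S.comm rfl

theorem Th_closure (c : Cx t f) (S : Sys t f L) {e e' e'' : List ℕ} (m : List ℕ)
    (hm : eqW (cj [0] m) e'' = true) (h1 : Th t L e e') (h2 : Th t L e e'') (h3 : Th t L e'' e') :
    Th t L e (cj e' e'') := by
  have k1 := F_t c e''
  have k2 : t * (F f e'')⁻¹ = (F f e'')⁻¹ * t := k1.inv_right.eq
  have e1 : t * Lw L (cj e' e'') * t = (F f e'')⁻¹ * (t * Lw L e' * t) * F f e'' := by
    have e2 : Lw L (cj e' e'') = (F f e'')⁻¹ * Lw L e' * F f e'' := by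
      rw [Lw, wd_cj, ← S.conj]; rfl
    rw [e2]
    calc t * ((F f e'')⁻¹ * Lw L e' * F f e'') * t = (t * (F f e'')⁻¹) * Lw L e' * (F f e'' * t) := by group
      _ = _ := by rw [k2, ← k1.eq]; group
  have e3 : t * Lw L (cj e' e'') * t =
      (t * Lw L e'' * t)⁻¹ * (t * Lw L e' * t) * (t * Lw L e'' * t) := by
    rw [e1, F_LL S m hm]
    have h4 : (Lw L e'')⁻¹ * (t * Lw L e' * t) = (t * Lw L e' * t) * (Lw L e'')⁻¹ := (Commute.inv_left h3).eq
    calc (Lw L e'' * (t * Lw L e'' * t))⁻¹ * (t * Lw L e' * t) * (Lw L e'' * (t * Lw L e'' * t))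
        = (t * Lw L e'' * t)⁻¹ * ((Lw L e'')⁻¹ * (t * Lw L e' * t)) * (Lw L e'' * (t * Lw L e'' * t)) := by group
      _ = _ := by rw [h4]; group
  rw [Th, e3]
  exact (h2.inv_right.mul_right h1).mul_right h2

/-- words -/
def w5 : List ℕ := [0, 1, 3, 5, 0, 5, 0, 1, 3]
def w3 : List ℕ := [4, 5, 4]
def wa : List ℕ := [5, 0, 1, 3, 4, 3, 5]
def wc : List ℕ := [5, 1, 2, 3, 4, 3, 2, 1, 5]

theorem Th_y_w5 (c : Cx t f) (S : Sys t f L) : Th t L [0] w5 := by
  have h0 := Th_base c S
  have h1 : Th t L [0] wa := Th_conj c S h0 [2, 4, 5, 0, 2, 5, 1, 5] (by decide +kernel) (by decide +kernel)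
  have h2 : Th t L [0] wc := Th_conj c S h0 [5, 2, 1, 5, 0, 5, 1, 5] (by decide +kernel) (by decide +kernel)
  have h3 : Th t L wc wa := Th_conj c S h0 [2, 3, 4, 5] (by decide +kernel) (by decide +kernel)
  have h4 := Th_closure c S [5, 1, 2, 1, 3, 5, 4, 5] (e := [0]) (e' := wa) (e'' := wc) (by decide +kernel) h1 h2 h3
  rw [Th, Sys.eqw (L := L) (x := cj wa wc) (x' := w5) (by decide +kernel)] at h4
  exact h4

theorem Th_y_w3 (c : Cx t f) (S : Sys t f L) : Th t L [0] w3 :=
  Th_conj c S (Th_y_w5 c S) [0, 1, 2, 1, 3] (by decide +kernel) (by decide +kernel)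

theorem Th_w5_w3 (c : Cx t f) (S : Sys t f L) : Th t L w5 w3 :=
  Th_conj c S (Th_base c S) [1, 5, 2, 4, 3, 5, 4] (by decide +kernel) (by decide +kernel)

/-- letters `y, y₅, e₃` -/
def trip (i : ℕ) : List ℕ := if i = 0 then [0] else if i = 1 then w5 else w3

/-- words in the three elements -/
def wtrip (l : List ℕ) : List ℕ := (l.map trip).flatten

theorem Th_trip (c : Cx t f) (S : Sys t f L) : ∀ i < 3, ∀ j < 3, Th t L (trip i) (trip j) := by
  have h1 := Th_y_w5 c S
  have h2 := Th_y_w3 c S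
  have h3 := Th_w5_w3 c S
  have k1 : Th t L [0] [0] := Th_self S [] (by decide +kernel)
  have k2 : Th t L w5 w5 := Th_self S [5, 0, 1, 3] (by decide +kernel)
  have k3 : Th t L w3 w3 := Th_self S [5, 2, 3, 2, 1] (by decide +kernel)
  intro i hi j hj
  interval_cases i <;> interval_cases j
  · exact k1
  · exact h1
  · exact h2
  · exact Th_symm c h1
  · exact k2
  · exact h3
  · exact Th_symm c h2
  · exact Th_symm c h3
  · exact k3

/-- every element of `H` is a product of the three -/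
theorem trip_gen (K : Subgroup H) (h : ∀ i < 3, wd (trip i) ∈ K) (m : H) : m ∈ K := by
  have h1 : ∀ l : List ℕ, (∀ i ∈ l, i < 3) → wd (wtrip l) ∈ K := by
    intro l
    induction l with
    | nil => intro _; exact K.one_mem
    | cons i l ih =>
      intro hl
      have e : wtrip (i :: l) = trip i ++ wtrip l := rfl
      rw [e, wd_append]
      exact K.mul_mem (h i (hl i List.mem_cons_self)) (ih (fun j hj => hl j (List.mem_cons_of_mem _ hj)))
  have h2 : (Subgroup.closure {y, p, q, r, s, b} : Subgroup H) ≤ K := by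
    rw [Subgroup.closure_le]
    intro x hx
    simp only [Set.mem_insert_iff, Set.mem_singleton_iff] at hx
    rcases hx with rfl | rfl | rfl | rfl | rfl | rfl
    · rw [← wd_y]; exact h 0 (by norm_num)
    · rw [← wd_p, wd_eq (l := [1]) (l' := wtrip [0, 2, 1, 2, 0, 2, 1, 2, 0, 2, 1, 2]) (by decide +kernel)]
      exact h1 _ (by decide)
    · rw [← wd_q, wd_eq (l := [2]) (l' := wtrip [2, 1, 2, 0, 2, 0, 1, 2, 1, 0, 2, 0, 2, 1, 2]) (by decide +kernel)]
      exact h1 _ (by decide)
    · rw [← wd_r, wd_eq (l := [3]) (l' := wtrip [1, 2, 0, 1, 0, 1, 2, 1, 0, 2, 1, 2, 0, 2, 0, 1, 2])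
        (by decide +kernel)]
      exact h1 _ (by decide)
    · rw [← wd_s, wd_eq (l := [4]) (l' := wtrip [1, 2, 1, 0, 1, 0, 2, 1, 2, 0, 1, 0, 1, 2, 1]) (by decide +kernel)]
      exact h1 _ (by decide)
    · rw [← wd_b, wd_eq (l := [5]) (l' := wtrip [2, 1, 0, 2, 0, 2, 1, 0, 1, 2, 0, 2, 0, 1, 2]) (by decide +kernel)]
      exact h1 _ (by decide)
  rw [closure_gen] at h2
  exact h2 (Subgroup.mem_top m)

/-- **Pattern γ is dead.** -/
theorem gamma_false [Finite G] (hG : ∀ K : Subgroup G, K.index ≠ 2) (c : Ctx t f)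
    (h1 : IsConj t (t * f y)) (h2 : ¬ IsConj t (f y)) (h3 : ¬ IsConj t (f (p * r))) : False := by
  obtain ⟨g, g1, g2, g3⟩ := exists_g c h1 h2 h3
  have cx := toCx c
  obtain ⟨L, S⟩ := exists_L cx g1 g2 g3
  have hT := Th_trip cx S
  have tt := c.tt
  set gens : Set G := {a | ∃ i < 3, a = Lw L (trip i)} with hgens
  set A1 := Subgroup.closure gens with hA1
  have hcomm : ∀ a ∈ A1, ∀ b ∈ A1, Commute a (t * b * t) := by
    have k1 : ∀ a ∈ gens, ∀ b ∈ A1, Commute a (t * b * t) := by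
      rintro _ ⟨i, hi, rfl⟩ b hb
      induction hb using Subgroup.closure_induction with
      | mem b hb =>
        obtain ⟨j, hj, rfl⟩ := hb
        exact hT i hi j hj
      | one => rw [mul_one, tt]; exact Commute.one_right _
      | mul b b' _ _ ih ih' =>
        have e : t * (b * b') * t = (t * b * t) * (t * b' * t) := by
          calc t * (b * b') * t = t * b * 1 * b' * t := by group
            _ = t * b * (t * t) * b' * t := by rw [tt]
            _ = _ := by group
        rw [e]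
        exact ih.mul_right ih'
      | inv b _ ih =>
        have e : t * b⁻¹ * t = (t * b * t)⁻¹ := by
          rw [mul_inv_rev, mul_inv_rev, c.inv_t, mul_assoc]
        rw [e]
        exact ih.inv_right
    intro a ha b hb
    induction ha using Subgroup.closure_induction with
    | mem a ha => exact k1 a ha b hb
    | one => exact Commute.one_left _
    | mul a a' _ _ ih ih' => exact ih.mul_left ih'
    | inv a _ ih => exact ih.inv_left
  refine final_kill hG c A1 hcomm ?_
  intro m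
  have h4 : m ∈ (prodT cx A1 hcomm).comap f := by
    apply trip_gen
    intro i hi
    rw [Subgroup.mem_comap, mem_prodT]
    have hLA : Lw L (trip i) ∈ A1 := Subgroup.subset_closure ⟨i, hi, rfl⟩
    refine ⟨_, hLA, _, hLA, ?_⟩
    have hk : ∃ m, eqW (cj [0] m) (trip i) = true := by
      interval_cases i
      · exact ⟨[], by decide +kernel⟩
      · exact ⟨[5, 0, 1, 3], by decide +kernel⟩
      · exact ⟨[5, 2, 3, 2, 1], by decide +kernel⟩
    obtain ⟨k, hk⟩ := hk
    exact F_LL S k hk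
  exact h4

end Cfsg.Agent.CoThreeStd.Gamma
end

-- part: CoThreeStd/HFacts
section
set_option autoImplicit false

/-!
# The facts about `K = Co₃` used in the closing of S1750

`Facts K` lists what the closing (blueprints/S1750.md, VERSION 2) needs to know about `K ≃* Co₃`.  `D` is the
class of `t`; `Nd` the involutions outside `D`.  The instance is built in `CoThreeStd/HInst.lean` from explicit
tables of a Sylow 2-subgroup.
-/

namespace Cfsg.Agent.CoThreeStd.HFacts

variable {K : Type*} [Group K]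

/-- Involutions not conjugate to `t`. -/
def Nd (t x : K) : Prop := x * x = 1 ∧ x ≠ 1 ∧ ¬ IsConj t x

/-- The facts about `K ≃* Co₃` used in the closing. -/
structure Facts (K : Type*) [Group K] where
  /-- the involution with centraliser `2 × M12` -/
  t : K
  /-- an involution with `t, y, t y` conjugate -/
  y : K
  /-- the central involution of `S` -/
  v : K
  /-- `W = ⟨v, w⟩` -/
  w : K
  /-- `Y3 = ⟨v, w, z⟩` -/
  z : K
  /-- `E = Y3 ∪ e0 Y3` -/
  e0 : K
  /-- `W = {1, v, w, v w}` -/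
  W : Subgroup K
  /-- `Y3`, elementary abelian of order 8 -/
  Y3 : Subgroup K
  /-- `K3`, homocyclic `4 ^ 3`, inverted by `t` -/
  K3 : Subgroup K
  /-- a Sylow 2-subgroup -/
  S : Subgroup K
  t_mul : t * t = 1
  t_ne : t ≠ 1
  y_conj : IsConj t y
  ty_conj : IsConj t (t * y)
  t_y : t * y = y * t
  t_S : t ∈ S
  y_S : y ∈ S
  v_nd : Nd t v
  w_nd : Nd t w
  z_nd : Nd t z
  v_w : v * w = w * v
  v_z : v * z = z * v
  w_z : w * z = z * w
  v_ne_w : v ≠ w
  mem_W : ∀ x, x ∈ W ↔ x = 1 ∨ x = v ∨ x = w ∨ x = v * w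
  mem_Y3 : ∀ x, x ∈ Y3 ↔ x ∈ W ∨ z * x ∈ W
  z_notin : z ∉ W
  /-- the non-trivial elements of `Y3` are not in `D` -/
  nd_Y3 : ∀ x ∈ Y3, x ≠ 1 → Nd t x
  /-- `Y3` is abelian -/
  comm_Y3 : ∀ a ∈ Y3, ∀ b ∈ Y3, a * b = b * a
  two_S : IsPGroup 2 S
  /-- `S` is a Sylow 2-subgroup -/
  syl : ∀ R : Subgroup K, IsPGroup 2 R → ∃ c : K, ∀ r ∈ R, c⁻¹ * r * c ∈ S
  W_S : W ≤ S
  Y3_S : Y3 ≤ S
  K3_S : K3 ≤ S
  Y3_K3 : Y3 ≤ K3
  S_W : S ≤ Subgroup.normalizer (W : Set K)
  S_Y3 : S ≤ Subgroup.normalizer (Y3 : Set K)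
  S_K3 : S ≤ Subgroup.normalizer (K3 : Set K)
  /-- (F0) the involutions outside `D` are conjugate -/
  F0 : ∀ b, Nd t b → ∃ h, h⁻¹ * b * h = v
  /-- (Fc) -/
  Fc : ∀ a b, Nd t a → Nd t b → a * b = b * a → a ≠ b → Nd t (a * b)
  /-- (F1) -/
  F1 : ∀ a b, Nd t a → Nd t b → a * b = b * a → a ≠ b →
    ∃ h, ∀ x, x ∈ Subgroup.closure ({a, b} : Set K) ↔ h⁻¹ * x * h ∈ W
  /-- (F2) -/
  F2 : ∀ a b c, Nd t a → Nd t b → Nd t c → a * b = b * a → a * c = c * a → b * c = c * b → a ≠ b →
    c ≠ a → c ≠ b → c ≠ a * b →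
    ∃ h, ∀ x, x ∈ Subgroup.closure ({a, b, c} : Set K) ↔ h⁻¹ * x * h ∈ Y3
  /-- (Fa) `t` centralises `Y3` -/
  Fa : ∀ x ∈ Y3, t * x = x * t
  /-- (Fd) -/
  Fd : ∀ u : K, (u * u) * (u * u) = 1 → u * u ≠ 1 →
    Nd t (u * u) ∧ (∃ a, IsConj t a ∧ a * u = u * a) ∧ ∃ b, Nd t b ∧ b ≠ u * u ∧ b * u = u * b
  /-- (Gb) -/
  Gb : ∀ u, (∀ x ∈ W, u * x = x * u) → u * u ∈ W → u * u ≠ 1 →
    ∃ a b, IsConj t a ∧ (∀ x ∈ W, a * x = x * a) ∧ a * u = u * a ∧
      Nd t b ∧ b ∉ W ∧ (∀ x ∈ W, b * x = x * b) ∧ b * u = u * b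
  /-- (Gc) -/
  Gc : ∀ u u' x, (∀ y ∈ W, u * y = y * u) → (∀ y ∈ W, u' * y = y * u') → (∀ y ∈ W, x * y = y * x) →
    u * u' = u' * u → u * u ∈ W → u * u ≠ 1 → u' * u' ∈ W → u' * u' ≠ 1 → u * u ≠ u' * u' →
    x * x = 1 → x ∉ W → x * u = u * x → x * u' * x = u'⁻¹ →
    ∃ a b, IsConj t a ∧ (∀ y ∈ W, a * y = y * a) ∧ a * u = u * a ∧ a * u' = u' * a ∧
      Nd t b ∧ b ∉ W ∧ (∀ y ∈ W, b * y = y * b) ∧ b * u = u * b ∧ b * u' = u' * b
  /-- (H1) squares of elements of `C_S(Y3)` -/
  H1 : ∀ p ∈ S, (∀ x ∈ Y3, p * x = x * p) → p * p ∈ Y3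
  /-- (H2) -/
  comm_K3 : ∀ a ∈ K3, ∀ b ∈ K3, a * b = b * a
  free_K3 : ∀ k ∈ K3, ¬ IsConj t k
  sq_K3 : ∀ k ∈ K3, k * k ∈ Y3
  ker_K3 : ∀ k ∈ K3, k * k = 1 → k ∈ Y3
  inv_K3 : ∀ k ∈ K3, t * k * t = k⁻¹
  /-- some element of `K3` has order 4 -/
  four_K3 : ∃ k ∈ K3, k * k ≠ 1
  /-- the elements of `C_S(Y3)` -/
  P3_cases : ∀ p ∈ S, (∀ x ∈ Y3, p * x = x * p) → p ∈ K3 ∨ IsConj t p ∨ e0⁻¹ * p ∈ Y3
  e0_S : e0 ∈ S
  e0_Y3 : ∀ x ∈ Y3, e0 * x = x * e0
  e0_K3 : e0 ∉ K3
  e0_mul : e0 * e0 = 1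
  /-- `e0 Y3` does not meet `D` -/
  free_E : ∀ x ∈ Y3, ¬ IsConj t (e0 * x)
  /-- (H6) -/
  H6 : ∃ d ∈ S, (∀ x ∈ Y3, d * x = x * d) ∧ d ∉ Y3 ∧ e0⁻¹ * d ∉ Y3 ∧
    d * e0 * d⁻¹ ≠ t * e0 * t⁻¹

end Cfsg.Agent.CoThreeStd.HFacts
end

-- part: CoThreeStd/SylLem
section
/-!
# Small abstract lemmas for the assembly of S1750

Sylow-type statements phrased with explicit conjugating elements, closures of two or three
commuting involutions, and conjugation of membership in closures.
-/

namespace Cfsg.Agent.CoThreeStd.SylLem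

open Subgroup
open scoped Pointwise

variable {K : Type*} [Group K]

/-- (L1) A `2`-group `S` in which every `2`-subgroup of `K` can be conjugated, contained in `N`:
every `2`-subgroup of `N` can be conjugated into `S` by an element of `N`. -/
theorem syl_in [Finite K] {S N : Subgroup K} (hS : IsPGroup 2 S)
    (hsyl : ∀ R : Subgroup K, IsPGroup 2 R → ∃ c : K, ∀ r ∈ R, c⁻¹ * r * c ∈ S)
    (hSN : S ≤ N) :
    ∀ R : Subgroup K, IsPGroup 2 R → R ≤ N → ∃ c ∈ N, ∀ r ∈ R, c⁻¹ * r * c ∈ S := by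
  classical
  intro R hR hRN
  -- `S` is a Sylow `2`-subgroup of `K`
  have hmax : ∀ Q : Subgroup K, IsPGroup 2 Q → Nat.card Q ≤ Nat.card S := by
    intro Q hQ
    obtain ⟨c, hc⟩ := hsyl Q hQ
    let f : Q → S := fun q => ⟨c⁻¹ * (q : K) * c, hc q q.2⟩
    refine Nat.card_le_card_of_injective f ?_
    intro a b hab
    have h1 : c⁻¹ * (a : K) * c = c⁻¹ * (b : K) * c := congrArg Subtype.val hab
    have h2 : (a : K) = b := by
      have := congrArg (fun u => c * u * c⁻¹) h1
      simpa [mul_assoc] using this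
    exact Subtype.ext h2
  -- Sylow subgroups of `N`
  have hS' : IsPGroup 2 (S.subgroupOf N) := hS.comap_of_injective N.subtype N.subtype_injective
  have hR' : IsPGroup 2 (R.subgroupOf N) := hR.comap_of_injective N.subtype N.subtype_injective
  obtain ⟨P, hP⟩ := hS'.exists_le_sylow
  obtain ⟨Q, hQ⟩ := hR'.exists_le_sylow
  have hPS : (P : Subgroup N) = S.subgroupOf N := by
    have h1 : IsPGroup 2 ((P : Subgroup N).map N.subtype) := P.2.map N.subtype
    have h2 := hmax _ h1
    have h3 : S ≤ (P : Subgroup N).map N.subtype := by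
      intro s hs
      exact ⟨⟨s, hSN hs⟩, hP hs, rfl⟩
    have h4 : S = (P : Subgroup N).map N.subtype :=
      Subgroup.eq_of_le_of_card_ge h3 h2
    apply le_antisymm _ hP
    intro x hx
    have : (x : K) ∈ (P : Subgroup N).map N.subtype := ⟨x, hx, rfl⟩
    rw [← h4] at this
    exact this
  obtain ⟨n, hn⟩ := MulAction.exists_smul_eq N P Q
  refine ⟨n, n.2, ?_⟩
  intro r hr
  have h1 : (⟨r, hRN hr⟩ : N) ∈ (Q : Subgroup N) := hQ hr
  rw [← hn] at h1
  have h2 : (⟨r, hRN hr⟩ : N) ∈ MulAut.conj n • (P : Subgroup N) := by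
    simpa [Sylow.smul_def, Sylow.pointwise_smul_def] using h1
  rw [Subgroup.mem_pointwise_smul_iff_inv_smul_mem] at h2
  have h3 : n⁻¹ * ⟨r, hRN hr⟩ * n ∈ (P : Subgroup N) := by
    simpa [MulAut.smul_def] using h2
  rw [hPS] at h3
  exact h3

/-- (L1') -/
theorem syl_of_card [Finite K] {S : Subgroup K} {n m : ℕ} (h1 : Nat.card S = 2 ^ n)
    (h2 : Nat.card K = 2 ^ n * m) (hm : ¬ 2 ∣ m) :
    IsPGroup 2 S ∧ ∀ R : Subgroup K, IsPGroup 2 R → ∃ c : K, ∀ r ∈ R, c⁻¹ * r * c ∈ S := by
  classical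
  have hS : IsPGroup 2 S := IsPGroup.of_card h1
  refine ⟨hS, ?_⟩
  intro R hR
  have : Fact (Nat.Prime 2) := ⟨Nat.prime_two⟩
  obtain ⟨P, hP⟩ := hS.exists_le_sylow
  obtain ⟨Q, hQ⟩ := hR.exists_le_sylow
  have hPS : S = (P : Subgroup K) := by
    refine Subgroup.eq_of_le_of_card_ge hP ?_
    obtain ⟨k, hk⟩ := IsPGroup.iff_card.mp P.2
    rw [hk, h1]
    have h3 : 2 ^ k ∣ 2 ^ n * m := by
      rw [← hk, ← h2]
      exact Subgroup.card_subgroup_dvd_card _
    have h4 : Nat.Coprime (2 ^ k) m := by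
      apply Nat.Coprime.pow_left
      exact (Nat.Prime.coprime_iff_not_dvd Nat.prime_two).mpr hm
    exact Nat.le_of_dvd (by positivity) (h4.dvd_of_dvd_mul_right h3)
  obtain ⟨n, hn⟩ := MulAction.exists_smul_eq K P Q
  refine ⟨n, ?_⟩
  intro r hr
  have h1 : r ∈ (Q : Subgroup K) := hQ hr
  rw [← hn] at h1
  have h2 : r ∈ MulAut.conj n • (P : Subgroup K) := by
    simpa [Sylow.smul_def, Sylow.pointwise_smul_def] using h1
  rw [Subgroup.mem_pointwise_smul_iff_inv_smul_mem] at h2
  have h3 : n⁻¹ * r * n ∈ (P : Subgroup K) := by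
    simpa [MulAut.smul_def] using h2
  rw [hPS]
  exact h3

/-- (L2) -/
theorem two_closure {g : K} {n : ℕ} (h : g ^ 2 ^ n = 1) :
    IsPGroup 2 (Subgroup.closure ({g} : Set K)) := by
  intro x
  obtain ⟨x, hx⟩ := x
  rw [Subgroup.mem_closure_singleton] at hx
  obtain ⟨k, rfl⟩ := hx
  refine ⟨n, ?_⟩
  apply Subtype.ext
  show (g ^ k) ^ 2 ^ n = 1
  rw [← zpow_natCast, zpow_comm, zpow_natCast, h, one_zpow]

/-- (L3) -/
theorem two_closure3 {u u' x : K} (hu : (u * u) * (u * u) = 1) (hu' : (u' * u') * (u' * u') = 1)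
    (hx : x * x = 1) (h1 : u * u' = u' * u) (h2 : x * u = u * x) (h3 : x * u' * x = u'⁻¹) :
    IsPGroup 2 (Subgroup.closure ({u, u', x} : Set K)) := by
  have h1c : Commute u u' := h1
  have h2c : Commute x u := h2
  have hxi : x⁻¹ = x := inv_eq_of_mul_eq_one_left hx
  have h3' : x * u' * x⁻¹ = u'⁻¹ := by rw [hxi]; exact h3
  have h3a : x * u' = u'⁻¹ * x := by
    rw [← h3']; group
  -- the normal form
  have key : ∀ y ∈ Subgroup.closure ({u, u', x} : Set K),
      ∃ i j k : ℤ, y = u ^ i * u' ^ j * x ^ k := by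
    intro y hy
    have hxj : ∀ j k : ℤ, x ^ k * u' ^ j = u' ^ (if k % 2 = 0 then j else -j) * x ^ k := by
      intro j k
      have hxx : ∀ j : ℤ, x * u' ^ j = u' ^ (-j) * x := by
        intro j
        have : x * u' ^ j * x⁻¹ = (x * u' * x⁻¹) ^ j := by
          rw [← MulAut.conj_apply, map_zpow, MulAut.conj_apply]
        rw [h3', inv_zpow, ← zpow_neg] at this
        rw [← this]; group
      rcases Int.emod_two_eq_zero_or_one k with hk | hk
      · obtain ⟨l, rfl⟩ : ∃ l, k = 2 * l := ⟨k / 2, by omega⟩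
        have : x ^ (2 * l) = 1 := by
          rw [zpow_mul, zpow_ofNat, pow_two, hx, one_zpow]
        simp [this]
      · obtain ⟨l, rfl⟩ : ∃ l, k = 2 * l + 1 := ⟨k / 2, by omega⟩
        have : x ^ (2 * l) = 1 := by
          rw [zpow_mul, zpow_ofNat, pow_two, hx, one_zpow]
        rw [zpow_add, this, one_mul, zpow_one, hxx]
        simp [hk]
    induction hy using Subgroup.closure_induction with
    | mem y hy =>
      rcases hy with rfl | rfl | hy
      · exact ⟨1, 0, 0, by simp⟩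
      · exact ⟨0, 1, 0, by simp⟩
      · rw [Set.mem_singleton_iff] at hy
        subst hy
        exact ⟨0, 0, 1, by simp⟩
    | one => exact ⟨0, 0, 0, by simp⟩
    | mul a b _ _ ha hb =>
      obtain ⟨i, j, k, rfl⟩ := ha
      obtain ⟨i', j', k', rfl⟩ := hb
      refine ⟨i + i', j + (if k % 2 = 0 then j' else -j'), k + k', ?_⟩
      have e1 : x ^ k * u ^ i' = u ^ i' * x ^ k := (h2c.zpow_zpow k i').eq
      have e2 : u' ^ j * u ^ i' = u ^ i' * u' ^ j := (h1c.symm.zpow_zpow j i').eq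
      calc u ^ i * u' ^ j * x ^ k * (u ^ i' * u' ^ j' * x ^ k')
          = u ^ i * u' ^ j * (x ^ k * u ^ i') * u' ^ j' * x ^ k' := by simp only [mul_assoc]
        _ = u ^ i * (u' ^ j * u ^ i') * (x ^ k * u' ^ j') * x ^ k' := by
            rw [e1]; simp only [mul_assoc]
        _ = _ := by
            rw [e2, hxj, zpow_add, zpow_add, zpow_add]; simp only [mul_assoc]
    | inv a _ ha =>
      obtain ⟨i, j, k, rfl⟩ := ha
      refine ⟨-i, (if (-k) % 2 = 0 then -j else j), -k, ?_⟩
      have e1 : x ^ (-k) * u ^ (-i) = u ^ (-i) * x ^ (-k) := (h2c.zpow_zpow (-k) (-i)).eq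
      have e2 : u' ^ (-j) * u ^ (-i) = u ^ (-i) * u' ^ (-j) := (h1c.symm.zpow_zpow (-j) (-i)).eq
      have e3 := hxj (-j) (-k)
      calc (u ^ i * u' ^ j * x ^ k)⁻¹ = x ^ (-k) * (u' ^ (-j) * u ^ (-i)) := by
            simp [mul_inv_rev, zpow_neg]
        _ = (x ^ (-k) * u ^ (-i)) * u' ^ (-j) := by rw [e2]; simp only [mul_assoc]
        _ = u ^ (-i) * (x ^ (-k) * u' ^ (-j)) := by rw [e1]; simp only [mul_assoc]
        _ = _ := by
          rw [e3]
          by_cases hk : (-k) % 2 = 0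
          · simp [hk, mul_assoc]
          · simp [hk, mul_assoc]
  intro y
  obtain ⟨y, hy⟩ := y
  obtain ⟨i, j, k, rfl⟩ := key y hy
  refine ⟨3, ?_⟩
  apply Subtype.ext
  show (u ^ i * u' ^ j * x ^ k) ^ 2 ^ 3 = 1
  -- the square
  have hx2 : x ^ (2 : ℤ) = 1 := by rw [zpow_ofNat, pow_two, hx]
  have hu4 : u ^ (4 : ℤ) = 1 := by
    have e : u ^ 4 = (u * u) * (u * u) := by
      simp only [pow_succ, pow_zero, one_mul, mul_assoc]
    rw [zpow_ofNat, e, hu]
  have hu4' : u' ^ (4 : ℤ) = 1 := by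
    have e : u' ^ 4 = (u' * u') * (u' * u') := by
      simp only [pow_succ, pow_zero, one_mul, mul_assoc]
    rw [zpow_ofNat, e, hu']
  rcases Int.emod_two_eq_zero_or_one k with hk | hk
  · obtain ⟨l, rfl⟩ : ∃ l, k = 2 * l := ⟨k / 2, by omega⟩
    have e0 : x ^ (2 * l) = 1 := by rw [zpow_mul, hx2, one_zpow]
    rw [e0, mul_one]
    have hc : Commute (u ^ i) (u' ^ j) := h1c.zpow_zpow i j
    rw [hc.mul_pow]
    have a1 : (u ^ i) ^ 2 ^ 3 = 1 := by
      rw [← zpow_natCast, zpow_comm]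
      have : u ^ ((2 ^ 3 : ℕ) : ℤ) = 1 := by
        have : ((2 ^ 3 : ℕ) : ℤ) = 4 * 2 := by norm_num
        rw [this, zpow_mul, hu4, one_zpow]
      rw [this, one_zpow]
    have a2 : (u' ^ j) ^ 2 ^ 3 = 1 := by
      rw [← zpow_natCast, zpow_comm]
      have : u' ^ ((2 ^ 3 : ℕ) : ℤ) = 1 := by
        have : ((2 ^ 3 : ℕ) : ℤ) = 4 * 2 := by norm_num
        rw [this, zpow_mul, hu4', one_zpow]
      rw [this, one_zpow]
    rw [a1, a2, one_mul]
  · obtain ⟨l, rfl⟩ : ∃ l, k = 2 * l + 1 := ⟨k / 2, by omega⟩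
    have e0 : x ^ (2 * l + 1) = x := by rw [zpow_add, zpow_mul, hx2, one_zpow, one_mul, zpow_one]
    rw [e0]
    have hxj : x * u' ^ j = u' ^ (-j) * x := by
      have : x * u' ^ j * x⁻¹ = (x * u' * x⁻¹) ^ j := by
        rw [← MulAut.conj_apply, map_zpow, MulAut.conj_apply]
      rw [h3', inv_zpow, ← zpow_neg] at this
      rw [← this]; group
    have hxu : x * u ^ i = u ^ i * x := ((Commute.refl x).zpow_right 0 |> fun _ => (h2c.zpow_right i).eq)
    have hcu : u' ^ j * u ^ i = u ^ i * u' ^ j := (h1c.symm.zpow_zpow j i).eq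
    have sq : (u ^ i * u' ^ j * x) * (u ^ i * u' ^ j * x) = u ^ i * u ^ i := by
      calc (u ^ i * u' ^ j * x) * (u ^ i * u' ^ j * x)
          = u ^ i * u' ^ j * (x * u ^ i) * u' ^ j * x := by simp only [mul_assoc]
        _ = u ^ i * (u' ^ j * u ^ i) * (x * u' ^ j) * x := by rw [hxu]; simp only [mul_assoc]
        _ = u ^ i * u ^ i * (u' ^ j * u' ^ (-j)) * (x * x) := by
            rw [hcu, hxj]; simp only [mul_assoc]
        _ = u ^ i * u ^ i := by rw [hx, zpow_neg]; simp
    have : (u ^ i * u' ^ j * x) ^ 2 ^ 3 = ((u ^ i * u' ^ j * x) * (u ^ i * u' ^ j * x)) ^ 4 := by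
      rw [← pow_two, ← pow_mul]
      norm_num
    rw [this, sq, ← zpow_add, ← zpow_natCast, zpow_comm]
    have h4 : u ^ ((4 : ℕ) : ℤ) = 1 := by exact_mod_cast hu4
    rw [h4, one_zpow]

/-- conjugation of membership in a closure -/
theorem mem_closure_conj (X : Set K) (h x : K) :
    x ∈ Subgroup.closure X ↔
      h⁻¹ * x * h ∈ Subgroup.closure ((fun y => h⁻¹ * y * h) '' X) := by
  have e : (fun y : K => h⁻¹ * y * h) = (MulAut.conj h⁻¹).toMonoidHom := by
    funext y
    simp
  have e2 : h⁻¹ * x * h = (MulAut.conj h⁻¹).toMonoidHom x := by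
    simp
  rw [e, ← MonoidHom.map_closure, e2]
  constructor
  · intro hx
    exact ⟨x, hx, rfl⟩
  · rintro ⟨y, hy, hyx⟩
    have : y = x := (MulAut.conj h⁻¹).injective hyx
    rw [← this]
    exact hy

/-- (L4) -/
theorem mem_closure2_conj (a b h x : K) :
    x ∈ Subgroup.closure ({a, b} : Set K) ↔
      h⁻¹ * x * h ∈ Subgroup.closure ({h⁻¹ * a * h, h⁻¹ * b * h} : Set K) := by
  rw [mem_closure_conj ({a, b} : Set K) h x, Set.image_pair]

/-- (L4) -/
theorem mem_closure3_conj (a b c h x : K) :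
    x ∈ Subgroup.closure ({a, b, c} : Set K) ↔
      h⁻¹ * x * h ∈ Subgroup.closure ({h⁻¹ * a * h, h⁻¹ * b * h, h⁻¹ * c * h} : Set K) := by
  rw [mem_closure_conj ({a, b, c} : Set K) h x, Set.image_insert_eq, Set.image_pair]

/-- (L5) In a subgroup of order at most `4` two distinct nontrivial elements generate. -/
theorem closure2_eq [Finite K] {W : Subgroup K} (hW : Nat.card W ≤ 4) {a b : K} (ha : a ∈ W)
    (hb : b ∈ W) (ha1 : a ≠ 1) (hb1 : b ≠ 1) (hab : a ≠ b) :
    Subgroup.closure ({a, b} : Set K) = W := by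
  classical
  have hle : Subgroup.closure ({a, b} : Set K) ≤ W := by
    rw [Subgroup.closure_le]
    rintro y (rfl | hy)
    · exact ha
    · rw [Set.mem_singleton_iff] at hy
      subst hy
      exact hb
  have ha' : a ∈ Subgroup.closure ({a, b} : Set K) := Subgroup.subset_closure (by simp)
  have hb' : b ∈ Subgroup.closure ({a, b} : Set K) := Subgroup.subset_closure (by simp)
  have hsub : (({1, a, b} : Finset K) : Set K) ⊆
      (Subgroup.closure ({a, b} : Set K) : Set K) := by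
    intro y hy
    simp only [Finset.coe_insert, Finset.coe_singleton, Set.mem_insert_iff,
      Set.mem_singleton_iff] at hy
    rcases hy with rfl | rfl | rfl
    · exact Subgroup.one_mem _
    · exact ha'
    · exact hb'
  have hcard : ({1, a, b} : Finset K).card = 3 := by
    rw [Finset.card_insert_of_notMem, Finset.card_insert_of_notMem, Finset.card_singleton]
    · simp only [Finset.mem_singleton]
      exact hab
    · simp only [Finset.mem_insert, Finset.mem_singleton, not_or]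
      exact ⟨fun h => ha1 h.symm, fun h => hb1 h.symm⟩
  have h := Set.ncard_le_ncard hsub (Set.toFinite _)
  rw [Set.ncard_coe_finset, hcard] at h
  rw [← Nat.card_coe_set_eq] at h
  have h3 : 3 ≤ Nat.card (Subgroup.closure ({a, b} : Set K)) := h
  have hdvd : Nat.card (Subgroup.closure ({a, b} : Set K)) ∣ Nat.card W :=
    Subgroup.card_dvd_of_le hle
  refine Subgroup.eq_of_le_of_card_ge hle ?_
  have hpos : 0 < Nat.card W := Nat.card_pos
  obtain ⟨k, hk⟩ := hdvd
  have hk1 : k = 1 := by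
    have : 0 < k := Nat.pos_of_ne_zero (by rintro rfl; omega)
    by_contra hne
    have : 2 ≤ k := by omega
    nlinarith
  rw [hk, hk1, mul_one]

/-- (L6) -/
theorem closure3_eq [Finite K] {Y : Subgroup K} (hY : Nat.card Y ≤ 8) {a b c : K} (ha : a ∈ Y)
    (hb : b ∈ Y) (hc : c ∈ Y) (haa : a * a = 1) (hbb : b * b = 1) (ha1 : a ≠ 1) (hb1 : b ≠ 1)
    (hab : a ≠ b) (hc1 : c ≠ 1) (hca : c ≠ a) (hcb : c ≠ b) (hcab : c ≠ a * b) :
    Subgroup.closure ({a, b, c} : Set K) = Y := by
  classical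
  have hle : Subgroup.closure ({a, b, c} : Set K) ≤ Y := by
    rw [Subgroup.closure_le]
    rintro y (rfl | rfl | hy)
    · exact ha
    · exact hb
    · rw [Set.mem_singleton_iff] at hy
      subst hy
      exact hc
  have ha' : a ∈ Subgroup.closure ({a, b, c} : Set K) := Subgroup.subset_closure (by simp)
  have hb' : b ∈ Subgroup.closure ({a, b, c} : Set K) := Subgroup.subset_closure (by simp)
  have hc' : c ∈ Subgroup.closure ({a, b, c} : Set K) := Subgroup.subset_closure (by simp)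
  have hab1 : a * b ≠ 1 := by
    intro h
    apply hab
    calc a = a * (b * b) := by rw [hbb, mul_one]
      _ = (a * b) * b := by rw [mul_assoc]
      _ = b := by rw [h, one_mul]
  have haba : a * b ≠ a := by
    intro h
    exact hb1 (mul_left_cancel (h.trans (mul_one a).symm))
  have habb : a * b ≠ b := by
    intro h
    exact ha1 (mul_right_cancel (h.trans (one_mul b).symm))
  have hsub : (({1, a, b, a * b, c} : Finset K) : Set K) ⊆
      (Subgroup.closure ({a, b, c} : Set K) : Set K) := by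
    intro y hy
    simp only [Finset.coe_insert, Finset.coe_singleton, Set.mem_insert_iff,
      Set.mem_singleton_iff] at hy
    rcases hy with rfl | rfl | rfl | rfl | rfl
    · exact Subgroup.one_mem _
    · exact ha'
    · exact hb'
    · exact Subgroup.mul_mem _ ha' hb'
    · exact hc'
  have hcard : ({1, a, b, a * b, c} : Finset K).card = 5 := by
    rw [Finset.card_insert_of_notMem, Finset.card_insert_of_notMem,
      Finset.card_insert_of_notMem, Finset.card_insert_of_notMem, Finset.card_singleton]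
    · simp only [Finset.mem_singleton]
      exact fun h => hcab h.symm
    · simp only [Finset.mem_insert, Finset.mem_singleton, not_or]
      exact ⟨fun h => habb h.symm, fun h => hcb h.symm⟩
    · simp only [Finset.mem_insert, Finset.mem_singleton, not_or]
      exact ⟨hab, fun h => haba h.symm, fun h => hca h.symm⟩
    · simp only [Finset.mem_insert, Finset.mem_singleton, not_or]
      exact ⟨fun h => ha1 h.symm, fun h => hb1 h.symm, fun h => hab1 h.symm, fun h => hc1 h.symm⟩
  have h := Set.ncard_le_ncard hsub (Set.toFinite _)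
  rw [Set.ncard_coe_finset, hcard] at h
  rw [← Nat.card_coe_set_eq] at h
  have h5 : 5 ≤ Nat.card (Subgroup.closure ({a, b, c} : Set K)) := h
  have hdvd : Nat.card (Subgroup.closure ({a, b, c} : Set K)) ∣ Nat.card Y :=
    Subgroup.card_dvd_of_le hle
  refine Subgroup.eq_of_le_of_card_ge hle ?_
  have hpos : 0 < Nat.card Y := Nat.card_pos
  obtain ⟨k, hk⟩ := hdvd
  have hk1 : k = 1 := by
    have : 0 < k := Nat.pos_of_ne_zero (by rintro rfl; omega)
    by_contra hne
    have : 2 ≤ k := by omega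
    nlinarith
  rw [hk, hk1, mul_one]

/-- (L7) -/
theorem mem_normalizer_of [Finite K] {S A : Subgroup K} {X : Set K}
    (hS : S = Subgroup.closure X) (h : ∀ x ∈ X, ∀ a ∈ A, x * a * x⁻¹ ∈ A) :
    S ≤ Subgroup.normalizer (A : Set K) := by
  rw [hS, Subgroup.closure_le]
  intro x hx
  show x ∈ Subgroup.normalizer (A : Set K)
  rw [Subgroup.mem_normalizer_iff]
  intro a
  constructor
  · intro ha
    exact h x hx a ha
  · intro ha
    have hmap : A.map (MulAut.conj x).toMonoidHom = A := by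
      refine Subgroup.eq_of_le_of_card_ge ?_ ?_
      · rintro _ ⟨y, hy, rfl⟩
        exact h x hx y hy
      · rw [← Nat.card_congr (A.equivMapOfInjective (MulAut.conj x).toMonoidHom
          (MulAut.conj x).injective).toEquiv]
    have h2 : x * a * x⁻¹ ∈ A.map (MulAut.conj x).toMonoidHom := by
      rw [hmap]; exact ha
    obtain ⟨y, hy, hyx⟩ := h2
    have : y = a := (MulAut.conj x).injective hyx
    rw [← this]
    exact hy

end Cfsg.Agent.CoThreeStd.SylLem
end
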