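import Cfsg.Agent.CoThreeStd.Core.Oracle
import Cfsg.Agent.CoThreeStd.Core.MF_mg
import Cfsg.Agent.GH.Cov.Lift
import Cfsg.Agent.CoThreeStd.BaseSix
import Cfsg.Agent.SporRec.Closing
import Cfsg.Agent.Lib.CoprimeHyperplane
import Cfsg.Agent.CoThreeStd.Delta
import Cfsg.Agent.CoThreeStd.InvTwo
set_option linter.all false

-- part: CoThreeStd/Core/Sec
section
/-!
# S1750: the section `Γ = N_G(D)/D` and its parity oracle (helper122)
-/

set_option autoImplicit false

namespace Cfsg.Agent.CoThreeStd.Core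

open Cfsg.Agent.CoThreeStd.Parity Cfsg.Agent.CoThreeStd.Fusion

variable {G M Γ : Type*} [Group G] [Group M] [Group Γ]

/-- `π : H → Γ` is surjective with kernel `D`. -/
structure Sec (D H : Subgroup G) (π : H →* Γ) : Prop where
  surj : Function.Surjective π
  ker : ∀ h : H, π h = 1 ↔ (h : G) ∈ D

theorem relIndex_two_iff {C₀ C : Subgroup G} :
    C₀.relIndex C = 2 ↔ ∃ a ∈ C, ∀ b ∈ C, Xor' (b * a ∈ C₀) (b ∈ C₀) := by
  rw [Subgroup.relIndex, Subgroup.index_eq_two_iff]
  constructor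
  · rintro ⟨⟨a, ha⟩, h⟩
    refine ⟨a, ha, fun b hb => ?_⟩
    have := h ⟨b, hb⟩
    rw [Subgroup.mem_subgroupOf, Subgroup.mem_subgroupOf] at this
    exact this
  · rintro ⟨a, ha, h⟩
    refine ⟨⟨a, ha⟩, ?_⟩
    rintro ⟨b, hb⟩
    rw [Subgroup.mem_subgroupOf, Subgroup.mem_subgroupOf]
    exact h b hb

/-- a set closed under inversion in an odd group which contains `1` has odd size -/
theorem odd_card_inv [Finite G] (p : G → Prop) (h1 : p 1) (hinv : ∀ z, p z → p z⁻¹)
    (hodd : ∀ z, p z → z * z = 1 → z = 1) : Odd (Nat.card {z : G // p z}) := by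
  classical
  have : Fintype G := Fintype.ofFinite G
  have e1 : Nat.card {z : G // p z} = (Finset.univ.filter p).card := by
    rw [Nat.card_eq_fintype_card, Fintype.card_subtype]
  have e2 : (Finset.univ.filter p) = insert 1 (Finset.univ.filter (fun z => p z ∧ z ≠ 1)) := by
    ext z
    simp only [Finset.mem_filter, Finset.mem_univ, true_and, Finset.mem_insert]
    constructor
    · intro h
      by_cases hz : z = 1
      · exact Or.inl hz
      · exact Or.inr ⟨h, hz⟩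
    · rintro (rfl | h)
      · exact h1
      · exact h.1
  have e3 : Even ((Finset.univ.filter (fun z => p z ∧ z ≠ 1)).card) := by
    have h2 : ∑ _z ∈ Finset.univ.filter (fun z => p z ∧ z ≠ 1), (1 : ZMod 2) = 0 := by
      refine Finset.sum_involution (fun z _ => z⁻¹) ?_ ?_ ?_ ?_
      · intro z _
        decide
      · intro z hz _ h
        have h3 := (Finset.mem_filter.1 hz).2
        apply h3.2
        apply hodd z h3.1
        nth_rewrite 1 [← h]
        exact inv_mul_cancel z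
      · intro z hz
        have h3 := (Finset.mem_filter.1 hz).2
        exact Finset.mem_filter.2 ⟨Finset.mem_univ _, hinv z h3.1, inv_ne_one.2 h3.2⟩
      · intro z _
        exact inv_inv z
    rw [Finset.sum_const, nsmul_eq_mul, mul_one, ZMod.natCast_eq_zero_iff] at h2
    exact (even_iff_two_dvd).2 h2
  rw [e1, e2, Finset.card_insert_of_notMem (by simp)]
  exact e3.add_one

/-- parity of a finite set fibred with odd fibres -/
theorem even_of_fibres {A B : Type*} [Finite A] [Finite B] (f : A → B)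
    (hf : ∀ b, Odd (Nat.card {a // f a = b})) (hA : Even (Nat.card A)) : Even (Nat.card B) := by
  classical
  have : Fintype A := Fintype.ofFinite A
  have : Fintype B := Fintype.ofFinite B
  have e : Nat.card A = ∑ b : B, Nat.card {a // f a = b} := by
    rw [← Nat.card_congr (Equiv.sigmaFiberEquiv f), Nat.card_sigma]
  rw [e] at hA
  have h1 := Finset.even_sum_iff_even_card_odd (s := Finset.univ) (fun b : B => Nat.card {a // f a = b})
  rw [h1] at hA
  have h2 : Finset.univ.filter (fun b : B => Odd (Nat.card {a // f a = b})) = Finset.univ := by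
    rw [Finset.filter_eq_self]
    intro b _
    exact hf b
  rw [h2, Finset.card_univ] at hA
  rwa [Nat.card_eq_fintype_card]

/-- a section over a 2-group, through a given involution -/
theorem exists_section {X P : Type*} [Group X] [Finite X] [Group P] (φ : X →* P)
    (hφ : Function.Surjective φ) (hP : IsPGroup 2 P) (hker : ∀ x, φ x = 1 → Odd (orderOf x)) {z : X}
    (hz : z * z = 1) : ∃ σ : P →* X, (∀ p, φ (σ p) = p) ∧ σ (φ z) = z := by
  classical
  have : Fact (Nat.Prime 2) := ⟨Nat.prime_two⟩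
  have hfP : Finite P := Finite.of_surjective φ hφ
  have hzp : IsPGroup 2 (Subgroup.zpowers z) := by
    rintro ⟨x, k, hk⟩
    refine ⟨1, ?_⟩
    apply Subtype.ext
    show x ^ 2 ^ 1 = 1
    rw [← hk]
    show (z ^ k) ^ 2 ^ 1 = 1
    rw [pow_one, pow_two, ← (Commute.refl z).mul_zpow, hz, one_zpow]
  obtain ⟨S, hS⟩ := hzp.exists_le_sylow
  have hzS : z ∈ S := hS (Subgroup.mem_zpowers z)
  have hinj : Function.Injective (φ.comp (S : Subgroup X).subtype) := by
    rw [injective_iff_map_eq_one]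
    rintro ⟨s, hs⟩ h1
    have h2 := hker s h1
    obtain ⟨k, hk⟩ := (IsPGroup.iff_orderOf.1 S.isPGroup') ⟨s, hs⟩
    rw [Subgroup.orderOf_mk] at hk
    rw [hk] at h2
    apply Subtype.ext
    show s = 1
    rcases Nat.eq_zero_or_pos k with rfl | hpos
    · rw [pow_zero] at hk
      exact orderOf_eq_one_iff.1 hk
    · exfalso
      rw [← Nat.not_even_iff_odd] at h2
      exact h2 ((Nat.even_pow.2 ⟨even_two, hpos.ne'⟩))
  have hmap : (S : Subgroup X).map φ = ⊤ := by
    rw [← Subgroup.index_eq_one]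
    have h1 : ((S : Subgroup X).map φ).index ∣ (S : Subgroup X).index := Subgroup.index_map_dvd _ hφ
    have h2 : ¬ 2 ∣ (S : Subgroup X).index := S.not_dvd_index
    have h3 : ((S : Subgroup X).map φ).index ∣ Nat.card P := Subgroup.index_dvd_card _
    obtain ⟨n, hn⟩ := IsPGroup.iff_card.1 hP
    rw [hn] at h3
    obtain ⟨k, -, hk⟩ := (Nat.dvd_prime_pow Nat.prime_two).1 h3
    rw [hk]
    rcases Nat.eq_zero_or_pos k with rfl | hpos
    · rfl
    · exfalso
      apply h2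
      refine Dvd.dvd.trans ?_ h1
      rw [hk]
      exact dvd_pow_self 2 hpos.ne'
  have hsurj : Function.Surjective (φ.comp (S : Subgroup X).subtype) := by
    intro p
    have : p ∈ (S : Subgroup X).map φ := by rw [hmap]; trivial
    obtain ⟨s, hs, h1⟩ := this
    exact ⟨⟨s, hs⟩, h1⟩
  set E := MulEquiv.ofBijective (φ.comp (S : Subgroup X).subtype) ⟨hinj, hsurj⟩ with hE
  refine ⟨(S : Subgroup X).subtype.comp E.symm.toMonoidHom, ?_, ?_⟩
  · intro p
    exact E.apply_symm_apply p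
  · show ((E.symm (φ z)) : X) = z
    have : φ z = E ⟨z, hzS⟩ := rfl
    rw [this, E.symm_apply_apply]

namespace Cen

variable {𝒜 : (M ≃* M) → Prop} {t : G} {ι : M →* G} {D : Subgroup G}

/-- `t` in `N_G(D)` -/
def tH (h : Cen 𝒜 t ι D) : Subgroup.normalizer (D : Set G) := ⟨t, h.le_normalizer rfl⟩

/-- `ι` into `N_G(D)` -/
def ιH (h : Cen 𝒜 t ι D) : M →* Subgroup.normalizer (D : Set G) :=
  ι.codRestrict _ (fun m => h.le_normalizer (h.comm m))

@[simp] theorem tH_coe (h : Cen 𝒜 t ι D) : (h.tH : G) = t := rfl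
@[simp] theorem ιH_coe (h : Cen 𝒜 t ι D) (m : M) : (h.ιH m : G) = ι m := rfl

variable {π : Subgroup.normalizer (D : Set G) →* Γ}

theorem _root_.Cfsg.Agent.CoThreeStd.Core.Sec.eq_iff {H : Subgroup G} {π : H →* Γ} (S : Sec D H π) (a b : H) :
    π a = π b ↔ (a : G)⁻¹ * b ∈ D := by
  rw [← inv_mul_eq_one, ← map_inv, ← map_mul, S.ker]
  rfl

/-- lifting of centralisers of involutions -/
theorem lift_comm (h : Cen 𝒜 t ι D) (S : Sec D _ π) {a : Subgroup.normalizer (D : Set G)}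
    (ha : (a : G) * a = 1) {x : Γ} (hx : x * π a = π a * x) :
    ∃ k : Subgroup.normalizer (D : Set G), (k : G) * a = a * k ∧ π k = x := by
  obtain ⟨k, rfl⟩ := S.surj x
  have h1 : π (k * a * k⁻¹) = π a := by
    rw [map_mul, map_mul, map_inv, hx, mul_inv_cancel_right]
  rw [S.eq_iff] at h1
  obtain ⟨d, hd, h2⟩ := conj_of_coset h.odd (x := (k : G) * a * (k : G)⁻¹) (y := a) (by
    calc (k : G) * a * (k : G)⁻¹ * ((k : G) * a * (k : G)⁻¹) = k * (a * a) * (k : G)⁻¹ := by group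
      _ = 1 := by rw [ha]; group) ha h1
  have hdH : d ∈ Subgroup.normalizer (D : Set G) := Subgroup.le_normalizer hd
  refine ⟨⟨d, hdH⟩ * k, ?_, ?_⟩
  · show d * k * a = a * (d * k)
    calc d * k * a = d * (k * a * (k : G)⁻¹) * d⁻¹ * (d * k) := by group
      _ = _ := by rw [h2]
  · rw [map_mul, (S.ker _).2 hd, one_mul]

/-- involutions of `N(D)` with the same image are conjugate -/
theorem conj_of_eq (h : Cen 𝒜 t ι D) (S : Sec D _ π) {a b : Subgroup.normalizer (D : Set G)}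
    (ha : (a : G) * a = 1) (hb : (b : G) * b = 1) (hab : π a = π b) :
    ∃ d ∈ D, d * (a : G) * d⁻¹ = b :=
  conj_of_coset h.odd ha hb ((S.eq_iff a b).1 hab)

theorem isConj_of_eq (h : Cen 𝒜 t ι D) (S : Sec D _ π) {a b : Subgroup.normalizer (D : Set G)}
    (ha : (a : G) * a = 1) (hb : (b : G) * b = 1) (hab : IsConj (π a) (π b)) : IsConj a b := by
  obtain ⟨x, hx⟩ := isConj_iff.1 hab
  obtain ⟨k, rfl⟩ := S.surj x
  rw [← map_inv, ← map_mul, ← map_mul] at hx
  obtain ⟨d, hd, h2⟩ := h.conj_of_eq S (a := k * a * k⁻¹) (b := b) (by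
    show (k : G) * a * (k : G)⁻¹ * ((k : G) * a * (k : G)⁻¹) = 1
    calc (k : G) * a * (k : G)⁻¹ * ((k : G) * a * (k : G)⁻¹) = k * (a * a) * (k : G)⁻¹ := by group
      _ = 1 := by rw [ha]; group) hb hx
  rw [isConj_iff]
  refine ⟨⟨d, Subgroup.le_normalizer hd⟩ * k, ?_⟩
  apply Subtype.ext
  show d * (k : G) * a * (d * (k : G))⁻¹ = b
  rw [← h2]
  show d * (k : G) * a * (d * (k : G))⁻¹ = d * ((k : G) * a * (k : G)⁻¹) * d⁻¹
  group

/-- the oracle in `Γ` -/
def DD (t : G) (π : Subgroup.normalizer (D : Set G) →* Γ) (x : Γ) : Prop :=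
  ∃ k : Subgroup.normalizer (D : Set G), π k = x ∧ IsConj t (k : G)

/-- the elements of `⟨t⟩ × ι M` in `Γ` -/
def inn (h : Cen 𝒜 t ι D) (π : Subgroup.normalizer (D : Set G) →* Γ) (x : Γ) : Prop :=
  ∃ m, x = π (h.ιH m) ∨ x = π h.tH * π (h.ιH m)

theorem sq_of_isConj (h : Cen 𝒜 t ι D) {k : G} (hk : IsConj t k) : k * k = 1 := by
  obtain ⟨g, rfl⟩ := isConj_iff.1 hk
  calc g * t * g⁻¹ * (g * t * g⁻¹) = g * (t * t) * g⁻¹ := by group
    _ = 1 := by rw [h.tt]; group

theorem DD_comm [Finite G] (h : Cen 𝒜 t ι D) (F : MFacts 𝒜) (S : Sec D _ π) {x : Γ} (hx : DD t π x)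
    (hi : h.inn π x) : IsConj (π h.tH) x := by
  obtain ⟨k, rfl, hk⟩ := hx
  have hkk := h.sq_of_isConj hk
  -- the representative in `⟨t⟩ × ι M`
  have key : ∀ s : Subgroup.normalizer (D : Set G), π k = π s → (∃ m, (s : G) = ι m ∨ (s : G) = t * ι m) →
      IsConj (π h.tH) (π k) := by
    intro s hs hm
    have hss : (s : G) * s = 1 := by
      have h1 : π (s * s) = 1 := by
        rw [map_mul, ← hs, ← map_mul]
        have : k * k = 1 := Subtype.ext hkk
        rw [this, map_one]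
      have h2 : (s : G) * s ∈ D := (S.ker _).1 h1
      obtain ⟨m, h3 | h3⟩ := hm
      · rw [h3, ← map_mul] at h2 ⊢
        rw [h.eq_one_of_mem F h2, map_one]
      · have h4 : (s : G) * s = ι (m * m) := by
          rw [h3, map_mul]
          calc t * ι m * (t * ι m) = t * (ι m * t) * ι m := by group
            _ = (t * t) * (ι m * ι m) := by rw [h.comm]; group
            _ = _ := by rw [h.tt, one_mul]
        rw [h4] at h2 ⊢
        rw [h.eq_one_of_mem F h2, map_one]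
    obtain ⟨d, hd, h2⟩ := h.conj_of_eq S hkk hss hs
    obtain ⟨g, hg⟩ := isConj_iff.1 (hk.trans (isConj_iff.2 ⟨d, h2⟩))
    have hgH : g ∈ Subgroup.normalizer (D : Set G) := by
      apply h.balance F
      rw [hg]
      exact hm
    rw [hs, isConj_iff]
    refine ⟨π ⟨g, hgH⟩, ?_⟩
    rw [← map_inv, ← map_mul, ← map_mul]
    congr 1
    exact Subtype.ext hg
  obtain ⟨m, h1 | h1⟩ := hi
  · exact key (h.ιH m) h1 ⟨m, Or.inl rfl⟩
  · rw [← map_mul] at h1
    exact key (h.tH * h.ιH m) h1 ⟨m, Or.inr rfl⟩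

end Cen

end Cfsg.Agent.CoThreeStd.Core
end

-- part: CoThreeStd/Core/SecPD
section
/-!
# S1750: `PD` for the section `Γ = N_G(D)/D` (helper122)
-/

set_option autoImplicit false

namespace Cfsg.Agent.CoThreeStd.Core

open Cfsg.Agent.CoThreeStd.Parity Cfsg.Agent.CoThreeStd.Fusion

variable {G M Γ : Type*} [Group G] [Group M] [Group Γ]

theorem odd_card_of {X : Type*} [Group X] [Finite X] (h : ∀ x : X, Odd (orderOf x)) : Odd (Nat.card X) := by
  by_contra hev
  rw [Nat.not_odd_iff_even, even_iff_two_dvd] at hev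
  have : Fact (Nat.Prime 2) := ⟨Nat.prime_two⟩
  obtain ⟨x, hx⟩ := exists_prime_orderOf_dvd_card' 2 hev
  have := h x
  rw [hx] at this
  exact absurd this (by decide)

namespace Cen

variable {𝒜 : (M ≃* M) → Prop} {t : G} {ι : M →* G} {D : Subgroup G}
  {π : Subgroup.normalizer (D : Set G) →* Γ}

section lift

variable (h : Cen 𝒜 t ι D) {g : G} {k : Subgroup.normalizer (D : Set G)} (hk : g * t * g⁻¹ = k)
  (X : Subgroup Γ)

/-- the preimage of `X` in `C(k)` -/
def pre (π : Subgroup.normalizer (D : Set G) →* Γ) (k : Subgroup.normalizer (D : Set G)) (X : Subgroup Γ) :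
    Subgroup (Subgroup.normalizer (D : Set G)) :=
  Subgroup.centralizer ({k} : Set (Subgroup.normalizer (D : Set G))) ⊓ X.comap π

theorem mem_pre {a : Subgroup.normalizer (D : Set G)} : a ∈ pre π k X ↔ a * k = k * a ∧ π a ∈ X := by
  rw [pre, Subgroup.mem_inf, Subgroup.mem_centralizer_singleton_iff, Subgroup.mem_comap]

/-- `φ` -/
def phi (π : Subgroup.normalizer (D : Set G) →* Γ) (k : Subgroup.normalizer (D : Set G)) (X : Subgroup Γ) :
    pre π k X →* X :=
  (π.comp (pre π k X).subtype).codRestrict X (fun a => ((mem_pre X).1 a.2).2)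

include h hk in
theorem conj_mem_normalizer (a : pre π k X) : g⁻¹ * (a : Subgroup.normalizer (D : Set G)) * g ∈
    Subgroup.normalizer (D : Set G) := by
  apply h.le_normalizer
  have h1 : ((a : Subgroup.normalizer (D : Set G)) : G) * k = k * (a : Subgroup.normalizer (D : Set G)) :=
    congrArg Subtype.val ((mem_pre X).1 a.2).1
  rw [← hk] at h1
  calc g⁻¹ * ((a : Subgroup.normalizer (D : Set G)) : G) * g * t
      = g⁻¹ * (((a : Subgroup.normalizer (D : Set G)) : G) * (g * t * g⁻¹)) * g := by group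
    _ = g⁻¹ * ((g * t * g⁻¹) * ((a : Subgroup.normalizer (D : Set G)) : G)) * g := by rw [h1]
    _ = _ := by group

/-- `ψ` -/
def psi : pre π k X →* Γ :=
  π.comp (((MulAut.conj g⁻¹).toMonoidHom.comp
    ((Subgroup.subtype _).comp (pre π k X).subtype)).codRestrict (Subgroup.normalizer (D : Set G))
    (fun a => by
      have := conj_mem_normalizer h hk X a
      show g⁻¹ * (a : Subgroup.normalizer (D : Set G)) * g⁻¹⁻¹ ∈ _
      rwa [inv_inv]))

theorem psi_comm (a : pre π k X) : psi h hk X a * π h.tH = π h.tH * psi h hk X a := by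
  rw [psi, MonoidHom.comp_apply, ← map_mul, ← map_mul]
  congr 1
  apply Subtype.ext
  show g⁻¹ * (a : Subgroup.normalizer (D : Set G)) * g⁻¹⁻¹ * t = t * (g⁻¹ * (a : Subgroup.normalizer (D : Set G)) * g⁻¹⁻¹)
  have h1 : ((a : Subgroup.normalizer (D : Set G)) : G) * k = k * (a : Subgroup.normalizer (D : Set G)) :=
    congrArg Subtype.val ((mem_pre X).1 a.2).1
  rw [← hk] at h1
  calc g⁻¹ * ((a : Subgroup.normalizer (D : Set G)) : G) * g⁻¹⁻¹ * t
      = g⁻¹ * (((a : Subgroup.normalizer (D : Set G)) : G) * (g * t * g⁻¹)) * g := by group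
    _ = g⁻¹ * ((g * t * g⁻¹) * ((a : Subgroup.normalizer (D : Set G)) : G)) * g := by rw [h1]
    _ = _ := by group

theorem psi_ker (S : Sec D _ π) (a : pre π k X) : psi h hk X a = 1 ↔
    g⁻¹ * ((a : Subgroup.normalizer (D : Set G)) : G) * g ∈ D := by
  rw [psi, MonoidHom.comp_apply, S.ker]
  show g⁻¹ * ((a : Subgroup.normalizer (D : Set G)) : G) * g⁻¹⁻¹ ∈ D ↔ _
  rw [inv_inv]

theorem orderOf_pre (a : pre π k X) : orderOf a = orderOf ((a : Subgroup.normalizer (D : Set G)) : G) := by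
  rw [Subgroup.orderOf_coe, Subgroup.orderOf_coe]

theorem psi_ker_odd (S : Sec D _ π) (a : pre π k X) (ha : psi h hk X a = 1) : Odd (orderOf a) := by
  rw [psi_ker h hk X S] at ha
  have h1 := odd_orderOf h.odd ha
  have h2 : orderOf (g⁻¹ * ((a : Subgroup.normalizer (D : Set G)) : G) * g) =
      orderOf ((a : Subgroup.normalizer (D : Set G)) : G) := by
    have := MulEquiv.orderOf_eq (MulAut.conj g⁻¹) ((a : Subgroup.normalizer (D : Set G)) : G)
    rw [← this]
    congr 1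
    show _ = g⁻¹ * ((a : Subgroup.normalizer (D : Set G)) : G) * g⁻¹⁻¹
    rw [inv_inv]
  rw [orderOf_pre, ← h2]
  exact h1

theorem phi_ker_odd (h : Cen 𝒜 t ι D) (S : Sec D _ π) (a : pre π k X) (ha : phi π k X a = 1) :
    Odd (orderOf a) := by
  rw [orderOf_pre]
  apply odd_orderOf h.odd
  rw [← S.ker]
  exact congrArg Subtype.val ha

include h hk in
theorem phi_surj (S : Sec D _ π) (hX : ∀ p ∈ X, p * π k = π k * p) : Function.Surjective (phi π k X) := by
  rintro ⟨x, hx⟩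
  obtain ⟨a, ha, hax⟩ := h.lift_comm S (a := k) (h.sq_of_isConj (isConj_iff.2 ⟨g, hk⟩)) (hX x hx)
  exact ⟨⟨a, (mem_pre X).2 ⟨Subtype.ext ha, by rw [hax]; exact hx⟩⟩, Subtype.ext hax⟩

end lift

theorem DD_emb [Finite G] (h : Cen 𝒜 t ι D) (S : Sec D _ π) {x : Γ} (hx : DD t π x)
    (P : Subgroup Γ) (hP : IsPGroup 2 P) (hPx : ∀ p ∈ P, p * x = x * p) :
    ∃ ψ : P →* Γ, Function.Injective ψ ∧ (∀ p, ψ p * π h.tH = π h.tH * ψ p) ∧
      ∀ hx : x ∈ P, ψ ⟨x, hx⟩ = π h.tH := by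
  classical
  obtain ⟨k, rfl, hk⟩ := hx
  obtain ⟨g, hg⟩ := isConj_iff.1 hk
  have hkk := h.sq_of_isConj hk
  have hsurj := phi_surj h hg P S hPx
  by_cases hkP : π k ∈ P
  · have hkpre : k ∈ pre π k P := (mem_pre P).2 ⟨rfl, hkP⟩
    obtain ⟨σ, hσ, hσ2⟩ := exists_section (phi π k P) hsurj hP (phi_ker_odd P h S)
      (z := ⟨k, hkpre⟩) (Subtype.ext (Subtype.ext hkk))
    refine ⟨(psi h hg P).comp σ, ?_, fun p => psi_comm h hg P _, ?_⟩
    · rw [injective_iff_map_eq_one]
      intro p hp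
      have h1 := psi_ker_odd h hg P S _ hp
      have h2 : σ p = 1 := by
        obtain ⟨n, hn⟩ := hP p
        have h3 : orderOf (σ p) ∣ 2 ^ n := orderOf_dvd_of_pow_eq_one (by rw [← map_pow, hn, map_one])
        obtain ⟨j, -, hj⟩ := (Nat.dvd_prime_pow Nat.prime_two).1 h3
        rw [hj] at h1
        rcases Nat.eq_zero_or_pos j with rfl | hpos
        · rw [pow_zero] at hj
          exact orderOf_eq_one_iff.1 hj
        · rw [← Nat.not_even_iff_odd] at h1
          exact absurd (Nat.even_pow.2 ⟨even_two, hpos.ne'⟩) h1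
      rw [← hσ p, h2, map_one]
    · intro hx
      have h1 : (⟨π k, hx⟩ : P) = phi π k P ⟨k, hkpre⟩ := rfl
      rw [MonoidHom.comp_apply, h1, hσ2]
      show π _ = π h.tH
      congr 1
      apply Subtype.ext
      show g⁻¹ * (k : G) * g⁻¹⁻¹ = t
      rw [← hg]
      group
  · obtain ⟨σ, hσ, -⟩ := exists_section (phi π k P) hsurj hP (phi_ker_odd P h S)
      (z := 1) (one_mul 1)
    refine ⟨(psi h hg P).comp σ, ?_, fun p => psi_comm h hg P _, fun hx => absurd hx hkP⟩
    rw [injective_iff_map_eq_one]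
    intro p hp
    have h1 := psi_ker_odd h hg P S _ hp
    have h2 : σ p = 1 := by
      obtain ⟨n, hn⟩ := hP p
      have h3 : orderOf (σ p) ∣ 2 ^ n := orderOf_dvd_of_pow_eq_one (by rw [← map_pow, hn, map_one])
      obtain ⟨j, -, hj⟩ := (Nat.dvd_prime_pow Nat.prime_two).1 h3
      rw [hj] at h1
      rcases Nat.eq_zero_or_pos j with rfl | hpos
      · rw [pow_zero] at hj
        exact orderOf_eq_one_iff.1 hj
      · rw [← Nat.not_even_iff_odd] at h1
        exact absurd (Nat.even_pow.2 ⟨even_two, hpos.ne'⟩) h1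
    rw [← hσ p, h2, map_one]

theorem DD_dvd [Finite G] (h : Cen 𝒜 t ι D) (S : Sec D _ π) {x : Γ} (hx : DD t π x)
    (X : Subgroup Γ) (hX : ∀ p ∈ X, p * x = x * p)
    (hN : ∀ N : Subgroup Γ, N ≤ X → (∀ p ∈ X, ∀ n ∈ N, p * n * p⁻¹ ∈ N) → Odd (Nat.card N) → N = ⊥) :
    Nat.card X ∣ Nat.card (Subgroup.centralizer ({π h.tH} : Set Γ)) := by
  classical
  obtain ⟨k, rfl, hk⟩ := hx
  obtain ⟨g, hg⟩ := isConj_iff.1 hk
  have hsurj := phi_surj h hg X S hX
  have hfΓ : Finite Γ := Finite.of_surjective π S.surj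
  have hle : (psi h hg X).ker ≤ (phi π k X).ker := by
    have hb : ((psi h hg X).ker).map (π.comp (pre π k X).subtype) = ⊥ := by
      apply hN
      · rintro _ ⟨a, -, rfl⟩
        exact ((mem_pre X).1 a.2).2
      · rintro p hp _ ⟨a, ha, rfl⟩
        obtain ⟨b, hb⟩ := hsurj ⟨p, hp⟩
        have hb' : π (b : Subgroup.normalizer (D : Set G)) = p := congrArg Subtype.val hb
        refine ⟨b * a * b⁻¹, ?_, ?_⟩
        · exact (psi h hg X).normal_ker.conj_mem a ha b
        · show π _ = p * π _ * p⁻¹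
          rw [← hb', ← map_inv, ← map_mul, ← map_mul]
          rfl
      · apply odd_card_of
        intro n
        rw [← Subgroup.orderOf_coe]
        obtain ⟨a, ha, h1⟩ := n.2
        rw [← h1]
        exact (psi_ker_odd h hg X S a ha).of_dvd_nat (orderOf_map_dvd _ a)
    intro a ha
    have h1 : π.comp (pre π k X).subtype a ∈ ((psi h hg X).ker).map (π.comp (pre π k X).subtype) :=
      ⟨a, ha, rfl⟩
    rw [hb, Subgroup.mem_bot] at h1
    exact Subtype.ext h1
  have h1 := Subgroup.index_dvd_of_le hle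
  rw [Subgroup.index_ker, Subgroup.index_ker, MonoidHom.range_eq_top.2 hsurj, Subgroup.card_top] at h1
  refine h1.trans (Subgroup.card_dvd_of_le ?_)
  rintro _ ⟨a, rfl⟩
  rw [Subgroup.mem_centralizer_singleton_iff]
  exact psi_comm h hg X a

theorem comm_of_pi (h : Cen 𝒜 t ι D) (S : Sec D _ π) {a : Subgroup.normalizer (D : Set G)}
    (ha : π a * π h.tH = π h.tH * π a) : (a : G) * t = t * a := by
  obtain ⟨k, hk, hka⟩ := h.lift_comm S (a := h.tH) h.tt ha
  rw [S.eq_iff] at hka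
  have h1 := h.Dt _ hka
  rw [h.tH_coe] at hk
  calc (a : G) * t = k * (((k : G)⁻¹ * a) * t) := by group
    _ = (k * t) * ((k : G)⁻¹ * a) := by rw [h1]; group
    _ = _ := by rw [hk]; group

/-- the preimage in `G` of a subgroup of `Γ` -/
def up (π : Subgroup.normalizer (D : Set G) →* Γ) (C : Subgroup Γ) : Subgroup G :=
  (C.comap π).map (Subgroup.subtype _)

theorem mem_up {C : Subgroup Γ} {a : G} : a ∈ up π C ↔ ∃ ha : a ∈ Subgroup.normalizer (D : Set G), π ⟨a, ha⟩ ∈ C := by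
  constructor
  · rintro ⟨b, hb, rfl⟩
    exact ⟨b.2, hb⟩
  · rintro ⟨ha, h⟩
    exact ⟨⟨a, ha⟩, h, rfl⟩

theorem mem_up' {C : Subgroup Γ} {a : Subgroup.normalizer (D : Set G)} : (a : G) ∈ up π C ↔ π a ∈ C := by
  rw [mem_up]
  exact ⟨fun ⟨_, h⟩ => h, fun h => ⟨a.2, h⟩⟩

theorem up_le {C₀ C : Subgroup Γ} (h : C₀ ≤ C) : up π C₀ ≤ up π C := by
  rintro _ ⟨b, hb, rfl⟩
  exact ⟨b, h hb, rfl⟩

theorem up_relIndex {C₀ C : Subgroup Γ} (S : Sec D _ π) (h : C₀.relIndex C = 2) :
    (up π C₀).relIndex (up π C) = 2 := by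
  rw [relIndex_two_iff] at h ⊢
  obtain ⟨x, hx, h1⟩ := h
  obtain ⟨a, rfl⟩ := S.surj x
  refine ⟨a, mem_up'.2 hx, ?_⟩
  intro b hb
  obtain ⟨hbH, hb'⟩ := mem_up.1 hb
  have h2 := h1 _ hb'
  rw [← map_mul, ← mem_up', ← mem_up'] at h2
  exact h2

theorem up_centralizer (h : Cen 𝒜 t ι D) (S : Sec D _ π) :
    up π (Subgroup.centralizer ({π h.tH} : Set Γ)) = Subgroup.centralizer ({t} : Set G) := by
  ext a
  rw [mem_up, Subgroup.mem_centralizer_singleton_iff]
  constructor
  · rintro ⟨ha, h1⟩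
    rw [Subgroup.mem_centralizer_singleton_iff] at h1
    exact h.comm_of_pi S h1
  · intro ha
    refine ⟨h.le_normalizer ha, ?_⟩
    rw [Subgroup.mem_centralizer_singleton_iff, ← map_mul, ← map_mul]
    congr 1
    exact Subtype.ext ha

theorem DD_even [Finite G] (hG : ∀ K : Subgroup G, K.index ≠ 2) (h : Cen 𝒜 t ι D) (S : Sec D _ π)
    (C₀ : Subgroup Γ) (hle : C₀ ≤ Subgroup.centralizer ({π h.tH} : Set Γ))
    (h2 : C₀.relIndex (Subgroup.centralizer ({π h.tH} : Set Γ)) = 2) :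
    Even (Nat.card {x : Γ // DD t π x ∧ x * π h.tH = π h.tH * x ∧ x ∉ C₀}) := by
  classical
  have hfΓ : Finite Γ := Finite.of_surjective π S.surj
  have e1 := (pd_of hG h.tt h.t_ne).even (up π C₀) (by
    rw [← h.up_centralizer S]; exact up_le hle) (by
    rw [← h.up_centralizer S]; exact up_relIndex S h2)
  have hH : ∀ a : {a : G // IsConj t a ∧ a * t = t * a ∧ a ∉ up π C₀},
      (a : G) ∈ Subgroup.normalizer (D : Set G) := fun a => h.le_normalizer a.2.2.1
  refine even_of_fibres (A := {a : G // IsConj t a ∧ a * t = t * a ∧ a ∉ up π C₀})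
    (fun a => ⟨π ⟨a, hH a⟩, ⟨⟨a, hH a⟩, rfl, a.2.1⟩, ?_, fun h1 => a.2.2.2 (mem_up.2 ⟨_, h1⟩)⟩) ?_ e1
  · rw [← map_mul, ← map_mul]
    congr 1
    exact Subtype.ext a.2.2.1
  · rintro ⟨x, ⟨k, hkx, hk⟩, hxt, hx0⟩
    subst hkx
    have hkk := h.sq_of_isConj hk
    have h3 : Odd (Nat.card {z : G // z ∈ D ∧ (k * z) * (k * z) = 1}) := by
      apply odd_card_inv
      · refine ⟨D.one_mem, ?_⟩
        rw [mul_one, hkk]
      · rintro z ⟨hz, h4⟩
        refine ⟨D.inv_mem hz, ?_⟩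
        have h5 : z * k * z = k := by
          calc z * k * z = (k : G)⁻¹ * (k * z * (k * z)) := by group
            _ = (k : G)⁻¹ * (k * k) := by rw [h4, hkk]
            _ = k := by group
        calc (k : G) * z⁻¹ * (k * z⁻¹) = k * (z⁻¹ * (z * k * z) * z⁻¹) := by rw [h5]; group
          _ = 1 := by rw [← hkk]; group
      · rintro z ⟨hz, -⟩ h4
        exact eq_one_of_sq (odd_orderOf h.odd hz) h4
    have hzH : ∀ z ∈ D, (k : G) * z ∈ Subgroup.normalizer (D : Set G) := fun z hz =>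
      Subgroup.mul_mem _ k.2 (Subgroup.le_normalizer hz)
    have hz1 : ∀ (z : G) (hz : z ∈ D), π ⟨(k : G) * z, hzH z hz⟩ = π k := by
      intro z hz
      symm
      rw [S.eq_iff]
      show (k : G)⁻¹ * (k * z) ∈ D
      rw [inv_mul_cancel_left]
      exact hz
    have hz2 : ∀ z : G, z ∈ D → (k * z) * (k * z) = 1 →
        IsConj t ((k : G) * z) ∧ (k : G) * z * t = t * (k * z) ∧ (k : G) * z ∉ up π C₀ := by
      intro z hz hzz
      refine ⟨?_, ?_, ?_⟩
      · obtain ⟨d, -, h5⟩ := h.conj_of_eq S hkk (b := ⟨(k : G) * z, hzH z hz⟩) hzz (hz1 z hz).symm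
        exact hk.trans (isConj_iff.2 ⟨d, h5⟩)
      · exact h.comm_of_pi S (a := ⟨(k : G) * z, hzH z hz⟩) (by rw [hz1 z hz]; exact hxt)
      · rw [mem_up]
        rintro ⟨_, h5⟩
        rw [hz1 z hz] at h5
        exact hx0 h5
    refine Eq.subst (motive := fun n => Odd n) (Nat.card_congr (Equiv.ofBijective
      (α := {z : G // z ∈ D ∧ (k * z) * (k * z) = 1})
      (fun z => ⟨⟨k * z.1, hz2 z.1 z.2.1 z.2.2⟩, Subtype.ext (hz1 z.1 z.2.1)⟩) ?_)) h3
    constructor
    · intro z z' hzz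
      have h5 : (k : G) * z = k * z' := congrArg (fun a => a.1.1) hzz
      exact Subtype.ext (mul_left_cancel h5)
    · rintro ⟨⟨a, ha⟩, h5⟩
      have h6 : π ⟨a, hH ⟨a, ha⟩⟩ = π k := congrArg Subtype.val h5
      have h7 : (k : G)⁻¹ * a ∈ D := (S.eq_iff _ _).1 h6.symm
      refine ⟨⟨(k : G)⁻¹ * a, h7, ?_⟩, ?_⟩
      · rw [mul_inv_cancel_left]
        exact h.sq_of_isConj ha.1
      · apply Subtype.ext
        apply Subtype.ext
        exact mul_inv_cancel_left _ _

theorem DD_kill [Finite G] (hG : ∀ K : Subgroup G, K.index ≠ 2) (h : Cen 𝒜 t ι D) (S : Sec D _ π)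
    (C₀ C : Subgroup Γ) (hle : C₀ ≤ C) (h2 : C₀.relIndex C = 2)
    (hcent : ∀ g, g * π h.tH = π h.tH * g → g ∈ C) (ht : π h.tH ∉ C₀)
    (hx : ∀ x ∈ C, x ∉ C₀ → DD t π x → ∃ c ∈ C, c * π h.tH * c⁻¹ = x) : False := by
  refine (pd_of hG h.tt h.t_ne).kill (up π C₀) (up π C) (up_le hle) (up_relIndex S h2) ?_ ?_ ?_
  · intro g hg
    refine mem_up.2 ⟨h.le_normalizer hg, hcent _ ?_⟩
    rw [← map_mul, ← map_mul]
    congr 1
    exact Subtype.ext hg
  · intro h1
    exact ht ((mem_up' (a := h.tH)).1 h1)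
  · intro x hxC hxC₀ hxt
    obtain ⟨hxH, hxC'⟩ := mem_up.1 hxC
    obtain ⟨c, hc, hcx⟩ := hx _ hxC' (fun h1 => hxC₀ (mem_up.2 ⟨hxH, h1⟩)) ⟨⟨x, hxH⟩, rfl, hxt⟩
    obtain ⟨b, rfl⟩ := S.surj c
    have hxx := h.sq_of_isConj hxt
    obtain ⟨d, hd, h3⟩ := h.conj_of_eq S (a := b * h.tH * b⁻¹) (b := ⟨x, hxH⟩) (by
      show (b : G) * t * (b : G)⁻¹ * ((b : G) * t * (b : G)⁻¹) = 1
      calc (b : G) * t * (b : G)⁻¹ * ((b : G) * t * (b : G)⁻¹) = b * (t * t) * (b : G)⁻¹ := by group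
        _ = 1 := by rw [h.tt]; group) hxx (by rw [map_mul, map_mul, map_inv]; exact hcx)
    refine ⟨d * b, ?_, ?_⟩
    · apply Subgroup.mul_mem _ _ (mem_up'.2 hc)
      refine mem_up.2 ⟨Subgroup.le_normalizer hd, ?_⟩
      rw [(S.ker _).2 hd]
      exact C.one_mem
    · rw [← show d * ((b : G) * t * (b : G)⁻¹) * d⁻¹ = x from h3]
      group

/-- **The oracle of `Γ`.** -/
theorem pd [Finite G] (hG : ∀ K : Subgroup G, K.index ≠ 2) (h : Cen 𝒜 t ι D) (F : MFacts 𝒜)
    (S : Sec D _ π) : PD (π h.tH) (h.inn π) (DD t π) where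
  mem := ⟨h.tH, rfl, IsConj.refl t⟩
  conj := by
    rintro _ g ⟨k, rfl, hk⟩
    obtain ⟨a, rfl⟩ := S.surj g
    refine ⟨a * k * a⁻¹, by rw [map_mul, map_mul, map_inv], ?_⟩
    exact hk.trans (isConj_iff.2 ⟨a, rfl⟩)
  sq := by
    rintro _ ⟨k, rfl, hk⟩
    have : k * k = 1 := Subtype.ext (h.sq_of_isConj hk)
    rw [← map_mul, this, map_one]
  ne := by
    rintro _ ⟨k, rfl, hk⟩ h1
    have h2 := (S.ker k).1 h1
    have h3 := eq_one_of_sq (odd_orderOf h.odd h2) (h.sq_of_isConj hk)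
    rw [h3] at hk
    obtain ⟨g, hg⟩ := isConj_iff.1 hk
    apply h.t_ne
    rwa [mul_inv_eq_one, mul_eq_left] at hg
  comm := fun x hx _ hi => h.DD_comm F S hx hi
  emb := fun x hx P hP hPx => h.DD_emb S hx P hP hPx
  dvd := fun x hx X hX hN => h.DD_dvd S hx X hX hN
  even := fun C₀ hle h2 => h.DD_even hG S C₀ hle h2
  kill := fun C₀ C hle h2 hc ht hx => h.DD_kill hG S C₀ C hle h2 hc ht hx

end Cen

end Cfsg.Agent.CoThreeStd.Core
end

-- part: CoThreeStd/Core/GammaPD
section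
/-!
# S1750, pattern γ with the parity oracle instead of "no subgroup of index two"
(the end of helper781's proof, `GammaEnd.final_kill` and `GammaMain.gamma_false`, with `PD`; helper122)
-/

set_option autoImplicit false

namespace Cfsg.Agent.CoThreeStd.Gamma

open Cfsg.Agent.CoThreeStd.MTwelve Cfsg.Agent.CoThreeStd.Fusion Cfsg.Agent.SporRec.Co3
open Cfsg.Agent.CoThreeStd.Core

variable {G : Type*} [Group G] {t : G} {f : H →* G}

theorem final_kill_pd [Finite G] {inner 𝒟 : G → Prop} (P : PD t inner 𝒟) (c : Ctx t f) (A1 : Subgroup G)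
    (hcomm : ∀ a ∈ A1, ∀ b ∈ A1, Commute a (t * b * t))
    (hf : ∀ m, ∃ a ∈ A1, ∃ b ∈ A1, f m = a * (t * b * t)) : False := by
  classical
  have tt := c.tt
  have it := c.inv_t
  set B := prodT (toCx c) A1 hcomm with hB
  have hmemB : ∀ g, g ∈ B ↔ ∃ a ∈ A1, ∃ b ∈ A1, g = a * (t * b * t) := fun g => Iff.rfl
  have hA1B : ∀ a ∈ A1, a ∈ B := fun a ha => ⟨a, ha, 1, A1.one_mem, by rw [mul_one, tt, mul_one]⟩
  have hA2B : ∀ a ∈ A1, t * a * t ∈ B := fun a ha => ⟨1, A1.one_mem, a, ha, by rw [one_mul]⟩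
  have hfB : ∀ m, f m ∈ B := fun m => hf m
  -- `t` is not in `B`
  have htB : t ∉ B := by
    rintro ⟨a, ha, b, hb, hab⟩
    have h1 : ∀ x ∈ A1, t * x * t ∈ A1 := by
      intro x hx
      have h2 : t * x * t = a * x * a⁻¹ := by
        have h3 := (hcomm x hx b hb).eq
        calc t * x * t = t * x * t⁻¹ := by rw [it]
          _ = (a * (t * b * t)) * x * (a * (t * b * t))⁻¹ := by rw [← hab]
          _ = a * ((t * b * t) * x) * (t * b * t)⁻¹ * a⁻¹ := by group
          _ = a * (x * (t * b * t)) * (t * b * t)⁻¹ * a⁻¹ := by rw [h3]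
          _ = _ := by group
      rw [h2]
      exact A1.mul_mem (A1.mul_mem ha hx) (A1.inv_mem ha)
    have h2 : ∀ x ∈ A1, ∀ z ∈ A1, Commute x z := by
      intro x hx z hz
      have h3 := hcomm x hx _ (h1 z hz)
      have h4 : t * (t * z * t) * t = z := by
        calc t * (t * z * t) * t = (t * t) * z * (t * t) := by group
          _ = z := by rw [tt]; group
      rwa [h4] at h3
    have h3 : ∀ m, f m ∈ A1 := by
      intro m
      obtain ⟨x, hx, z, hz, h4⟩ := hf m
      rw [h4]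
      exact A1.mul_mem hx (h1 z hz)
    have h4 := (h2 _ (h3 p) _ (h3 q)).eq
    rw [← map_mul, ← map_mul] at h4
    have h5 := c.inj h4
    rw [← wd_p, ← wd_q, ← wd_append, ← wd_append] at h5
    exact absurd (eqW_of_wd h5) (by decide +kernel)
  -- `B` is normalised by `t`
  have htn : ∀ g ∈ B, t * g * t ∈ B := by
    rintro _ ⟨a, ha, b, hb, rfl⟩
    refine ⟨b, hb, a, ha, ?_⟩
    have h1 := (hcomm b hb a ha).eq
    calc t * (a * (t * b * t)) * t = (t * a * t) * (b * (t * t)) := by group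
      _ = _ := by rw [tt, mul_one, h1]
  let G0 : Subgroup G :=
    { carrier := {g | g ∈ B ∨ t * g ∈ B}
      one_mem' := Or.inl B.one_mem
      mul_mem' := by
        rintro g g' (h | h) (h' | h')
        · exact Or.inl (B.mul_mem h h')
        · right
          have := B.mul_mem (htn g h) h'
          have e : t * g * t * (t * g') = t * (g * g') := by
            calc t * g * t * (t * g') = t * g * (t * t) * g' := by group
              _ = _ := by rw [tt]; group
          rwa [e] at this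
        · right
          have := B.mul_mem h h'
          rwa [mul_assoc] at this
        · left
          have := B.mul_mem (htn _ h) h'
          have e : t * (t * g) * t * (t * g') = g * g' := by
            calc t * (t * g) * t * (t * g') = (t * t) * g * (t * t) * g' := by group
              _ = _ := by rw [tt]; group
          rwa [e] at this
      inv_mem' := by
        rintro g (h | h)
        · exact Or.inl (B.inv_mem h)
        · right
          have := htn _ (B.inv_mem h)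
          have e : t * (t * g)⁻¹ * t = t * g⁻¹ := by
            rw [mul_inv_rev, it]
            calc t * (g⁻¹ * t) * t = t * g⁻¹ * (t * t) := by group
              _ = _ := by rw [tt]; group
          rwa [e] at this }
  have hG0 : ∀ g, g ∈ G0 ↔ g ∈ B ∨ t * g ∈ B := fun g => Iff.rfl
  have hle : B ≤ G0 := fun g hg => Or.inl hg
  have htG0 : t ∈ G0 := Or.inr (by rw [tt]; exact B.one_mem)
  have hrel : B.relIndex G0 = 2 := by
    rw [Subgroup.relIndex, Subgroup.index_eq_two_iff]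
    refine ⟨⟨t, htG0⟩, ?_⟩
    rintro ⟨g, hg⟩
    rw [Subgroup.mem_subgroupOf, Subgroup.mem_subgroupOf]
    show Xor (g * t ∈ B) (g ∈ B)
    rcases hg with h | h
    · right
      refine ⟨h, fun h1 => htB ?_⟩
      have := B.mul_mem (B.inv_mem h) h1
      rwa [inv_mul_cancel_left] at this
    · left
      constructor
      · have := htn _ h
        have e : t * (t * g) * t = g * t := by
          calc t * (t * g) * t = (t * t) * g * t := by group
            _ = _ := by rw [tt, one_mul]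
        rwa [e] at this
      · intro h1
        apply htB
        have := B.mul_mem h (B.inv_mem h1)
        rwa [mul_inv_cancel_right] at this
  have hcent : ∀ g, g * t = t * g → g ∈ G0 := by
    intro g hg
    obtain ⟨m, rfl | rfl⟩ := c.cent g hg
    · exact Or.inl (hfB m)
    · right
      rw [← mul_assoc, tt, one_mul]
      exact hfB m
  -- elements of `A₁` inverted by `t`
  have hz : ∀ z ∈ A1, t * z * t = z⁻¹ → ∃ ω ∈ A1, ω⁻¹ * t * ω = t * z := by
    intro z hzA hzt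
    have hpow : ∀ k : ℕ, t * z ^ k * t = (z ^ k)⁻¹ := by
      intro k
      induction k with
      | zero => rw [pow_zero, mul_one, tt, inv_one]
      | succ k ih =>
        calc t * z ^ (k + 1) * t = t * (z ^ k * z) * t := by rw [pow_succ]
          _ = t * z ^ k * (t * t) * z * t := by rw [tt]; group
          _ = (t * z ^ k * t) * (t * z * t) := by group
          _ = (z ^ (k + 1))⁻¹ := by rw [ih, hzt]; group
    have hodd : Odd (orderOf z) := by
      rw [← Nat.not_even_iff_odd]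
      intro hev
      obtain ⟨k, hk⟩ := hev
      have hpos : 0 < orderOf z := orderOf_pos z
      have hk0 : 0 < k := by omega
      set i := z ^ k with hi
      have hii : i * i = 1 := by rw [hi, ← pow_add, ← hk, pow_orderOf_eq_one]
      have hi1 : i ≠ 1 := pow_ne_one_of_lt_orderOf (by omega) (by omega)
      have hiA : i ∈ A1 := A1.pow_mem hzA k
      have hit : t * i * t = i := by rw [hpow k, ← hi]; exact inv_eq_of_mul_eq_one_left hii
      have hic : i * t = t * i := by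
        calc i * t = (t * i * t) * t := by rw [hit]
          _ = t * i * (t * t) := by group
          _ = _ := by rw [tt, mul_one]
      have hcom : ∀ g ∈ B, g * i = i * g := by
        rintro _ ⟨a, ha, b, hb, rfl⟩
        have h1 : a * i = i * a := by
          have := (hcomm a ha i hiA).eq
          rwa [hit] at this
        have h2 : (t * b * t) * i = i * (t * b * t) := (hcomm i hiA b hb).eq.symm
        calc a * (t * b * t) * i = a * ((t * b * t) * i) := by group
          _ = (a * i) * (t * b * t) := by rw [h2]; group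
          _ = _ := by rw [h1]; group
      obtain ⟨n, hn⟩ := c.cent i hic
      have hn1 : n = 1 := by
        apply center_trivial
        intro m
        apply c.inj
        rw [map_mul, map_mul]
        have h3 := hcom _ (hfB m)
        rcases hn with hn | hn
        · rw [← hn]; exact h3.symm
        · apply mul_left_cancel (a := t)
          calc t * (f n * f m) = i * f m := by rw [hn]; group
            _ = f m * i := h3.symm
            _ = (f m * t) * f n := by rw [hn]; group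
            _ = _ := by rw [c.comm]; group
      rw [hn1, map_one, mul_one] at hn
      rcases hn with hn | hn
      · exact hi1 hn
      · exact htB (by rw [← hn]; exact hA1B i hiA)
    obtain ⟨k, hk⟩ := hodd
    refine ⟨z ^ (k + 1), A1.pow_mem hzA _, ?_⟩
    have h1 : z ^ (k + 1) * z ^ (k + 1) = z := by
      rw [← pow_add, show k + 1 + (k + 1) = (2 * k + 1) + 1 by ring, pow_succ, ← hk, pow_orderOf_eq_one,
        one_mul]
    have h2 := hpow (k + 1)
    calc (z ^ (k + 1))⁻¹ * t * z ^ (k + 1) = (z ^ (k + 1))⁻¹ * (t * z ^ (k + 1) * t) * t⁻¹ := by group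
      _ = (z ^ (k + 1) * z ^ (k + 1))⁻¹ * t⁻¹ := by rw [h2]; group
      _ = (t * z * t) * t := by rw [h1, it, hzt]
      _ = t * z * (t * t) := by group
      _ = _ := by rw [tt, mul_one]
  -- every conjugate of `t` in `G₀ ∖ B` is `B`-conjugate to `t`
  have hfus : ∀ h, h ∈ G0 → h ∉ B → 𝒟 h → ∃ x ∈ B, x⁻¹ * t * x = h := by
    intro h hh hhB hcj
    have h1 : t * h ∈ B := by
      rcases hh with h1 | h1
      · exact absurd h1 hhB
      · exact h1
    obtain ⟨a, ha, b, hb, hab⟩ := h1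
    have hh2 : h * h = 1 := P.sq _ hcj
    have hhe : h = t * (a * (t * b * t)) := by rw [← hab, ← mul_assoc, tt, one_mul]
    set x := t * b * t with hx
    have hxh : x * h * x⁻¹ = t * (b * a) := by
      calc x * h * x⁻¹ = x * t * a := by rw [hhe]; group
        _ = t * b * (t * t) * a := by rw [hx]; group
        _ = _ := by rw [tt]; group
    have hsq : (t * (b * a)) * (t * (b * a)) = 1 := by
      rw [← hxh]
      calc x * h * x⁻¹ * (x * h * x⁻¹) = x * (h * h) * x⁻¹ := by group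
        _ = 1 := by rw [hh2]; group
    obtain ⟨ω, hω, hω2⟩ := hz (b * a) (A1.mul_mem hb ha)
      (eq_inv_of_mul_eq_one_left (by rw [← hsq]; group))
    refine ⟨ω * x, B.mul_mem (hA1B _ hω) (hA2B _ hb), ?_⟩
    calc (ω * x)⁻¹ * t * (ω * x) = x⁻¹ * (ω⁻¹ * t * ω) * x := by group
      _ = x⁻¹ * (x * h * x⁻¹) * x := by rw [hω2, hxh]
      _ = h := by group
  -- the count
  refine P.kill B G0 hle hrel hcent htB ?_
  intro x hx hxB hxD
  obtain ⟨z, hz, hzx⟩ := hfus x hx hxB hxD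
  exact ⟨z⁻¹, G0.inv_mem (hle hz), by rw [inv_inv]; exact hzx⟩

/-- **Pattern γ is dead.** -/
theorem gamma_false_pd [Finite G] {inner 𝒟 : G → Prop} (P : PD t inner 𝒟) (c : Ctx t f)
    (h1 : IsConj t (t * f y)) (h2 : ¬ IsConj t (f y)) (h3 : ¬ IsConj t (f (p * r))) : False := by
  obtain ⟨g, g1, g2, g3⟩ := exists_g c h1 h2 h3
  obtain ⟨L, S⟩ := exists_L (toCx c) g1 g2 g3
  have hT := Th_trip (toCx c) S
  have tt := c.tt
  set gens : Set G := {a | ∃ i < 3, a = Lw L (trip i)} with hgens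
  set A1 := Subgroup.closure gens with hA1
  have hcomm : ∀ a ∈ A1, ∀ b ∈ A1, Commute a (t * b * t) := by
    have k1 : ∀ a ∈ gens, ∀ b ∈ A1, Commute a (t * b * t) := by
      rintro _ ⟨i, hi, rfl⟩ b hb
      induction hb using Subgroup.closure_induction with
      | mem b hb =>
        obtain ⟨j, hj, rfl⟩ := hb
        exact hT i hi j hj
      | one => rw [mul_one, tt]; exact Commute.one_right _
      | mul b b' _ _ ih ih' =>
        have e : t * (b * b') * t = (t * b * t) * (t * b' * t) := by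
          calc t * (b * b') * t = t * b * 1 * b' * t := by group
            _ = t * b * (t * t) * b' * t := by rw [tt]
            _ = _ := by group
        rw [e]
        exact ih.mul_right ih'
      | inv b _ ih =>
        have e : t * b⁻¹ * t = (t * b * t)⁻¹ := by
          rw [mul_inv_rev, mul_inv_rev, c.inv_t, mul_assoc]
        rw [e]
        exact ih.inv_right
    intro a ha b hb
    induction ha using Subgroup.closure_induction with
    | mem a ha => exact k1 a ha b hb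
    | one => exact Commute.one_left _
    | mul a a' _ _ ih ih' => exact ih.mul_left ih'
    | inv a _ ih => exact ih.inv_left
  refine final_kill_pd P c A1 hcomm ?_
  intro m
  have h4 : m ∈ (prodT (toCx c) A1 hcomm).comap f := by
    apply trip_gen
    intro i hi
    rw [Subgroup.mem_comap, mem_prodT]
    have hLA : Lw L (trip i) ∈ A1 := Subgroup.subset_closure ⟨i, hi, rfl⟩
    refine ⟨_, hLA, _, hLA, ?_⟩
    have hk : ∃ m, eqW (cj [0] m) (trip i) = true := by
      interval_cases i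
      · exact ⟨[], by decide +kernel⟩
      · exact ⟨[5, 0, 1, 3], by decide +kernel⟩
      · exact ⟨[5, 2, 3, 2, 1], by decide +kernel⟩
    obtain ⟨k, hk⟩ := hk
    exact F_LL S k hk
  exact h4

end Cfsg.Agent.CoThreeStd.Gamma
end

-- part: CoThreeStd/FactsLift
section
/-!
# `HFacts.Facts` lifts through a kernel of odd order

`π : H →* K` onto, kernel of odd order, `Facts K`, `tH` an involution over `t`: there is `Facts H` with
involution `tH` (`exists_facts`).
-/

set_option autoImplicit false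

namespace Cfsg.Agent.CoThreeStd.FactsLift

open Subgroup
open Cfsg.Agent.CoThreeStd.HFacts
open Cfsg.Agent.SylowL5.OddLift (injOn isConj_lift)

variable {H K : Type*} [Group H] [Group K] {π : H →* K}

/-- Two 2-subgroups with the same image are conjugate under the kernel. -/
theorem exists_conj_ker [Finite H] (hodd : Odd (Nat.card π.ker)) {A B : Subgroup H}
    (hA : IsPGroup 2 A) (hB : IsPGroup 2 B) (h : A.map π = B.map π) :
    ∃ n ∈ π.ker, ∀ a, a ∈ A ↔ n * a * n⁻¹ ∈ B := by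
  classical
  have : Fact (Nat.Prime 2) := ⟨Nat.prime_two⟩
  set W : Subgroup H := (A.map π).comap π with hW
  have hAW : A ≤ W := fun a ha => ⟨a, ha, rfl⟩
  have hBW : B ≤ W := fun b hb => by
    show π b ∈ A.map π
    rw [h]
    exact ⟨b, hb, rfl⟩
  have hmax : ∀ (R : Subgroup H), IsPGroup 2 R → R ≤ W → R.map π = A.map π →
      ∀ (S : Subgroup W), IsPGroup 2 S → R.subgroupOf W ≤ S → S = R.subgroupOf W := by
    intro R hR hRW hRm S hS hle
    apply le_antisymm _ hle
    intro s hs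
    obtain ⟨r, hr, hrs⟩ : π s ∈ R.map π := by rw [hRm]; exact s.2
    have h1 : IsPGroup 2 (S.map W.subtype) := hS.map _
    have h2 : (s : H) = r := injOn hodd h1 ⟨s, hs, rfl⟩ ⟨⟨r, hRW hr⟩, hle hr, rfl⟩ hrs.symm
    rw [mem_subgroupOf, h2]
    exact hr
  let S₁ : Sylow 2 W := ⟨A.subgroupOf W, hA.comap_of_injective W.subtype W.subtype_injective,
    fun hS hle => hmax A hA hAW rfl _ hS hle⟩
  let S₂ : Sylow 2 W := ⟨B.subgroupOf W, hB.comap_of_injective W.subtype W.subtype_injective,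
    fun hS hle => hmax B hB hBW h.symm _ hS hle⟩
  obtain ⟨w, hw⟩ := MulAction.exists_smul_eq W S₁ S₂
  have hwA : ∀ a ∈ A, (w : H) * a * (w : H)⁻¹ ∈ B := by
    intro a ha
    have h1 : (⟨a, hAW ha⟩ : W) ∈ (S₁ : Subgroup W) := ha
    have h2 : w * ⟨a, hAW ha⟩ * w⁻¹ ∈ ((w • S₁ : Sylow 2 W) : Subgroup W) := by
      rw [Sylow.coe_subgroup_smul]
      exact ⟨_, h1, rfl⟩
    rw [hw] at h2
    exact h2
  have hwB : ∀ b ∈ B, (w : H)⁻¹ * b * (w : H) ∈ A := by
    intro b hb
    have h1 : (⟨b, hBW hb⟩ : W) ∈ ((w • S₁ : Sylow 2 W) : Subgroup W) := by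
      rw [hw]; exact hb
    rw [Sylow.coe_subgroup_smul] at h1
    obtain ⟨a, ha, hab⟩ := h1
    have h2 : w * a * w⁻¹ = ⟨b, hBW hb⟩ := hab
    have h3 : (w : H) * a * (w : H)⁻¹ = b := congrArg Subtype.val h2
    rw [← h3]
    have e : (w : H)⁻¹ * (w * a * (w : H)⁻¹) * w = a := by group
    rw [e]
    exact ha
  obtain ⟨b₁, hb₁, hb₁w⟩ : π (w : H) ∈ B.map π := by
    rw [← h]; exact w.2
  refine ⟨b₁⁻¹ * w, ?_, ?_⟩
  · rw [MonoidHom.mem_ker, map_mul, map_inv, hb₁w, inv_mul_cancel]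
  · intro a
    constructor
    · intro ha
      have := B.mul_mem (B.mul_mem (B.inv_mem hb₁) (hwA a ha)) hb₁
      have e : b₁⁻¹ * ↑w * a * (b₁⁻¹ * ↑w)⁻¹ = b₁⁻¹ * (↑w * a * (↑w)⁻¹) * b₁ := by group
      rwa [e]
    · intro ha
      have h1 := B.mul_mem (B.mul_mem hb₁ ha) (B.inv_mem hb₁)
      have h2 := hwB _ h1
      have e : (w : H)⁻¹ * (b₁ * (b₁⁻¹ * ↑w * a * (b₁⁻¹ * ↑w)⁻¹) * b₁⁻¹) * w = a := by group
      rwa [e] at h2

theorem two_zpowers {G : Type*} [Group G] {g : G} {n : ℕ} (h : g ^ 2 ^ n = 1) :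
    IsPGroup 2 (zpowers g) := by
  rw [zpowers_eq_closure]
  exact SylLem.two_closure h

/-- The product of commuting 2-subgroups. -/
theorem two_sup {G : Type*} [Group G] {A B : Subgroup G} (hA : IsPGroup 2 A) (hB : IsPGroup 2 B)
    (h : ∀ a ∈ A, ∀ b ∈ B, a * b = b * a) : IsPGroup 2 (A ⊔ B : Subgroup G) := by
  have hcm : ∀ (a : A) (b : B), Commute (A.subtype a) (B.subtype b) := fun a b => h a a.2 b b.2
  have h1 : (MonoidHom.noncommCoprod A.subtype B.subtype hcm).range = A ⊔ B := by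
    rw [MonoidHom.noncommCoprod_range, range_subtype, range_subtype]
  rintro ⟨x, hx⟩
  rw [← h1] at hx
  obtain ⟨⟨a, b⟩, rfl⟩ := hx
  obtain ⟨m, hm⟩ := hA a
  obtain ⟨n, hn⟩ := hB b
  have hm' : (a : G) ^ 2 ^ m = 1 := by
    have := congrArg Subtype.val hm
    simpa using this
  have hn' : (b : G) ^ 2 ^ n = 1 := by
    have := congrArg Subtype.val hn
    simpa using this
  refine ⟨m + n, Subtype.ext ?_⟩
  show ((a : G) * b) ^ 2 ^ (m + n) = 1
  have hab : Commute (a : G) b := h a a.2 b b.2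
  rw [hab.mul_pow, pow_add, pow_mul, hm', one_pow, mul_comm, pow_mul, hn', one_pow, one_mul]

theorem comm_sup {G : Type*} [Group G] {A B : Subgroup G} {c : G} (hA : ∀ a ∈ A, c * a = a * c)
    (hB : ∀ b ∈ B, c * b = b * c) : ∀ x ∈ A ⊔ B, c * x = x * c := by
  have h1 : A ⊔ B ≤ centralizer ({c} : Set G) := sup_le
    (fun a ha => mem_centralizer_singleton_iff.mpr (hA a ha).symm)
    (fun b hb => mem_centralizer_singleton_iff.mpr (hB b hb).symm)
  exact fun x hx => (mem_centralizer_singleton_iff.mp (h1 hx)).symm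

theorem comm_zpowers {G : Type*} [Group G] {c g : G} (h : c * g = g * c) :
    ∀ x ∈ zpowers g, c * x = x * c := by
  rintro _ ⟨k, rfl⟩
  exact ((show Commute c g from h).zpow_right k).eq

/-- Lifting an involution commuting with a 2-subgroup. -/
theorem exists_inv_lift [Finite H] (hsurj : Function.Surjective π) (hodd : Odd (Nat.card π.ker))
    {A : Subgroup H} (hA : IsPGroup 2 A) {c : K} (hcc : c * c = 1)
    (hc : ∀ a ∈ A, c * π a = π a * c) :
    ∃ b : H, π b = c ∧ b * b = 1 ∧ ∀ a ∈ A, b * a = a * b := by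
  have h1 : IsPGroup 2 (A.map π ⊔ zpowers c : Subgroup K) := by
    refine two_sup (hA.map π) (two_zpowers (n := 1) (by rw [pow_one, pow_two]; exact hcc)) ?_
    rintro _ ⟨a, ha, rfl⟩ b hb
    have := hc a ha
    exact comm_zpowers this.symm b hb
  obtain ⟨Q, hAQ, -, hQ, hQm⟩ := GH.Cov.Lift.exists_lift (H := ⊤) h1
    (by rw [← MonoidHom.range_eq_map, MonoidHom.range_eq_top.mpr hsurj]; exact le_top) hA le_top
    (fun r hr => mem_sup_left ⟨r, hr, rfl⟩)
  obtain ⟨b, hb, hbc⟩ : c ∈ Q.map π := by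
    rw [hQm]
    exact mem_sup_right (mem_zpowers c)
  refine ⟨b, hbc, ?_, ?_⟩
  · exact injOn hodd hQ (Q.mul_mem hb hb) Q.one_mem (by rw [map_mul, hbc, hcc, map_one])
  · intro a ha
    refine injOn hodd hQ (Q.mul_mem hb (hAQ ha)) (Q.mul_mem (hAQ ha) hb) ?_
    rw [map_mul, map_mul, hbc, hc a ha]

section

variable [Finite H] (hsurj : Function.Surjective π) (hodd : Odd (Nat.card π.ker))

include hodd in
theorem eq_one_of_map {x : H} {n : ℕ} (hx : x ^ 2 ^ n = 1) (h : π x = 1) : x = 1 :=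
  injOn hodd (two_zpowers hx) (mem_zpowers x) (one_mem _) (by rw [h, map_one])

include hsurj hodd

theorem conj_of {a b : H} (ha : a * a = 1) (hb : b * b = 1) (h : IsConj (π a) (π b)) : IsConj a b :=
  isConj_lift hsurj hodd ha hb h

omit [Finite H] hsurj hodd in
theorem conj_map {a b : H} (h : IsConj a b) : IsConj (π a) (π b) := by
  obtain ⟨c, rfl⟩ := isConj_iff.1 h
  exact isConj_iff.2 ⟨π c, by simp⟩

theorem nd_of {t x : H} (ht : t * t = 1) (hx : x * x = 1) (h : Nd (π t) (π x)) : Nd t x := by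
  refine ⟨hx, ?_, ?_⟩
  · rintro rfl
    exact h.2.1 (map_one π)
  · intro hc
    exact h.2.2 (conj_map hc)

theorem nd_map {t x : H} (ht : t * t = 1) (h : Nd t x) : Nd (π t) (π x) := by
  refine ⟨by rw [← map_mul, h.1, map_one], ?_, ?_⟩
  · intro h1
    exact h.2.1 (eq_one_of_map hodd (n := 1) (by rw [pow_one, pow_two]; exact h.1) h1)
  · intro hc
    exact h.2.2 (conj_of hsurj hodd ht h.1 hc)

/-- **The facts lift.** -/
theorem exists_facts (F : Facts K) {tH : H} (htt : tH * tH = 1) (ht : π tH = F.t) :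
    ∃ F' : Facts H, F'.t = tH := by
  classical
  have htp : IsPGroup 2 (zpowers tH) := two_zpowers (n := 1) (by rw [pow_one, pow_two]; exact htt)
  obtain ⟨S, htS, -, hS, hSm⟩ := GH.Cov.Lift.exists_lift (H := ⊤) F.two_S
    (by rw [← MonoidHom.range_eq_map, MonoidHom.range_eq_top.mpr hsurj]; exact le_top) htp le_top
    (by
      rintro _ ⟨k, rfl⟩
      show π (tH ^ k) ∈ F.S
      rw [map_zpow, ht]
      exact F.S.zpow_mem F.t_S k)
  have htS : tH ∈ S := htS (mem_zpowers _)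
  have inj : ∀ {a b : H}, a ∈ S → b ∈ S → π a = π b → a = b := fun ha hb hab =>
    injOn hodd hS ha hb hab
  have mapS : ∀ {a : H}, a ∈ S → π a ∈ F.S := by
    intro a ha
    rw [← hSm]
    exact ⟨a, ha, rfl⟩
  have sec : ∀ {k : K}, k ∈ F.S → ∃ a ∈ S, π a = k := by
    intro k hk
    rw [← hSm] at hk
    obtain ⟨a, ha, hak⟩ := hk
    exact ⟨a, ha, hak⟩
  have mulS : ∀ {a b : H}, a ∈ S → b ∈ S → a * b ∈ S := fun ha hb => S.mul_mem ha hb
  have nd1 : ∀ {x : H}, x * x = 1 → Nd F.t (π x) → Nd tH x := fun hx h =>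
    nd_of hsurj hodd htt hx (by rw [ht]; exact h)
  have nd2 : ∀ {x : H}, Nd tH x → Nd F.t (π x) := fun h => by
    have := nd_map hsurj hodd htt h
    rwa [ht] at this
  have cj1 : ∀ {x : H}, x * x = 1 → IsConj F.t (π x) → IsConj tH x := fun hx h =>
    conj_of hsurj hodd htt hx (by rw [ht]; exact h)
  have cj2 : ∀ {x : H}, IsConj tH x → IsConj F.t (π x) := fun h => by
    have := conj_map (π := π) h
    rwa [ht] at this
  have sqc : ∀ {k : K}, IsConj F.t k → k * k = 1 := by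
    intro k hk
    obtain ⟨c, rfl⟩ := isConj_iff.1 hk
    calc c * F.t * c⁻¹ * (c * F.t * c⁻¹) = c * (F.t * F.t) * c⁻¹ := by group
      _ = 1 := by rw [F.t_mul]; group
  -- elements of `S` over the given ones
  obtain ⟨y, hyS, hy⟩ := sec F.y_S
  obtain ⟨v, hvS, hv⟩ := sec (F.W_S ((F.mem_W F.v).2 (Or.inr (Or.inl rfl))))
  obtain ⟨w, hwS, hw⟩ := sec (F.W_S ((F.mem_W F.w).2 (Or.inr (Or.inr (Or.inl rfl)))))
  have hzY : F.z ∈ F.Y3 := (F.mem_Y3 F.z).2 (Or.inr (by rw [F.z_nd.1]; exact F.W.one_mem))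
  obtain ⟨z, hzS, hz⟩ := sec (F.Y3_S hzY)
  obtain ⟨e, heS, he⟩ := sec F.e0_S
  have sq1 : ∀ {x : H}, x ∈ S → π x * π x = 1 → x * x = 1 := by
    intro x hx h
    exact inj (mulS hx hx) S.one_mem (by rw [map_mul, h, map_one])
  -- the subgroups
  obtain ⟨W, hW⟩ : ∃ W : Subgroup H, W = S ⊓ F.W.comap π := ⟨_, rfl⟩
  obtain ⟨Y, hY⟩ : ∃ Y : Subgroup H, Y = S ⊓ F.Y3.comap π := ⟨_, rfl⟩
  obtain ⟨N, hN⟩ : ∃ N : Subgroup H, N = S ⊓ F.K3.comap π := ⟨_, rfl⟩
  have mW : ∀ {x : H}, x ∈ W ↔ x ∈ S ∧ π x ∈ F.W := by intro x; rw [hW]; rfl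
  have mY : ∀ {x : H}, x ∈ Y ↔ x ∈ S ∧ π x ∈ F.Y3 := by intro x; rw [hY]; rfl
  have mN : ∀ {x : H}, x ∈ N ↔ x ∈ S ∧ π x ∈ F.K3 := by intro x; rw [hN]; rfl
  have secW : ∀ {k : K}, k ∈ F.W → ∃ a ∈ W, π a = k := by
    intro k hk
    obtain ⟨a, ha, hak⟩ := sec (F.W_S hk)
    exact ⟨a, mW.2 ⟨ha, by rw [hak]; exact hk⟩, hak⟩
  have secY : ∀ {k : K}, k ∈ F.Y3 → ∃ a ∈ Y, π a = k := by
    intro k hk
    obtain ⟨a, ha, hak⟩ := sec (F.Y3_S hk)
    exact ⟨a, mY.2 ⟨ha, by rw [hak]; exact hk⟩, hak⟩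
  have secN : ∀ {k : K}, k ∈ F.K3 → ∃ a ∈ N, π a = k := by
    intro k hk
    obtain ⟨a, ha, hak⟩ := sec (F.K3_S hk)
    exact ⟨a, mN.2 ⟨ha, by rw [hak]; exact hk⟩, hak⟩
  have hWS : W ≤ S := fun x hx => (mW.1 hx).1
  have hYS : Y ≤ S := fun x hx => (mY.1 hx).1
  have hNS : N ≤ S := fun x hx => (mN.1 hx).1
  have hWp : IsPGroup 2 W := hS.to_le hWS
  have hYp : IsPGroup 2 Y := hS.to_le hYS
  have mapW : W.map π = F.W := by
    ext k
    constructor
    · rintro ⟨a, ha, rfl⟩; exact (mW.1 ha).2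
    · intro hk
      obtain ⟨a, ha, hak⟩ := secW hk
      exact ⟨a, ha, hak⟩
  have mapY : Y.map π = F.Y3 := by
    ext k
    constructor
    · rintro ⟨a, ha, rfl⟩; exact (mY.1 ha).2
    · intro hk
      obtain ⟨a, ha, hak⟩ := secY hk
      exact ⟨a, ha, hak⟩
  -- centralizing `W` resp. `Y`
  have cW : ∀ {x : H}, (∀ a ∈ W, x * a = a * x) → ∀ k ∈ F.W, π x * k = k * π x := by
    intro x h k hk
    obtain ⟨a, ha, rfl⟩ := secW hk
    rw [← map_mul, h a ha, map_mul]
  have cY : ∀ {x : H}, (∀ a ∈ Y, x * a = a * x) → ∀ k ∈ F.Y3, π x * k = k * π x := by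
    intro x h k hk
    obtain ⟨a, ha, rfl⟩ := secY hk
    rw [← map_mul, h a ha, map_mul]
  -- normalizers
  have hnorm : ∀ {A : Subgroup K} {A' : Subgroup H} (hm : ∀ {x : H}, x ∈ A' ↔ x ∈ S ∧ π x ∈ A),
      F.S ≤ normalizer (A : Set K) → S ≤ normalizer (A' : Set H) := by
    intro A A' hm hA s hs
    refine mem_normalizer_iff.mpr ?_
    intro x
    have h1 := mem_normalizer_iff.mp (hA (mapS hs)) (π x)
    have e1 : π (s * x * s⁻¹) = π s * π x * (π s)⁻¹ := by rw [map_mul, map_mul, map_inv]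
    constructor
    · intro hx
      have hx' := hm.1 hx
      refine hm.2 ⟨mulS (mulS hs hx'.1) (S.inv_mem hs), ?_⟩
      rw [e1]
      exact h1.1 hx'.2
    · intro hx
      have hx' := hm.1 hx
      refine hm.2 ⟨?_, h1.2 (by rw [← e1]; exact hx'.2)⟩
      have := mulS (mulS (S.inv_mem hs) hx'.1) hs
      have e2 : s⁻¹ * (s * x * s⁻¹) * s = x := by group
      rwa [e2] at this
  -- elements of order four
  have four : ∀ {u : H}, (u * u) * (u * u) = 1 → IsPGroup 2 (zpowers u) := by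
    intro u hu
    refine two_zpowers (n := 2) ?_
    have e : u ^ 2 ^ 2 = (u * u) * (u * u) := by
      rw [show (2 : ℕ) ^ 2 = 4 from rfl]
      simp only [pow_succ, pow_zero, one_mul, mul_assoc]
    rw [e, hu]
  -- closures
  have hlift : ∀ {A : Subgroup H} {B : Subgroup H} {C : Subgroup K} (_ : IsPGroup 2 A)
      (_ : IsPGroup 2 B) (_ : B.map π = C) (h : K) (_ : ∀ k, k ∈ A.map π ↔ h⁻¹ * k * h ∈ C),
      ∃ g : H, ∀ x, x ∈ A ↔ g⁻¹ * x * g ∈ B := by
    intro A B C hA hB hBC h hh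
    obtain ⟨h₁, rfl⟩ := hsurj h
    have hA' : IsPGroup 2 (A.map (MulAut.conj h₁⁻¹).toMonoidHom) := hA.map _
    have e1 : (A.map (MulAut.conj h₁⁻¹).toMonoidHom).map π = B.map π := by
      rw [hBC]
      ext k
      constructor
      · rintro ⟨_, ⟨a, ha, rfl⟩, rfl⟩
        have h2 := (hh (π a)).1 ⟨a, ha, rfl⟩
        show π (h₁⁻¹ * a * h₁⁻¹⁻¹) ∈ C
        rw [inv_inv, map_mul, map_mul, map_inv]
        exact h2
      · intro hk
        have h2 := (hh (π h₁ * k * (π h₁)⁻¹)).2 (by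
          have e : (π h₁)⁻¹ * (π h₁ * k * (π h₁)⁻¹) * π h₁ = k := by group
          rw [e]; exact hk)
        obtain ⟨a, ha, hak⟩ := h2
        refine ⟨_, ⟨a, ha, rfl⟩, ?_⟩
        show π (h₁⁻¹ * a * h₁⁻¹⁻¹) = k
        rw [inv_inv, map_mul, map_mul, map_inv, hak]
        group
    obtain ⟨n, hn, hn2⟩ := exists_conj_ker hodd hA' hB e1
    refine ⟨h₁ * n⁻¹, ?_⟩
    intro x
    have h3 := hn2 (h₁⁻¹ * x * h₁)
    have e2 : (h₁ * n⁻¹)⁻¹ * x * (h₁ * n⁻¹) = n * (h₁⁻¹ * x * h₁) * n⁻¹ := by group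
    rw [e2, ← h3]
    constructor
    · intro hx
      refine ⟨x, hx, ?_⟩
      show h₁⁻¹ * x * h₁⁻¹⁻¹ = _
      rw [inv_inv]
    · rintro ⟨a, ha, hax⟩
      have hax' : h₁⁻¹ * a * h₁⁻¹⁻¹ = h₁⁻¹ * x * h₁ := hax
      rw [inv_inv] at hax'
      have : a = x := mul_left_cancel (mul_right_cancel hax')
      rw [← this]
      exact ha
  have commY : ∀ a ∈ Y, ∀ b ∈ Y, a * b = b * a := by
    intro a ha b hb
    have ha' := mY.1 ha
    have hb' := mY.1 hb
    refine inj (mulS ha'.1 hb'.1) (mulS hb'.1 ha'.1) ?_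
    rw [map_mul, map_mul]
    exact F.comm_Y3 _ ha'.2 _ hb'.2
  have hWY : W ≤ Y := fun x hx => mY.2 ⟨(mW.1 hx).1, (F.mem_Y3 _).2 (Or.inl (mW.1 hx).2)⟩
  have two_cl2 : ∀ {a b : H}, a * a = 1 → b * b = 1 → a * b = b * a →
      IsPGroup 2 (closure ({a, b} : Set H)) := by
    intro a b ha hb hab
    have h1 : IsPGroup 2 (zpowers a ⊔ zpowers b : Subgroup H) :=
      two_sup (two_zpowers (n := 1) (by rw [pow_one, pow_two]; exact ha))
        (two_zpowers (n := 1) (by rw [pow_one, pow_two]; exact hb)) (by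
          intro x hx b' hb'
          exact comm_zpowers (comm_zpowers hab.symm x hx).symm b' hb')
    refine h1.to_le ?_
    rw [closure_le]
    rintro x (rfl | hx)
    · exact mem_sup_left (mem_zpowers _)
    · rw [Set.mem_singleton_iff] at hx
      subst hx
      exact mem_sup_right (mem_zpowers _)
  have two_cl3 : ∀ {a b c : H}, a * a = 1 → b * b = 1 → c * c = 1 → a * b = b * a →
      a * c = c * a → b * c = c * b → IsPGroup 2 (closure ({a, b, c} : Set H)) := by
    intro a b c ha hb hc hab hac hbc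
    have h1 : IsPGroup 2 (closure ({a, b} : Set H) ⊔ zpowers c : Subgroup H) := by
      refine two_sup (two_cl2 ha hb hab) (two_zpowers (n := 1) (by rw [pow_one, pow_two]; exact hc)) ?_
      intro x hx c' hc'
      refine comm_zpowers ?_ c' hc'
      have h2 : closure ({a, b} : Set H) ≤ centralizer ({c} : Set H) := by
        rw [closure_le]
        rintro x (rfl | hx)
        · exact mem_centralizer_singleton_iff.mpr hac
        · rw [Set.mem_singleton_iff] at hx
          subst hx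
          exact mem_centralizer_singleton_iff.mpr hbc
      exact mem_centralizer_singleton_iff.mp (h2 hx)
    refine h1.to_le ?_
    rw [closure_le]
    rintro x (rfl | rfl | hx)
    · exact mem_sup_left (subset_closure (by simp))
    · exact mem_sup_left (subset_closure (by simp))
    · rw [Set.mem_singleton_iff] at hx
      subst hx
      exact mem_sup_right (mem_zpowers _)
  -- distinct commuting involutions have distinct images
  have ne2 : ∀ {a b : H}, a * a = 1 → b * b = 1 → a * b = b * a → a ≠ b → π a ≠ π b := by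
    intro a b ha hb hab hne h
    exact hne (injOn hodd (two_cl2 ha hb hab) (subset_closure (by simp)) (subset_closure (by simp)) h)
  have commπ : ∀ {a b : H}, a * b = b * a → π a * π b = π b * π a := by
    intro a b h
    rw [← map_mul, h, map_mul]
  refine ⟨{ t := tH, y := y, v := v, w := w, z := z, e0 := e, W := W, Y3 := Y, K3 := N, S := S
            t_mul := htt
            t_ne := ?_
            y_conj := ?_
            ty_conj := ?_
            t_y := ?_
            t_S := htS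
            y_S := hyS
            v_nd := ?_
            w_nd := ?_
            z_nd := ?_
            v_w := ?_
            v_z := ?_
            w_z := ?_
            v_ne_w := ?_
            mem_W := ?_
            mem_Y3 := ?_
            z_notin := ?_
            nd_Y3 := ?_
            comm_Y3 := commY
            two_S := hS
            syl := ?_
            W_S := hWS
            Y3_S := hYS
            K3_S := hNS
            Y3_K3 := ?_
            S_W := hnorm mW F.S_W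
            S_Y3 := hnorm mY F.S_Y3
            S_K3 := hnorm mN F.S_K3
            F0 := ?_
            Fc := ?_
            F1 := ?_
            F2 := ?_
            Fa := ?_
            Fd := ?_
            Gb := ?_
            Gc := ?_
            H1 := ?_
            comm_K3 := ?_
            free_K3 := ?_
            sq_K3 := ?_
            ker_K3 := ?_
            inv_K3 := ?_
            four_K3 := ?_
            P3_cases := ?_
            e0_S := heS
            e0_Y3 := ?_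
            e0_K3 := ?_
            e0_mul := ?_
            free_E := ?_
            H6 := ?_ }, rfl⟩
  · -- t_ne
    rintro rfl
    exact F.t_ne (by rw [← ht, map_one])
  · -- y_conj
    refine cj1 (sq1 hyS ?_) (by rw [hy]; exact F.y_conj)
    rw [hy]; exact sqc F.y_conj
  · -- ty_conj
    have e1 : π (tH * y) = F.t * F.y := by rw [map_mul, ht, hy]
    refine cj1 (sq1 (mulS htS hyS) ?_) (by rw [e1]; exact F.ty_conj)
    rw [e1]; exact sqc F.ty_conj
  · -- t_y
    refine inj (mulS htS hyS) (mulS hyS htS) ?_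
    rw [map_mul, map_mul, ht, hy, F.t_y]
  · -- v_nd
    exact nd1 (sq1 hvS (by rw [hv]; exact F.v_nd.1)) (by rw [hv]; exact F.v_nd)
  · exact nd1 (sq1 hwS (by rw [hw]; exact F.w_nd.1)) (by rw [hw]; exact F.w_nd)
  · exact nd1 (sq1 hzS (by rw [hz]; exact F.z_nd.1)) (by rw [hz]; exact F.z_nd)
  · refine inj (mulS hvS hwS) (mulS hwS hvS) ?_
    rw [map_mul, map_mul, hv, hw, F.v_w]
  · refine inj (mulS hvS hzS) (mulS hzS hvS) ?_
    rw [map_mul, map_mul, hv, hz, F.v_z]
  · refine inj (mulS hwS hzS) (mulS hzS hwS) ?_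
    rw [map_mul, map_mul, hw, hz, F.w_z]
  · intro h
    exact F.v_ne_w (by rw [← hv, ← hw, h])
  · -- mem_W
    intro x
    rw [mW]
    constructor
    · rintro ⟨hx, hxW⟩
      rcases (F.mem_W _).1 hxW with h | h | h | h
      · left; exact inj hx S.one_mem (by rw [h, map_one])
      · right; left; exact inj hx hvS (by rw [h, hv])
      · right; right; left; exact inj hx hwS (by rw [h, hw])
      · right; right; right; exact inj hx (mulS hvS hwS) (by rw [h, map_mul, hv, hw])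
    · intro h
      rcases h with rfl | rfl | rfl | rfl
      · exact ⟨S.one_mem, by rw [map_one]; exact F.W.one_mem⟩
      · exact ⟨hvS, (F.mem_W _).2 (Or.inr (Or.inl hv))⟩
      · exact ⟨hwS, (F.mem_W _).2 (Or.inr (Or.inr (Or.inl hw)))⟩
      · exact ⟨mulS hvS hwS, (F.mem_W _).2 (Or.inr (Or.inr (Or.inr (by rw [map_mul, hv, hw]))))⟩
  · -- mem_Y3
    intro x
    rw [mY, mW, mW, F.mem_Y3, map_mul, hz]
    constructor
    · rintro ⟨hx, h | h⟩
      · exact Or.inl ⟨hx, h⟩
      · exact Or.inr ⟨mulS hzS hx, h⟩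
    · rintro (⟨hx, h⟩ | ⟨hx, h⟩)
      · exact ⟨hx, Or.inl h⟩
      · refine ⟨?_, Or.inr h⟩
        have := mulS (S.inv_mem hzS) hx
        rwa [inv_mul_cancel_left] at this
  · -- z_notin
    intro h
    exact F.z_notin (by rw [← hz]; exact (mW.1 h).2)
  · -- nd_Y3
    intro x hx hx1
    have hx' := mY.1 hx
    have h1 : π x ≠ 1 := fun h => hx1 (inj hx'.1 S.one_mem (by rw [h, map_one]))
    have h2 := F.nd_Y3 _ hx'.2 h1
    exact nd1 (sq1 hx'.1 h2.1) h2
  · -- syl
    intro R hR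
    obtain ⟨c, hc⟩ := F.syl (R.map π) (hR.map π)
    obtain ⟨c₁, rfl⟩ := hsurj c
    have hR' : IsPGroup 2 (R.map (MulAut.conj c₁⁻¹).toMonoidHom) := hR.map _
    obtain ⟨Q, hRQ, -, hQ, hQm⟩ := GH.Cov.Lift.exists_lift (H := ⊤) F.two_S
      (by rw [← MonoidHom.range_eq_map, MonoidHom.range_eq_top.mpr hsurj]; exact le_top) hR' le_top
      (by
        rintro _ ⟨r, hr, rfl⟩
        show π (c₁⁻¹ * r * c₁⁻¹⁻¹) ∈ F.S
        rw [inv_inv, map_mul, map_mul, map_inv]
        exact hc _ ⟨r, hr, rfl⟩)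
    obtain ⟨n, hn, hn2⟩ := exists_conj_ker hodd hQ hS (by rw [hQm, hSm])
    refine ⟨c₁ * n⁻¹, ?_⟩
    intro r hr
    have h1 : c₁⁻¹ * r * c₁ ∈ Q := by
      apply hRQ
      refine ⟨r, hr, ?_⟩
      show c₁⁻¹ * r * c₁⁻¹⁻¹ = _
      rw [inv_inv]
    have h2 := (hn2 _).1 h1
    have e2 : (c₁ * n⁻¹)⁻¹ * r * (c₁ * n⁻¹) = n * (c₁⁻¹ * r * c₁) * n⁻¹ := by group
    rwa [e2]
  · -- Y3_K3
    intro x hx
    exact mN.2 ⟨(mY.1 hx).1, F.Y3_K3 (mY.1 hx).2⟩
  · -- F0
    intro b hb
    obtain ⟨h, hh⟩ := F.F0 _ (nd2 hb)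
    have h1 : IsConj (π b) (π v) := isConj_iff.2 ⟨h⁻¹, by rw [inv_inv, hh, hv]⟩
    obtain ⟨c, hc⟩ := isConj_iff.1 (conj_of hsurj hodd hb.1
      (sq1 hvS (by rw [hv]; exact F.v_nd.1)) h1)
    exact ⟨c⁻¹, by rw [inv_inv, hc]⟩
  · -- Fc
    intro a b ha hb hab hne
    have h1 := F.Fc _ _ (nd2 ha) (nd2 hb) (commπ hab) (ne2 ha.1 hb.1 hab hne)
    rw [← map_mul] at h1
    refine nd1 ?_ h1
    calc a * b * (a * b) = a * (b * a) * b := by group
      _ = a * (a * b) * b := by rw [hab]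
      _ = (a * a) * (b * b) := by group
      _ = 1 := by rw [ha.1, hb.1, one_mul]
  · -- F1
    intro a b ha hb hab hne
    obtain ⟨h, hh⟩ := F.F1 _ _ (nd2 ha) (nd2 hb) (commπ hab) (ne2 ha.1 hb.1 hab hne)
    refine hlift (two_cl2 ha.1 hb.1 hab) hWp mapW h ?_
    intro k
    rw [MonoidHom.map_closure, Set.image_pair]
    exact hh k
  · -- F2
    intro a b c ha hb hc hab hac hbc hne hca hcb hcab
    have hab2 : (a * b) * (a * b) = 1 := by
      calc a * b * (a * b) = a * (b * a) * b := by group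
        _ = a * (a * b) * b := by rw [hab]
        _ = (a * a) * (b * b) := by group
        _ = 1 := by rw [ha.1, hb.1, one_mul]
    have hcc : c * (a * b) = a * b * c := by
      calc c * (a * b) = (c * a) * b := by group
        _ = a * (c * b) := by rw [← hac]; group
        _ = a * b * c := by rw [← hbc]; group
    obtain ⟨h, hh⟩ := F.F2 _ _ _ (nd2 ha) (nd2 hb) (nd2 hc) (commπ hab) (commπ hac) (commπ hbc)
      (ne2 ha.1 hb.1 hab hne) (ne2 hc.1 ha.1 hac.symm hca) (ne2 hc.1 hb.1 hbc.symm hcb)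
      (by rw [← map_mul]; exact ne2 hc.1 hab2 hcc hcab)
    refine hlift (two_cl3 ha.1 hb.1 hc.1 hab hac hbc) hYp mapY h ?_
    intro k
    rw [MonoidHom.map_closure, Set.image_insert_eq, Set.image_pair]
    exact hh k
  · -- Fa
    intro x hx
    have hx' := mY.1 hx
    refine inj (mulS htS hx'.1) (mulS hx'.1 htS) ?_
    rw [map_mul, map_mul, ht]
    exact F.Fa _ hx'.2
  · -- Fd
    intro u hu4 hu2
    have hup := four hu4
    have h1 : (π u * π u) * (π u * π u) = 1 := by rw [← map_mul, ← map_mul, hu4, map_one]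
    have h2 : π u * π u ≠ 1 := by
      intro h
      apply hu2
      refine injOn hodd hup ((zpowers u).mul_mem (mem_zpowers _) (mem_zpowers _)) (one_mem _) ?_
      rw [map_mul, h, map_one]
    obtain ⟨n1, ⟨a, ha, hau⟩, b, hb, hbu2, hbu⟩ := F.Fd _ h1 h2
    refine ⟨nd1 hu4 (by rw [map_mul]; exact n1), ?_, ?_⟩
    · obtain ⟨a', ha', haa, hac⟩ := exists_inv_lift hsurj hodd hup (sqc ha) (by
        rintro _ ⟨k, rfl⟩
        show a * π (u ^ k) = π (u ^ k) * a
        rw [map_zpow]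
        exact comm_zpowers hau _ ⟨k, rfl⟩)
      exact ⟨a', cj1 haa (by rw [ha']; exact ha), hac u (mem_zpowers _)⟩
    · obtain ⟨b', hb', hbb, hbc⟩ := exists_inv_lift hsurj hodd hup hb.1 (by
        rintro _ ⟨k, rfl⟩
        show b * π (u ^ k) = π (u ^ k) * b
        rw [map_zpow]
        exact comm_zpowers hbu _ ⟨k, rfl⟩)
      refine ⟨b', nd1 hbb (by rw [hb']; exact hb), ?_, hbc u (mem_zpowers _)⟩
      rintro rfl
      exact hbu2 (by rw [← hb', map_mul])
  · -- Gb
    intro u huW hu2W hu2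
    have hA : IsPGroup 2 (W ⊔ zpowers u : Subgroup H) := by
      have hu4 : (u * u) * (u * u) = 1 := by
        have h1 := F.nd_Y3 _ (mY.1 (hWY hu2W)).2 (fun h => hu2 (inj (hWS hu2W) S.one_mem
          (by rw [h, map_one])))
        exact sq1 (hWS hu2W) h1.1
      refine two_sup hWp (four hu4) ?_
      intro a ha b hb
      exact (comm_zpowers (huW a ha).symm b hb)
    have h2 : π u * π u ≠ 1 := by
      intro h
      apply hu2
      exact inj (hWS hu2W) S.one_mem (by rw [map_mul, h, map_one])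
    obtain ⟨a, b, ha, haW, hau, hb, hbW, hbW', hbu⟩ := F.Gb (π u) (cW huW)
      (by rw [← map_mul]; exact (mW.1 hu2W).2) h2
    have key : ∀ c : K, c * c = 1 → (∀ x ∈ F.W, c * x = x * c) → c * π u = π u * c →
        ∃ c' : H, π c' = c ∧ c' * c' = 1 ∧ (∀ x ∈ W, c' * x = x * c') ∧ c' * u = u * c' := by
      intro c hcc hcW hcu
      obtain ⟨c', h1, h2, h3⟩ := exists_inv_lift hsurj hodd hA hcc (by
        have h4 : (W ⊔ zpowers u).map π ≤ centralizer ({c} : Set K) := by
          rw [Subgroup.map_sup, sup_le_iff]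
          constructor
          · rintro _ ⟨x, hx, rfl⟩
            exact mem_centralizer_singleton_iff.mpr (hcW _ (mW.1 hx).2).symm
          · rw [MonoidHom.map_zpowers, zpowers_le]
            exact mem_centralizer_singleton_iff.mpr hcu.symm
        intro x hx
        exact (mem_centralizer_singleton_iff.mp (h4 ⟨x, hx, rfl⟩)).symm)
      exact ⟨c', h1, h2, fun x hx => h3 x (mem_sup_left hx), h3 u (mem_sup_right (mem_zpowers _))⟩
    obtain ⟨a', ha', haa, haW', hau'⟩ := key a (sqc ha) haW hau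
    obtain ⟨b', hb', hbb, hbW'', hbu'⟩ := key b hb.1 hbW' hbu
    refine ⟨a', b', cj1 haa (by rw [ha']; exact ha), haW', hau', nd1 hbb (by rw [hb']; exact hb),
      ?_, hbW'', hbu'⟩
    intro h
    exact hbW (by rw [← hb']; exact (mW.1 h).2)
  · -- Gc
    intro u u' x huW hu'W hxW huu' hu2W hu2 hu2W' hu2' hne hxx hxnW hxu hxu'
    have sqW : ∀ {a : H}, a * a ∈ W → a * a ≠ 1 → (a * a) * (a * a) = 1 := by
      intro a haW ha
      have h1 := F.nd_Y3 _ (mY.1 (hWY haW)).2 (fun h => ha (inj (hWS haW) S.one_mem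
          (by rw [h, map_one])))
      exact sq1 (hWS haW) h1.1
    have hB : IsPGroup 2 (zpowers u ⊔ zpowers u' : Subgroup H) := by
      refine two_sup (four (sqW hu2W hu2)) (four (sqW hu2W' hu2')) ?_
      intro a ha b hb
      exact comm_zpowers (comm_zpowers huu'.symm a ha).symm b hb
    have hA : IsPGroup 2 (W ⊔ (zpowers u ⊔ zpowers u') : Subgroup H) := by
      refine two_sup hWp hB ?_
      intro a ha
      exact comm_sup (comm_zpowers (huW a ha).symm) (comm_zpowers (hu'W a ha).symm)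
    have ne1 : ∀ {a : H}, a * a ∈ W → a * a ≠ 1 → π a * π a ≠ 1 := by
      intro a haW ha h
      apply ha
      exact inj (hWS haW) S.one_mem (by rw [map_mul, h, map_one])
    have hxn : π x ∉ F.W := by
      intro h
      apply hxnW
      obtain ⟨a, ha, hax⟩ := secW h
      have h1 : IsPGroup 2 (W ⊔ zpowers x : Subgroup H) := by
        refine two_sup hWp (two_zpowers (n := 1) (by rw [pow_one, pow_two]; exact hxx)) ?_
        intro a ha b hb
        exact (comm_zpowers (hxW a ha).symm b hb)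
      have h2 : a = x := injOn hodd h1 (mem_sup_left ha) (mem_sup_right (mem_zpowers x)) hax
      rw [← h2]
      exact ha
    obtain ⟨a, b, ha, haW, hau, hau', hb, hbW, hbW', hbu, hbu'⟩ := F.Gc (π u) (π u') (π x) (cW huW)
      (cW hu'W) (cW hxW) (commπ huu') (by rw [← map_mul]; exact (mW.1 hu2W).2) (ne1 hu2W hu2)
      (by rw [← map_mul]; exact (mW.1 hu2W').2) (ne1 hu2W' hu2')
      (by
        intro h
        apply hne
        exact inj (hWS hu2W) (hWS hu2W') (by rw [map_mul, map_mul, h]))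
      (by rw [← map_mul, hxx, map_one]) hxn (commπ hxu)
      (by rw [← map_mul, ← map_mul, hxu', map_inv])
    have key : ∀ c : K, c * c = 1 → (∀ x ∈ F.W, c * x = x * c) → c * π u = π u * c →
        c * π u' = π u' * c →
        ∃ c' : H, π c' = c ∧ c' * c' = 1 ∧ (∀ x ∈ W, c' * x = x * c') ∧ c' * u = u * c' ∧
          c' * u' = u' * c' := by
      intro c hcc hcW hcu hcu'
      obtain ⟨c', h1, h2, h3⟩ := exists_inv_lift hsurj hodd hA hcc (by
        have h4 : (W ⊔ (zpowers u ⊔ zpowers u')).map π ≤ centralizer ({c} : Set K) := by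
          rw [Subgroup.map_sup, Subgroup.map_sup, sup_le_iff, sup_le_iff]
          refine ⟨?_, ?_, ?_⟩
          · rintro _ ⟨x, hx, rfl⟩
            exact mem_centralizer_singleton_iff.mpr (hcW _ (mW.1 hx).2).symm
          · rw [MonoidHom.map_zpowers, zpowers_le]
            exact mem_centralizer_singleton_iff.mpr hcu.symm
          · rw [MonoidHom.map_zpowers, zpowers_le]
            exact mem_centralizer_singleton_iff.mpr hcu'.symm
        intro x hx
        exact (mem_centralizer_singleton_iff.mp (h4 ⟨x, hx, rfl⟩)).symm)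
      exact ⟨c', h1, h2, fun x hx => h3 x (mem_sup_left hx),
        h3 u (mem_sup_right (mem_sup_left (mem_zpowers _))),
        h3 u' (mem_sup_right (mem_sup_right (mem_zpowers _)))⟩
    obtain ⟨a', ha', haa, haW', hau1, hau2⟩ := key a (sqc ha) haW hau hau'
    obtain ⟨b', hb', hbb, hbW'', hbu1, hbu2⟩ := key b hb.1 hbW' hbu hbu'
    refine ⟨a', b', cj1 haa (by rw [ha']; exact ha), haW', hau1, hau2,
      nd1 hbb (by rw [hb']; exact hb), ?_, hbW'', hbu1, hbu2⟩
    intro h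
    exact hbW (by rw [← hb']; exact (mW.1 h).2)
  · -- H1
    intro p hp hpY
    refine mY.2 ⟨mulS hp hp, ?_⟩
    rw [map_mul]
    exact F.H1 _ (mapS hp) (cY hpY)
  · -- comm_K3
    intro a ha b hb
    have ha' := mN.1 ha
    have hb' := mN.1 hb
    refine inj (mulS ha'.1 hb'.1) (mulS hb'.1 ha'.1) ?_
    rw [map_mul, map_mul]
    exact F.comm_K3 _ ha'.2 _ hb'.2
  · -- free_K3
    intro k hk h
    exact F.free_K3 _ (mN.1 hk).2 (cj2 h)
  · -- sq_K3
    intro k hk
    refine mY.2 ⟨mulS (mN.1 hk).1 (mN.1 hk).1, ?_⟩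
    rw [map_mul]
    exact F.sq_K3 _ (mN.1 hk).2
  · -- ker_K3
    intro k hk hkk
    exact mY.2 ⟨(mN.1 hk).1, F.ker_K3 _ (mN.1 hk).2 (by rw [← map_mul, hkk, map_one])⟩
  · -- inv_K3
    intro k hk
    have hk' := mN.1 hk
    refine inj (mulS (mulS htS hk'.1) htS) (S.inv_mem hk'.1) ?_
    rw [map_mul, map_mul, map_inv, ht]
    exact F.inv_K3 _ hk'.2
  · -- four_K3
    obtain ⟨k, hk, hkk⟩ := F.four_K3
    obtain ⟨k', hk', rfl⟩ := secN hk
    refine ⟨k', hk', ?_⟩
    intro h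
    exact hkk (by rw [← map_mul, h, map_one])
  · -- P3_cases
    intro p hp hpY
    rcases F.P3_cases _ (mapS hp) (cY hpY) with h | h | h
    · exact Or.inl (mN.2 ⟨hp, h⟩)
    · exact Or.inr (Or.inl (cj1 (sq1 hp (sqc h)) h))
    · refine Or.inr (Or.inr (mY.2 ⟨mulS (S.inv_mem heS) hp, ?_⟩))
      rw [map_mul, map_inv, he]
      exact h
  · -- e0_Y3
    intro x hx
    have hx' := mY.1 hx
    refine inj (mulS heS hx'.1) (mulS hx'.1 heS) ?_
    rw [map_mul, map_mul, he]
    exact F.e0_Y3 _ hx'.2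
  · -- e0_K3
    intro h
    exact F.e0_K3 (by rw [← he]; exact (mN.1 h).2)
  · -- e0_mul
    exact sq1 heS (by rw [he]; exact F.e0_mul)
  · -- free_E
    intro x hx h
    refine F.free_E _ (mY.1 hx).2 ?_
    have := cj2 h
    rwa [map_mul, he] at this
  · -- H6
    obtain ⟨d, hdS, hdY, hd1, hd2, hd3⟩ := F.H6
    obtain ⟨d', hd', rfl⟩ := sec hdS
    refine ⟨d', hd', ?_, ?_, ?_, ?_⟩
    · intro x hx
      have hx' := mY.1 hx
      refine inj (mulS hd' hx'.1) (mulS hx'.1 hd') ?_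
      rw [map_mul, map_mul]
      exact hdY _ hx'.2
    · intro h
      exact hd1 (mY.1 h).2
    · intro h
      apply hd2
      have := (mY.1 h).2
      rwa [map_mul, map_inv, he] at this
    · intro h
      apply hd3
      have := congrArg π h
      simpa only [map_mul, map_inv, he, ht] using this

end

end Cfsg.Agent.CoThreeStd.FactsLift
end

-- part: CoThreeStd/SylData
section
/-!
# A Sylow 2-subgroup of `G3`: tables

Ten elements `X0, ..., X9` of `G3` (words in the letters `m`), the products `Φ i` (`i < 1024`, bit `k` of `i` tells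
whether `Xk` occurs), and the tables of the left multiplications by `Xk`.  Everything is checked in the kernel.
-/

set_option autoImplicit false
set_option maxRecDepth 20000

namespace Cfsg.Agent.CoThreeStd.SylData

open Cfsg.Agent.SporadicStructure.PermChain Cfsg.Agent.LeechPack.X552 Cfsg.Agent.CoThreeStd.Gens
  Cfsg.Agent.CoThreeStd.Model

/-! ### The engine -/

/-- Entry number `x` (ten bits) of the table `t`. -/
noncomputable def lk (t x : ℕ) : ℕ := Nat.land (Nat.shiftRight t (Nat.mul 10 x)) 1023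

theorem lk_eq (t x : ℕ) : lk t x = look 10 t x := by
  have h : (1023 : ℕ) = 2 ^ 10 - 1 := by norm_num
  change (t >>> (10 * x)) &&& 1023 = (t >>> (10 * x)) % 2 ^ 10
  rw [h, Nat.and_two_pow_sub_one_eq_mod]

theorem lk_lt (t x : ℕ) : lk t x < 1024 := by
  rw [lk_eq]
  exact Nat.mod_lt _ (by norm_num)

/-- Apply the table `t` if bit `k` of `i` is set. -/
noncomputable def sb (i k t x : ℕ) : ℕ :=
  Nat.rec (motive := fun _ => ℕ) x (fun _ _ => lk t x) (Nat.land (Nat.shiftRight i k) 1)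

/-- Apply the tables selected by the bits of `i`. -/
noncomputable def app10 (t0 t1 t2 t3 t4 t5 t6 t7 t8 t9 i x : ℕ) : ℕ :=
  sb i 0 t0 (sb i 1 t1 (sb i 2 t2 (sb i 3 t3 (sb i 4 t4 (sb i 5 t5 (sb i 6 t6 (sb i 7 t7
    (sb i 8 t8 (sb i 9 t9 x)))))))))

/-- `p` holds below `n`. -/
noncomputable def allB (p : ℕ → Bool) (n : ℕ) : Bool :=
  Nat.rec (motive := fun _ => Bool) true (fun k ih => Bool.rec (motive := fun _ => Bool) false ih (p k)) n

theorem allB_spec {p : ℕ → Bool} : ∀ {n : ℕ}, allB p n = true → ∀ x, x < n → p x = true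
  | 0, _, x, hx => absurd hx (Nat.not_lt_zero x)
  | n + 1, h, x, hx => by
    have h1 : (Bool.rec (motive := fun _ => Bool) false (allB p n) (p n) : Bool) = true := h
    cases hp : p n with
    | false => rw [hp] at h1; exact absurd (show false = true from h1) Bool.false_ne_true
    | true =>
      rw [hp] at h1
      rcases Nat.lt_succ_iff_lt_or_eq.1 hx with h2 | h2
      · exact allB_spec h1 x h2
      · rw [h2]; exact hp

/-- `fr x k = k x`, with `x` evaluated first. -/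
noncomputable def fr {α : Type} (x : ℕ) (k : ℕ → α) : α :=
  Nat.rec (motive := fun _ => α) (k 0) (fun n _ => k (Nat.succ n)) x

theorem fr_eq {α : Type} (x : ℕ) (k : ℕ → α) : fr x k = k x := by
  cases x <;> rfl

/-- Bit `i` of the mask. -/
noncomputable def tb (mask i : ℕ) : Bool := Nat.beq (Nat.land (Nat.shiftRight mask i) 1) 1

/-! ### Letters and words -/

/-- The letters. -/
noncomputable def mm : ℕ → G3
  | 0 => m 0
  | 1 => m 1
  | 2 => m 2
  | 3 => m 3
  | 4 => m 4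
  | 5 => m 5
  | 6 => m 6
  | _ + 7 => m 7

/-- The tables of the letters. -/
noncomputable def gt (k : ℕ) : ℕ :=
  Nat.rec (motive := fun _ => ℕ) tab_t (fun k _ => Nat.rec (motive := fun _ => ℕ) tab_x (fun k _ =>
  Nat.rec (motive := fun _ => ℕ) tab_s1 (fun k _ => Nat.rec (motive := fun _ => ℕ) tab_s2 (fun k _ =>
  Nat.rec (motive := fun _ => ℕ) tab_s3 (fun k _ => Nat.rec (motive := fun _ => ℕ) tab_s4 (fun k _ =>
  Nat.rec (motive := fun _ => ℕ) tab_e (fun _ _ => tab_d) k) k) k) k) k) k) k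

theorem ψ_m_val (k : Fin 8) (x : Fin 552) : (ψ (m k) x : ℕ) = lk (tabs.getD k 0) x := by
  rw [ψ_m, σ_spec, lk_eq]

theorem ψ_mm (k : ℕ) (x : Fin 552) : (ψ (mm k) x : ℕ) = lk (gt k) x := by
  match k with
  | 0 => exact ψ_m_val 0 x
  | 1 => exact ψ_m_val 1 x
  | 2 => exact ψ_m_val 2 x
  | 3 => exact ψ_m_val 3 x
  | 4 => exact ψ_m_val 4 x
  | 5 => exact ψ_m_val 5 x
  | 6 => exact ψ_m_val 6 x
  | _ + 7 => exact ψ_m_val 7 x

/-- The element given by a word. -/
noncomputable def wd (w : List ℕ) : G3 := (w.map mm).prod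

/-- The image of the point `x` under the word `w`. -/
noncomputable def evW (w : List ℕ) (x : ℕ) : ℕ :=
  List.rec (motive := fun _ => ℕ) x (fun k _ ih => lk (gt k) ih) w

theorem ψ_wd (w : List ℕ) (x : Fin 552) : (ψ (wd w) x : ℕ) = evW w x := by
  induction w with
  | nil => simp [wd, evW]
  | cons k w ih =>
    have h1 : wd (k :: w) = mm k * wd w := by rw [wd, List.map_cons, List.prod_cons]; rfl
    rw [h1, map_mul, Equiv.Perm.mul_apply, ψ_mm, ih]
    rfl

/-! ### The elements `Xk` -/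

/-- The word of `X0`. -/
def w0 : List ℕ := [4]
/-- The table of `X0` on the 552 vectors. -/
def xt0 : ℕ := 0x7b9e6419a80ca1f585c0889a44d0a1724e9529666edad6b1964bc5d0b98f715a93d9cb69c9574cd77957f089d25250e404fc55ded7789e72100058e766474010ea314ac2c9116de277f9e9785c47b1817062681cad30dbc7ad0238dfd4357c57dc63386a4e8933d0c2826042f48a38107168788301586dfb3a1da83dea3dc9979e204796813de285d3b1b9587bd53641480c5803498416caf85a155f9a683a2482daa52e1e661975cd1d4e14215c8b535247dda368a1434c515c81d329b58406527ce1270eb0ac9a2800b50db04152d7a1b2819ab365dc0d4435bc792c1410d8d1685932d9375e5674a51f57856461be5ba1814c444a0348852a76d6b258cb4e4cd139b87fcb31d8926d8d63541f360aa66cdb6961980db41609b430486159e5d82f1800d0cc9d6e9d756d9f5c1234561d1492e0686484d326091c09d605b5630b42611d9a4d8a4008595b1bf6812c3884a09569450374d517440f27c1132fa02775453ec871a0bb73a2560cf1235e0805fa310ba31e0042ca53d41470e0d3e5d502912410b7220cc1406d629f4869c77e0b1224a277d1b631cf1cc24038825308c5f54f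8215254471655b15d0281bdd9568ee571912f04c3f4067ccff78dd403cb91a50f744c9420fe300ae3c17125086559f1399776b8b8791f212d4e1f0211d43f3e9221dce487187635fc4f18b51988708171c95d828b57595404c852103040cda671d0394ef428b42408f024dc1f41c00c19204a9048115e1cc28d5529df637c973503833db93b010115d82fd0901c40639300f4181353f0b00c8481b6bdcd481476756a08c1e59533650ed6f559184c82ad1a0a9444943c1ad645e820004662983b18c460f82900070459755ed624f6236cc8e5021149c5f624490e8d04ad26464de156052a0425405464880171311f862261f9728f82447b1e86c304dd4f85e618f320c0519cc6021f51fd2110439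
/-- The word of `X1`. -/
def w1 : List ℕ := [3,4,5,4,6,4,3,5]
/-- The table of `X1` on the 552 vectors. -/
def xt1 : ℕ := 0x3b4902056c61889150401443a7e05e53d332d1b50611831d201361210603040ea49c7e358f3210d47ac59648f984177119d03bd7f7f4df181080e61d345f66e5637ccda6d8380dc2e024b381cb6161e801c1611d0a564cb09842680a46886b21814764c644c08550c10186d1ee000f82140d5072dca02cb80b06f5609c28ca62b17e394c86f44b38c557d4616ddf18610b6cdb2589a55959d414564d5aa06da84c8026c0af079dd131df330056b9302c4ab28998004fc6359464e05644e148d8e6557518d6b3b1883722323864124eb195797f9c045c8d198f8600838088c6303b0395e0f4e617d673ba246296a5a5685b8536bd217d1b113c121a572574452211978dc555c30555d507d2c071cc86d1a0d5402814a50c2b4d8974a86c524682dd4c4fd3e064a5278002e828455476ac1d869a74c59c2b4234b552245454a528835254985a63c7a592140b51e10c7346d4e56a165f5164dc5075cf0444aa044cd3650c6d1e4425fa04cc36b498735014081a3fcfe38996354fa8117a22cf62000d8287c381127fd6d89d8960a0e3a4e836d706fcde6ecfd640f17f0e437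58739df24340c16e0b3ee08148d27dcd0188444399f788ca2d5be855d81d83341878750b92fcbe2f49d00d39301c8505ea326197b09b66c25690a74bdc16691019c292b9c24f1de70d990114b27d3b2f1c42c89226504518960889424c9a4ae2623d855f1763dc798895b121db12a095e077894f51fe0c1f4f274522228c2208c51d4744700f0d87071832749447706a57d422a57b6058462ccf6e1fb5be1c1745c35d24819e909dac6ea21598d387d145844e84da16f08560c8779601570ce475e0846200fdcf5c4205d21e7e5f07bc71534343106e0c556029ee47dc75202a2a13815de12c0174b8957383c54da34d1516a5004f617091e6055da41d6043e0f1c9733d0d87242f7b5d679dd3678a12eda665d3a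
/-- The word of `X2`. -/
def w2 : List ℕ := [1]
/-- The table of `X2` on the 552 vectors. -/
def xt2 : ℕ := 0x10439239207d4093e00720c052aca3178ec2d0ed1506217ce5319f66bcef1e8805e0231f9401b175499947341b564251096c51d271853d1ec3a731924861288d8955535541161c0010b48111c3d1f58e10000098a44d86b4943c5a44d45cf32fc493790a304a837c970405c29dbf3407f815f9155b3030123882a04463370a619867740c8680450793e6708f0e090595337296a58986845310602c3683e070590643b4c00833cd4375bd26091425b92a5030086f1c4893e606629f85b853221e85457d569937d15253db02e80b10d5e194561448c6300a449053f60d2d8b1820ee038eb2c0b731d9128a004b5b277c4c328506d50442db1050b81a582300db5598b80c841615b7cd3221588635f161d461f0cb19086138527fd4e1810f3f81339a0a431ba7f0b50340f2cc173c1e37c84b6d1546b9a5018925acff420ae390fb7fa077848d30cad7de243f08a13cc43a113438e3775f02b10d4697b0dc4a511194513f58dd86752b00c305e96466846080294b1435e51f4a0bc656212087934c737703511137841748621a5c82b1b51b0754185129461c736428755d9685c3571ab384a00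d89a27da23d434331cf68c24270d153167295be5be131d91c48c7275d5d76c481d4fa09d85259605c1774f2194e41f5d9710692a489158749b66dd6745c2325e48716d1dcd835433250cd2a8d60fd9f750b90bc9d0852e679b66e2254917e1b91e6598f1a94a54d5887cf77b20e73a0b7a54d7ee0f3d816284c52f45d3d0c265def6608b3a6097888757c57701c16054b712167f5458561b1d1d20b8226a1571a18072e17641485fd6647549779684d110768be7ad026f0f160e0189de7265aa7a9e0699fa899b7444d73c8d227804055062545b7b5ac3a9c6400e02ede5808ce8305a24d012c9bb39da9810af69dad4e0780c561509c8715d34e9734edc96117c889a48812f8783241d997b9e6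
/-- The word of `X3`. -/
def w3 : List ℕ := [0]
/-- The table of `X3` on the 552 vectors. -/
def xt3 : ℕ := 0x89a276a5de669d3679e7826176c1dc789ff6f9b68790072213851ca7e5b47b50643da6665c387dd4405b8671ec42dc4795e4869c56a1046b1ad845a569db340de37a1ab6d5ef7c1e683e044090e749f3881ee806007d21b781e16ba2444e1c685073fdbf689a367e08889e971d0a6e9c66e5af6aa126f215745ce7fa02829b1701c176219425c9691cf73606446187c6107d90c70a1d731df7e9fb7c9cb895fd7de0c7e1bb759d776d9d756216820544a2382c934e92f4e48f25130258b2521552e9462c09d4d929530ab545342eca531545560ac538a12a52b4a9442713725d2e57cb556941580b9268a42f13f4c54a301535413d564a65096f5ccc9328d834d7158d7f3a4f5638cc598e46156532d7d3c98739d683ed8f3b18c60178355615c0dc5a8d0590eb38197654f45d989369843bcd15a592659743e8de5e9796204e044200f0320ad1f0644d4886a15c241d5170f41a468702304a7759b6dd0d835ea441b280dd06f50576a0e421fc7d5eb81e167649f2b8ad5252d2cc91254be5593828d4d278b14cc92241474f0c355cbd52cb7319522bca726d3b2612c2fd40281352a95c3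08a250cc156c994c93e2a0c42d95453d5d578b42e0e5604ce3a8d735167374f63a16b60d8d5b8c7398cd5c8c83e5903c18b38cfd3f17e618d95eccf389626096c3ccd65f0db3f8f1629773856d348df5d5913dd93660ee3e0ed6501c0111508887018522284c140511b02f06c300a802170350b02d1205b0286546c3105c3603d160845a160831791e0384f198671d81d09429164560486b0547d1e06e1846d474600f80507c88210851a1284808602d1400c79118470303309c260e4070d0554652508c18104370e0721f03f111241d080208161e87b48c7f1880d10c4218d1c0ec8b1bd2614c081908e205184843a1cc2e174130505f49c091c4690a04512c770401e100891508d1247e00001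
/-- The word of `X4`. -/
def w4 : List ℕ := [6,3,6,3,2,4,3,6,3,6,7,3,2,5,4,6,4,3,5,7,7,1,6,3,6,3,2,4,3,6,3,6]
/-- The table of `X4` on the 552 vectors. -/
def xt4 : ℕ := 0x39dc930da8641ff82e1548c1a4d0db799d3865536edcb7c9967f4742a91f791f43d9ad77d0d3a40c7961002c52524ca405ed164fc7781e5f9a6365ee2bc5d4406d605b2074cd271e26fde9784963bcc5431a50988f418537ad022692f2548b64dfc2ee0f215093d02f626043c07d110f15707847415541e74480d1a8b91c8997ed80651be68e275a4d6361635c5660c9b80c62034984385994b9c072100356145859d07e1e5e9973ea0c0ed6d5d17c7444a6784f3b6243ee00218b2439305fc650185b6dd8a184e312c22161b03fcb47ccac13945059871ec62230fe7c060235fa2d55f0e16a5c2026b98f5acda461680f5b66f0e04883f621356095e711cd80d118194887dd01d8928613b8394b1b82e2e0a18994a4e4a450c9b70480895f7580c2505da1f93c4f5d756d9f5e6224fe1d74a166911484da076d1c759765095855a0711df1481b428957565fe4c9541f12430217191774aa23010fd2c1c30416740dab34cf50a4ce341851cd070d9e0080d133ce52c45142c4c21c1444c8304455028e8014a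e220cc140ea3ada9134e6594c70c00269c66630e460cee374016196f7e5b9370193b00f655b115c0837c214582416863324a53c89f7a10551c6b1c5ea2fd0f534bc26079094b72f5ef321720b59a71c374a59b715ac28211389d95ec345cd281ddcf815dc511c62747073221708a83dd195d5a109d2c00d3a76089774562acb32e9ec06d2d240ad02608228c604d5249c5f19cf92394628d5501df61bdf5304b63114f544be000841a49329c2c639b55b9bd86915100d78490a6bccb4d9e36a93708c9e7e133479a20616c0ac94671923e18d4943c75121662012091b58938644460f8681158b56a0a1d4a66e917729780e54e204a9824494adce0e926574de7561c05c4286d3e468481e9310cc434217d6cc2a244351706c3500e15041530f3835040481c0a0971fd6417940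
/-- The word of `X5`. -/
def w5 : List ℕ := [1,7,3,4,5,4,6,4,3,5,7,7]
/-- The table of `X5` on the 552 vectors. -/
def xt5 : ℕ := 0x6693087dff899ed85d414e59e84546751de8661d6b492581366d1f67361474d482e9a36ee086a5e2795a86bd44740b0406106fcb36e13d4aa1e6c1b567e127c4a455535694963283247d7f495711398e5c02f099893951711c3c5a5631ada24b53b73e1a871a669dc34bc9f29d474a4938619c4b1b34516f1582a070cd46962454a9565be77cb24b8ff7e48f2e5b940de47293f299b62ad095e82c368e4044590641a0e5992694c251bd2612b4c49019d650a5c6286228260676e277bdc9419e843ddc7114a84dba75dcc5e1663d1821d8e26157632d3a706216b1ec7a99b501a45cd72095e772111759e32fd0c6809d1c0d864904761c20ce1557d5e7c1535590e89204524c37cdfc4d1cb56223538a31f18c6416b1f452481871815155d38881dd6c9524c93c4742249cbb2b2007c8aa319546b950488622193e7e8ae0f9d289607785e656e0f7de036588a471da2f61b62e0c828c03c14b3713759c1d06c9c0316a1350b6749109030060cc1044608002155e95e42d3a5a17150535c7934d615f43509d7b5b1008150a3acf535475128073bcd0359c72810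7755aa2f09726dab610d9010cf170f30ac34590de08c03464d135037324c8049f41944f48c9553db76288746d68110514585f102022d4b420ce72303d0ec7b018663b55c2c4a2515b129533304af16c501b4143746312d180fd21178380004c0841e01586185fe309c065cf63f18f1a99336d8d239ee8360e73a1650d4d7ecad4797c1c5813a05d10d241b96e6602e4a0f95d4481a4ce5f9123150d56a0b7f5d12e1131d0fb22c0f650fe38180620f8190802040b034583b0fa215bc310be7ade04414227a017e0b7265d92d9022a1087d55d644823c8d260c36054881c877024fd3a86f5d06805d265dc5738c781fc421147e07c6c2116d37c5404c5a0c4733c4c76547a0280e1245338416224ee398100e8010a0083dc8d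
/-- The word of `X6`. -/
def w6 : List ℕ := [7,4,7,5,4,6,4,5,7]
/-- The table of `X6` on the 552 vectors. -/
def xt6 : ℕ := 0x44e27891e3648fe621e77fce46e60582a093adb66ea0c431853b1f67e57f3edfd8958338df5635f181d8f619e4801ea805ec396033a9df601aa5f61b6ba127e1de7a1ab6d5ef7c1e67a5fe7ae023f1f33990d7950b835a5785e069da98998764e0b7e9953b4ee662083a60f3f610879f76c18c6b5b339ce87edfc8110e789b1700f03bcc9754f7358f83ccf5444d47510a729c8708cb731043fdd13c90843d067190040ce03d1d73e8df424d0345dc448dc41d5421458210882185e574b222955319465694a134542ad4c20c5a310b4314ae2ccac5388b230551808e2d866540572d55f2c0071d4c0020812fc120649d2e40f25c7f044a60356a60a19645846518b5b1b488a06639bd59a1784d65876117ca1c6f16b7b5b8851af6b1896596d5c2235be215a5be6ed976fdd65d978368d8761a05919a354cf76d7a378e26792256526494641645c4c5361395b4b8625811718c330e4702a44a7757e6ddee7d1c4440c7714f9331d93c4f672dce70d02404ce41489515492b44c56152234c321c4f53d4d2bcb1144682406c1a4be018b8010b72e8912787b1e0131bc3a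2f06b02c350580a30814040c11a899084051ccbb2709328c96038a52f61a606166a1908616e62a0e8556869a1f59db28817732172740d770571665c77499b670d95ed745e5625cd63735a436d7c74dda374cd385613499d5d4ca725a167da373da234d2052d1512d5655d1e5212d1413351d2449c614851847d351592848c5b5706517c5d4745354d164c9344bd514c052579384dc671d845464230ac2c4fd401d07a26c770c00905d2a0613e07c8f4e53a2482d07094280011f88011c462081a47042469410d12b0943c0a43e104370e0721f03f1242f05479030aa1f4a71213d091420ec260f42710ca1260200d89a0c944290020a92c2a02e0c53b2891b06c6d1c53c0781d0886e50c281009f4a4951100300114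
/-- The word of `X7`. -/
def w7 : List ℕ := [2,5,4,6,4,5]
/-- The table of `X7` on the 552 vectors. -/
def xt7 : ℕ := 0x5955051e144c05977df2481318758669589866185a51d6ca24779f68455923c6d20d2e26903134410991f531334e463081bf4d8514bd3e5159d7e5e24a61270d517ce20469161c053650ef7ad19221e86ac1f499d8615f8785e0886135d4ab2181e261e42402915439184522b92748405735464c9b352d0c3f454210257d5c25f8ac801be5e8e7460196e5220e1b645d6372a156c5b06319e6818079cd13b1966217486c1a188ed131ad0f9ae7e9873c1925b418141a842ded4b59a59d141398e071af5c58a869a76721c78d8433d72605ac5b1c15f44b19dbd158e533515775a63218262cda5a8ca6657f5ad6f85d686456689ce46d16238d3f2d15e2e55c524b0840a448c7d5552c54d3d7d22653d4e2de057254a56d28895cc7ecc630caf4d46b581fc5493c1f88580c3b231ff50534811cb87a237f60c64d54424607dd48741e54941d55db873e1f818fc8589217df17a9bb6d5f05d99025cb10dc721b03d0d9c8654114ac21020581bcd0829021085737c3071d1e34c9406c2a01009170233cce60a19b7b024689a93acd50acc76f0f25e1645842c16c023fccc3745e0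8970364d8004333a8d43ecd26a90460c175dcde32d6e325733a1443147350c00304962fc102e0bc2a08e574bd5349c2955f2044a4495a509d11a9c0770aa198bb1eca62d55828c4402c8b2000d274b61e20b265d944cc0234fa0e91c1fdd783cba255372802d1e5e91e9db4e9c58340c2cc9f2453b5584029c872249b1dc760485d311101c5ef4146e8390f500ad1a4275eca919432809a374d2a46cdc1d0f53845a8890640179755c67b9d27f99710d8f825a15f0b20500611c460bca213d018207c0fd9f4383c4e093751b74450d01c3435864054fe1142e228e23a4f8758f11a207710ee3d0db42201799da4918d3e5a46e998338160c44900c75428be03c0e278822840a3d9070d448738f704ce035cc2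
/-- The word of `X8`. -/
def w8 : List ℕ := [3,2,4,3]
/-- The table of `X8` on the 552 vectors. -/
def xt8 : ℕ := 0x595504e5bf4c11f6b62049d2b7358770d63866115e81e8560079212861364bc521449a4b9e204517098592ad5151c3d082145648323d322b99e6d903261f6695337cdf20e4380dc366598578425161e879c7249a133be0a7ad02681d85d54c2191d4a5de5181a0651a4886d515200f821874904f9ca52dc86006f1b11986dc23c0b1891be5a4e7188556c061459f9105896cdb26c5b93b59d884fd6acd06559437d6d7d4294618c131df485fa6b9865f9925d02a16ded6a5a84b59a329140c18e06da23356b6d0ff8719c7b0d858582605c75e19b35022456170b17f5c467775995cd725dd705bd67698e56296a6f4dd5b8d989ccc8696260d6057d5e2593430c9c7fd441f5235553d2a92c8122628cc1535dc724bf50c8080dd774558524bb5046b4fdcb5513c470788944419a104d55c7d1fc4262383e0b64d528787b7649f87de511c2f559d367dd0888f67693b46dd4711a3821b75ed9025cac1c01f2106314d0c3b04d4c40515c88150d17e1e0108086204e6b00935494070180111e0ac3332cf205dc178c026bd0b3acd3170e86f0e65b0de33c561402469ce45a05e12cda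59984004233ed7d3a8d2411aa38c2862d643cd91324c831ca43140d56c00538b95286a2f49d50881300b82dcb02d4b42384a700b62a1fb0411281553230af180a6294c653c3b22c0b4a0732f15a2160c265f744d5d234fa1fc7e0e9cc7f4b3254a9284790b506121db26d0f7f8322e94824c9255c7c4a8062293a1b8761d474279e60b91171877749c5500be1a4035d9371940c439bb6e0a717cdc174e965c0a819e941ce26e9054360e834e1124fe429a136cb213c874943c07538051016d4400fdcf80846288917c5f07bdee0d4343d0820c58f49071225793d598690ce04e077a8e03597c73a0144216114f9635d6754f83c40f0544309c12824ad0580e310642805a3f10001c7a420f71a0ee35cc2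
/-- The word of `X9`. -/
def w9 : List ℕ := [2,4]
/-- The table of `X9` on the 552 vectors. -/
def xt9 : ℕ := 0x7751378e0d17889150e6394913cd867d58d1a4d43e18331c831b2125f4b32b4ea890c4279f8319b581c8a5310b7b202805fe2ea002f9a72b90853a0a411f686da97ccf2751f07bd0d3f2037adea525e82dd10795c589503785e07190f89cab218e36a88424068551f1018fb5157f391ae32d463fdca010b8601df791c4695c23c0b11440e6608d0515253c876dcc1820f96cce86c4a3631ce414fd535d97d0f67f0ce70c1313ced1306f33005085875f86b3c5bd140094cd1e4b540644d75598e869af62d6b0713e6721c51c7785972605c77419b8444b454180b1205dc6759417321825c44017d6e0a1276291b0a8dd59c715d52106d62078122d0eb5745a2215a2050a3f98f555d503dba3b0976e5f96ae053dcbf7a4f5615cc7444d1600801d921d588064c9358853bcee1988e0d40a654df1fcdc0407364c550e87b3405c5b126494450c07a591780b59433c235a83946449105165ec01898ac445e67790e7b8bd8115824dfa2bcc36b5f778902404bb72d576b1ed748946d21752da852092875f2665c14e5386895157a0e27db22562087dcf7685616ca24c83e5a1300887c0b86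e6413b1b618148d226129475a63359f734ca4f173856093160c418b26d8c0529fd4309d401ff2e5c879cb62955f840c2700b041dfb83d127701623057180a62d4116c0e002c8b3a60b2f09c1e00d264d15409639cfa424f4879d71a9366f0a9282068895b6e1db4e9d8850645642b4c433138da4a9221649b610764fc744b81f59870680d8356136688f865d65d9371948218c43120a75be23175283855c1e5432a0e24b2210d8d36fd9768c7d511a15f0004606111c46490021884245d700fcde0f43c0912b468380dc534d4341f80c0c523074d947d792016909d6d0a4260943b470db674201c9610bd8958c034f57a5d0aa055bb691602912f54dbe268322853465942505d3679c9068444504a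
theorem xt0_chk : allB (fun x => Nat.beq (evW w0 x) (lk xt0 x)) 552 = true := by decide +kernel
theorem xt1_chk : allB (fun x => Nat.beq (evW w1 x) (lk xt1 x)) 552 = true := by decide +kernel
theorem xt2_chk : allB (fun x => Nat.beq (evW w2 x) (lk xt2 x)) 552 = true := by decide +kernel
theorem xt3_chk : allB (fun x => Nat.beq (evW w3 x) (lk xt3 x)) 552 = true := by decide +kernel
theorem xt4_chk : allB (fun x => Nat.beq (evW w4 x) (lk xt4 x)) 552 = true := by decide +kernel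
theorem xt5_chk : allB (fun x => Nat.beq (evW w5 x) (lk xt5 x)) 552 = true := by decide +kernel
theorem xt6_chk : allB (fun x => Nat.beq (evW w6 x) (lk xt6 x)) 552 = true := by decide +kernel
theorem xt7_chk : allB (fun x => Nat.beq (evW w7 x) (lk xt7 x)) 552 = true := by decide +kernel
theorem xt8_chk : allB (fun x => Nat.beq (evW w8 x) (lk xt8 x)) 552 = true := by decide +kernel
theorem xt9_chk : allB (fun x => Nat.beq (evW w9 x) (lk xt9 x)) 552 = true := by decide +kernel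

theorem of_chk {w : List ℕ} {t : ℕ} (h : allB (fun x => Nat.beq (evW w x) (lk t x)) 552 = true) (x : Fin 552) :
    (ψ (wd w) x : ℕ) = lk t x := by
  rw [ψ_wd]
  exact Nat.eq_of_beq_eq_true (allB_spec h x x.2)

/-- `g` or `1`, according to bit `k` of `i`. -/
noncomputable def pw (i k : ℕ) (g : G3) : G3 :=
  Nat.rec (motive := fun _ => G3) 1 (fun _ _ => g) (Nat.land (Nat.shiftRight i k) 1)

theorem ψ_pw_mul {t : ℕ} {g : G3} (h : ∀ x : Fin 552, (ψ g x : ℕ) = lk t x) (i k : ℕ) (r : G3) (x : Fin 552) :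
    (ψ (pw i k g * r) x : ℕ) = sb i k t (ψ r x) := by
  rw [map_mul, Equiv.Perm.mul_apply]
  unfold pw sb
  cases Nat.land (Nat.shiftRight i k) 1 with
  | zero => simp
  | succ n => exact h _

/-- The product `X0 ^ i0 * X1 ^ i1 * ... * X9 ^ i9`. -/
noncomputable def Φ (i : ℕ) : G3 :=
  pw i 0 (wd w0) * (pw i 1 (wd w1) * (pw i 2 (wd w2) * (pw i 3 (wd w3) * (pw i 4 (wd w4) * (pw i 5 (wd w5) *
    (pw i 6 (wd w6) * (pw i 7 (wd w7) * (pw i 8 (wd w8) * (pw i 9 (wd w9) * 1)))))))))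

/-- The image of the vector `x` under `Φ i`. -/
noncomputable def appX (i x : ℕ) : ℕ := app10 xt0 xt1 xt2 xt3 xt4 xt5 xt6 xt7 xt8 xt9 i x

theorem ψ_Φ (i : ℕ) (x : Fin 552) : (ψ (Φ i) x : ℕ) = appX i x := by
  unfold Φ appX app10
  rw [ψ_pw_mul (of_chk xt0_chk), ψ_pw_mul (of_chk xt1_chk), ψ_pw_mul (of_chk xt2_chk), ψ_pw_mul (of_chk xt3_chk),
    ψ_pw_mul (of_chk xt4_chk), ψ_pw_mul (of_chk xt5_chk), ψ_pw_mul (of_chk xt6_chk), ψ_pw_mul (of_chk xt7_chk),
    ψ_pw_mul (of_chk xt8_chk), ψ_pw_mul (of_chk xt9_chk)]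
  simp

/-! ### The images of the six base points -/

/-- The images of the vector 120. -/
def BT0 : ℕ := 0x11f51b9b91913022d9c23503169cd0759208a055002f3cc0a40c8d7717c3708228c777d404870a12c9f154db679a2621490641b559a187ba27140ed25c723040f0e40075d3a5d4363507110401689972560a028f31146b5f1dc3ddc31dca30305e2861c88c326e46e70cf76708b669247345a828958142235e081c4d4435dd65da2309d403cc1441134e9d75d43635071104016899725c723040f0e40075d3a7261b3614f208dc281876f1e2570cb0bd4036d4c6481d87534789bc2ac4b4c0646c18486dc96180b309d403cc1441134e9d735e081c4d4435dd65da25401f6d9534684a24085594538616645d143b45039df84d21d4919a12cab52da5611b00ca2302d861780c53cd86954b61ca01ac4532d5c7e0e7530db641b559a187ba27140ed2c9f154db679a2621490594538616645d143b4505401f6d9534684a2408552da5611b00ca2302d8639df84d21d4919a12cab669247345a828958142288c326e46e70cf76708b00039059f907d501e1cc004410ba1114d6516daf899e67e416750c27307889dee8442e820d76bc5b6f1e2570cb0bd4036d4c7261b3614f208dc281873708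228c777d404870a15002f3cc0a40c8d7717c451173657d0d9753858c1291a2a94e1c89726d4689dee8442e820d76bc5b899e67e416750c2730783ddc31dca30305e2861c2560a028f31146b5f1dc1ac4532d5c7e0e7530db1780c53cd86954b61ca01291a2a94e1c89726d46451173657d0d9753858c44d10538aa7c4b25189b7750d5f4d96d590630e123503169cd0759208a05011f51b9b91913022d9c4c0646c18486dc96180b6481d87534789bc2ac4b004410ba1114d6516daf00039059f907d501e1cc7750d5f4d96d590630e144d10538aa7c4b25189b7261b3614f208dc281876f1e2570cb0bd4036d4c6481d87534789bc2ac4b4c0646c18486dc96180b309d403cc1441134e9d735e081c4d4435dd65da25401f6d9534684a24085594538616645d143b45039df84d21d4919a12cab52da5611b00ca2302d861780c53cd86954b61ca01ac4532d5c7e0e7530db641b559a187ba27140ed2c9f154db679a2621490594538616645d143b4505401f6d9534684a24085011f51b9b91913022d9c23503169cd0759208a055002f3cc0a40c8d7717c3708228c777d404870a12c9f154db679a2621490641b559a187ba27140ed25c723040f0e40075d3a5d4363507110401689972560a028f31146b5f1dc3ddc31dca30305e2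861c88c326e46e70cf76708b669247345a828958142235e081c4d4435dd65da2309d403cc1441134e9d75d43635071104016899725c723040f0e40075d3a3ddc31dca30305e2861c2560a028f31146b5f1dc1ac4532d5c7e0e7530db1780c53cd86954b61ca01291a2a94e1c89726d46451173657d0d9753858c44d10538aa7c4b25189b7750d5f4d96d590630e123503169cd0759208a05011f51b9b91913022d9c4c0646c18486dc96180b6481d87534789bc2ac4b004410ba1114d6516daf00039059f907d501e1cc7750d5f4d96d590630e144d10538aa7c4b25189b52da5611b00ca2302d8639df84d21d4919a12cab669247345a828958142288c326e46e70cf76708b00039059f907d501e1cc004410ba1114d6516daf899e67e416750c27307889dee8442e820d76bc5b6f1e2570cb0bd4036d4c7261b3614f208dc281873708228c777d404870a15002f3cc0a40c8d7717c451173657d0d9753858c1291a2a94e1c89726d4689dee8442e820d76bc5b899e67e416750c273078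
/-- The images of the vector 462. -/
def BT1 : ℕ := 0x548d669e0b72e0c0647e390a27dd996a9a64840226988269884712c359525b5295b529090de288e41bccf060625a5186b616084a80e8294c41a7e9004edba08c55831cb831cb381cf0ec3e699aa699aa85dbb77ce36b6165a518879a46b8af7e9004c41a5862107854188186ee175099e020050a43a6921e4c92e154230647e72e0c345740f83b484026a9a66ee171881860d05859ad6921e0a43a2ed08401fa754f44f80d7f09e6e93b67d3834028410f173ce01ccdf279fc1f8190cd3d05c983c5040092111164885616f44f5e8436811d67942424684ac27674573d1d52495482da74b9324e19f3b8cc665f75d0d1661a31501e77ce385dbb24dd6014086b8af879a4475a038ddf461694616915d9d2bdae06931069316209a55092154234c92e4a56d330ee0f83b3457413dbd13dbd38ddf475a01a1091a1092bdae15d9d154234c92e6209a550920f83b345744a56d330ee310ff310ff359524712c339d9339d9288e4090de77ce385dbb661a31501e6b8af879a424dd60140808c554edba0353e0353e0ec3e381cf0a0d00a0d0060621bccf1501e661a30e829084a80140824dd6859ad60d05050f810d7a401fa2ed0804c9109d2b69e0b548d65509262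09a7dd99390a2330ee4a56d10d7a050f8078545862109d2b04c91020055099e4f4333fcc437c734b11c59044764ce260173782482da74b9323d1d524954665f75d0d14e19f3b8cc415830a8493e014719da420bb1fc0324413739071f8190cd3d1ccdf279fc009211116405c983c5045a5186b6161bccf060624c41a7e900084a80e82938ddf475a013dbd13dbd2bdae15d9d1a1091a10972e0c0647e548d669e0b6a9a648402390a27dd994616946169475a038ddf069310693115d9d2bdae6e93b7f09e3fcc44f43373ce0410f1764ce590440353e0353e08c554edba0a0d00a0d00ec3e381cf6811d5e8430a84941583674574ac271fc03420bb359524712c310ff310ff288e4090de339d9339d93e014719da415830a8492441373907420bb1fc03078545862110d7a050f8020055099e09d2b04c9137c734b11c4f4333fcc4260173782459044764ce050f810d7a859ad60d0504c9109d2b401fa2ed08550926209a69e0b548d6330ee4a56d7dd99390a24b93282da70cd3d1f8195d0d1665f711164009211501e661a3060621bccf0140824dd60e829084a8249543d1d5279fc1ccdf3b8cc4e19f3c50405c986f44f88561719da3e0144246867942739072441333c6f769c61242a1242a2a02141dce00c7f00c7f4f80d754f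44b11c37c733402867d38378242601768d9868d98769c633c6f758937589341dce2a0214b11c37c734f80d754f437824260173402867d38831cb831cb4edba08c55699aa699aa381cf0ec3e719da3e0146f44f88561739072441342468679424712c359522698826988090de288e45b5295b5295e8436811d885616f44f4ac2767457679424246860d05859ad6ee17188182ed08401fa6921e0a43a7f09e6e93b754f44f80d410f173ce067d3834028188186ee1758621078540a43a6921e5099e020050647e72e0c4c92e15423484026a9a6345740f83b279fc1ccdf249543d1d53c50405c983b8cc4e19f6b6165a51885dbb77ce37e9004c41a879a46b8af0cd3d1f8194b93282da711164009215d0d1665f70a849415836811d5e8431fc03420bb674574ac27769c633c6f68d9868d9841dce2a02175893758933fcc44f4336e93b7f09e764ce5904473ce0410f11242a1242a33c6f769c600c7f00c7f2a02141dce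
/-- The images of the vector 5. -/
def BT2 : ℕ := 0x754f44f80d7f09e6e93b67d3834028410f173ce01ccdf279fc1f8190cd3d05c983c5040092111164885616f44f5e8436811d67942424684ac27674573d1d52495482da74b9324e19f3b8cc665f75d0d1661a31501e77ce385dbb24dd6014086b8af879a4475a038ddf461694616915d9d2bdae06931069316209a55092154234c92e4a56d330ee0f83b3457413dbd13dbd38ddf475a01a1091a1092bdae15d9d548d669e0b72e0c0647e390a27dd996a9a64840226988269884712c359525b5295b529090de288e41bccf060625a5186b616084a80e8294c41a7e9004edba08c55831cb831cb381cf0ec3e699aa699aa85dbb77ce36b6165a518879a46b8af7e9004c41a5862107854188186ee175099e020050a43a6921e4c92e154230647e72e0c345740f83b484026a9a66ee171881860d05859ad6921e0a43a2ed08401fa4f4333fcc437c734b11c59044764ce260173782482da74b9323d1d524954665f75d0d14e19f3b8cc415830a8493e014719da420bb1fc0324413739071f8190cd3d1ccdf279fc009211116405c983c5045a5186b6161bccf060624c41a7e900084a80e82938ddf475a013dbd13dbd2bdae15d9d1a1091a10972e0c0647e548d669e0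b6a9a648402390a27dd994616946169475a038ddf069310693115d9d2bdae154234c92e6209a550920f83b345744a56d330ee310ff310ff359524712c339d9339d9288e4090de77ce385dbb661a31501e6b8af879a424dd60140808c554edba0353e0353e0ec3e381cf0a0d00a0d0060621bccf1501e661a30e829084a80140824dd6859ad60d05050f810d7a401fa2ed0804c9109d2b69e0b548d6550926209a7dd99390a2330ee4a56d10d7a050f8078545862109d2b04c91020055099e550926209a69e0b548d6330ee4a56d7dd99390a24b93282da70cd3d1f8195d0d1665f711164009211501e661a3060621bccf0140824dd60e829084a8249543d1d5279fc1ccdf3b8cc4e19f3c50405c986f44f88561719da3e0144246867942739072441333c6f769c61242a1242a2a02141dce00c7f00c7f4f80d754f44b11c37c733402867d38378242601768d9868d98769c633c6f758937589341dce2a0216e93b7f09e3fcc44f43373ce0410f1764ce590440353e0353e08c554edba0a0d00a0d00ec3e381cf6811d5e8430a84941583674574ac271fc03420bb359524712c310ff310ff288e4090de339d9339d93e014719da415830a8492441373907420bb1fc03078545862110d7a050f8020055099e09d2b04c9137c734b11c4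f4333fcc4260173782459044764ce050f810d7a859ad60d0504c9109d2b401fa2ed080647e72e0c4c92e15423484026a9a6345740f83b279fc1ccdf249543d1d53c50405c983b8cc4e19f6b6165a51885dbb77ce37e9004c41a879a46b8af0cd3d1f8194b93282da711164009215d0d1665f70a849415836811d5e8431fc03420bb674574ac27769c633c6f68d9868d9841dce2a02175893758933fcc44f4336e93b7f09e764ce5904473ce0410f11242a1242a33c6f769c600c7f00c7f2a02141dce4b11c37c734f80d754f437824260173402867d38831cb831cb4edba08c55699aa699aa381cf0ec3e719da3e0146f44f88561739072441342468679424712c359522698826988090de288e45b5295b5295e8436811d885616f44f4ac2767457679424246860d05859ad6ee17188182ed08401fa6921e0a43a7f09e6e93b754f44f80d410f173ce067d3834028188186ee1758621078540a43a6921e5099e02005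
/-- The images of the vector 183. -/
def BT3 : ℕ := 0x71ce871ce83891b3891b744bd744bd29c7529c755ec3566d4d448f22a47c2a47c448f266d4d5ec3529c7529c75744bd744bd3891b3891b71ce871ce8448f22a47c5ec3566d4d66d4d5ec352a47c448f27edc82b8b81ec124a9606b2153f4c70b05f5e56f230da2b1f25f9ab45535455355f9ab2b1f2230da5e56f0b05f3f4c76b2154a9601ec122b8b87edc85f9ab45535230da2b1f22b1f2230da455355f9ab3f4c76b2155e56f0b05f2b8b87edc84a9601ec1219c07705e770220198401984070220705e719c071ec124a9607edc82b8b80b05f5e56f6b2153f4c72c4e64dd705d9413c0b73c0b75d9414dd702c4e65150c5150c1813f1813f601b2601b21596a1596a4dd702c4e63c0b75d9415d9413c0b72c4e64dd701596a1596a601b2601b21813f1813f5150c5150c705e719c071984070220702201984019c07705e771ce871ce83891b3891b744bd744bd29c7529c755ec3566d4d448f22a47c2a47c448f266d4d5ec3529c7529c75744bd744bd3891b3891b71ce871ce8448f22a47c5ec3566d4d66d4d5ec352a47c448f27edc82b8b81ec124a9606b2153f4c70b05f5e56f230da2b1f25f9ab45535455355f9ab2b1f2230da5e56f0b05f3f4c76b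2154a9601ec122b8b87edc85f9ab45535230da2b1f22b1f2230da455355f9ab3f4c76b2155e56f0b05f2b8b87edc84a9601ec1219c07705e770220198401984070220705e719c071ec124a9607edc82b8b80b05f5e56f6b2153f4c72c4e64dd705d9413c0b73c0b75d9414dd702c4e65150c5150c1813f1813f601b2601b21596a1596a4dd702c4e63c0b75d9415d9413c0b72c4e64dd701596a1596a601b2601b21813f1813f5150c5150c705e719c071984070220702201984019c07705e7601b2601b21596a1596a5150c5150c1813f1813f455355f9ab2b1f2230da230da2b1f25f9ab455351813f1813f5150c5150c1596a1596a601b2601b22b1f2230da455355f9ab5f9ab45535230da2b1f22b8b87edc84a9601ec123f4c76b2155e56f0b05f2a47c448f266d4d5ec355ec3566d4d448f22a47c0b05f5e56f6b2153f4c71ec124a9607edc82b8b866d4d5ec352a47c448f2448f22a47c5ec3566d4d6b2153f4c70b05f5e56f7edc82b8b81ec124a9605d9413c0b72c4e64dd704dd702c4e63c0b75d9414a9601ec122b8b87edc85e56f0b05f3f4c76b215702201984019c07705e7705e719c071984070220744bd744bd29c7529c7571ce871ce83891b3891b1984070220705e719c0719c07705e770220198403891b3891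b71ce871ce829c7529c75744bd744bd3c0b75d9414dd702c4e62c4e64dd705d9413c0b7601b2601b21596a1596a5150c5150c1813f1813f455355f9ab2b1f2230da230da2b1f25f9ab455351813f1813f5150c5150c1596a1596a601b2601b22b1f2230da455355f9ab5f9ab45535230da2b1f22b8b87edc84a9601ec123f4c76b2155e56f0b05f2a47c448f266d4d5ec355ec3566d4d448f22a47c0b05f5e56f6b2153f4c71ec124a9607edc82b8b866d4d5ec352a47c448f2448f22a47c5ec3566d4d6b2153f4c70b05f5e56f7edc82b8b81ec124a9605d9413c0b72c4e64dd704dd702c4e63c0b75d9414a9601ec122b8b87edc85e56f0b05f3f4c76b215702201984019c07705e7705e719c071984070220744bd744bd29c7529c7571ce871ce83891b3891b1984070220705e719c0719c07705e770220198403891b3891b71ce871ce829c7529c75744bd744bd3c0b75d9414dd702c4e62c4e64dd705d9413c0b7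
/-- The images of the vector 387. -/
def BT4 : ℕ := 0x15d9d2bdae0693106931475a038ddf461694616924dd6014086b8af879a4661a31501e77ce385dbb069310693115d9d2bdae4616946169475a038ddf6a9a648402390a27dd9972e0c0647e548d669e0b05c983c50400921111641ccdf279fc1f8190cd3d67d3834028410f173ce0754f44f80d7f09e6e93b009211116405c983c5041f8190cd3d1ccdf279fc420bb1fc032441373907415830a8493e014719da5099e020050a43a6921e5862107854188186ee17879a46b8af7e9004c41a85dbb77ce36b6165a51809d2b04c91020055099e10d7a050f807854586217dd99390a2330ee4a56d69e0b548d6550926209a5b5295b529090de288e426988269884712c35952390a27dd996a9a648402548d669e0b72e0c0647e0ec3e381cf0a0d00a0d008c554edba0353e0353e6b8af879a424dd60140877ce385dbb661a31501e2bdae15d9d1a1091a10938ddf475a013dbd13dbd4c41a7e900084a80e8295a5186b6161bccf060621a1091a1092bdae15d9d13dbd13dbd38ddf475a04a56d330ee0f83b345746209a55092154234c92e665f75d0d14e19f3b8cc82da74b9323d1d52495459044764ce26017378244f4333fcc437c734b11c4e19f3b8cc665f75d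0d13d1d52495482da74b93267942424684ac2767457885616f44f5e8436811d401fa2ed0804c9109d2b859ad60d05050f810d7a0e829084a80140824dd6060621bccf1501e661a36921e0a43a2ed08401fa6ee171881860d05859ad345740f83b484026a9a64c92e154230647e72e0c339d9339d9288e4090de310ff310ff359524712c0f83b345744a56d330ee154234c92e6209a55092381cf0ec3e699aa699aa4edba08c55831cb831cb084a80e8294c41a7e9001bccf060625a5186b6162a02141dce00c7f00c7f33c6f769c61242a1242a424686794273907244136f44f88561719da3e01400c7f00c7f2a02141dce1242a1242a33c6f769c6764ce5904473ce0410f13fcc44f4336e93b7f09e5d0d1665f711164009214b93282da70cd3d1f819330ee4a56d7dd99390a2550926209a69e0b548d611164009215d0d1665f70cd3d1f8194b93282da77e9004c41a879a46b8af6b6165a51885dbb77ce3020055099e09d2b04c91078545862110d7a050f82441373907420bb1fc033e014719da415830a8490a43a6921e5099e02005188186ee175862107854410f173ce067d38340287f09e6e93b754f44f80d0a0d00a0d00ec3e381cf0353e0353e08c554edba73ce0410f1764ce590446e93b7f09e3fcc44f433090de288e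45b5295b5294712c35952269882698873907244134246867942719da3e0146f44f8856141dce2a0217589375893769c633c6f68d9868d981fc03420bb674574ac270a849415836811d5e843758937589341dce2a02168d9868d98769c633c6f3402867d3837824260174f80d754f44b11c37c733c50405c983b8cc4e19f279fc1ccdf249543d1d5484026a9a6345740f83b0647e72e0c4c92e154233b8cc4e19f3c50405c98249543d1d5279fc1ccdf0140824dd60e829084a81501e661a3060621bccf2ed08401fa6921e0a43a60d05859ad6ee17188184ac276745767942424685e8436811d885616f44f04c9109d2b401fa2ed08050f810d7a859ad60d05260173782459044764ce37c734b11c4f4333fcc4699aa699aa381cf0ec3e831cb831cb4edba08c5537824260173402867d384b11c37c734f80d754f4288e4090de339d9339d9359524712c310ff310ff674574ac271fc03420bb6811d5e8430a84941583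
/-- The images of the vector 0. -/
def BT5 : ℕ := 0x3657d4511765da2435dd2a94e1291a4e9d7441133cc0a5002f814228289528c77370826708b70cf7570cb6f1e25f1dc1146b3614f7261b2861c0305e7e416899e675d3a0e4008442e89dee6899710401059f9000392149079a260ba1100441140ed7ba2753cd81780c6180b86dc932d5c1ac452ac4b789bc611b052da522d9c191304d21d39df808a05075925f4d97750d3b45045d14538aa44d10240854684a1c4d435e083858c0d97503cc1309d426d461c8977345a669247717c40c8d6e46e88c32870a17d404028f32560a36d4c0bd401dca33ddc328187208dc3040f25c7273078750c2350715d4366bc5b820d754db62c9f11e1cc07d5059a18641b516daf14d656c1844c06461ca06954b875346481d530db7e0e71b9b9011f502d860ca23169cd2350312cab4919a8616659453630e16d5906d9535401f5189b7c4b21c4d435e083858c0d97503cc1309d426d461c8977345a669247717c40c8d6e46e88c32870a17d404028f32560a36d4c0bd401dca33ddc328187208dc3040f25c7273078750c2350715d4366bc5b820d754db62c9f11e1cc07d5059a18641b516daf14d656c1844c06461ca06954b875346481d530db7e0e71b9b9011f502d860ca2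3169cd2350312cab4919a8616659453630e16d5906d9535401f5189b7c4b23657d4511765da2435dd2a94e1291a4e9d7441133cc0a5002f814228289528c77370826708b70cf7570cb6f1e25f1dc1146b3614f7261b2861c0305e7e416899e675d3a0e4008442e89dee6899710401059f9000392149079a260ba1100441140ed7ba2753cd81780c6180b86dc932d5c1ac452ac4b789bc611b052da522d9c191304d21d39df808a05075925f4d97750d3b45045d14538aa44d10240854684a0ba1100441140ed7ba27059f9000392149079a26875346481d530db7e0e76c1844c06461ca06954b169cd2350312cab4919a1b9b9011f502d860ca23538aa44d10240854684a5f4d97750d3b45045d142a94e1291a4e9d7441133657d4511765da2435dd6e46e88c32870a17d4047345a669247717c40c8d1dca33ddc328187208dc028f32560a36d4c0bd408442e89dee68997104017e416899e675d3a0e40059a18641b516daf14d6554db62c9f11e1cc07d5032d5c1ac452ac4b789bc53cd81780c6180b86dc94d21d39df808a0507592611b052da522d9c191306d9535401f5189b7c4b28616659453630e16d59003cc1309d426d461c8971c4d435e083858c0d97528c77370826708b70cf73cc0a5002f81422828953614f7261b2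861c0305e570cb6f1e25f1dc1146b350715d4366bc5b820d73040f25c7273078750c259a18641b516daf14d6554db62c9f11e1cc07d5032d5c1ac452ac4b789bc53cd81780c6180b86dc94d21d39df808a0507592611b052da522d9c191306d9535401f5189b7c4b28616659453630e16d59003cc1309d426d461c8971c4d435e083858c0d97528c77370826708b70cf73cc0a5002f81422828953614f7261b2861c0305e570cb6f1e25f1dc1146b350715d4366bc5b820d73040f25c7273078750c20ba1100441140ed7ba27059f9000392149079a26875346481d530db7e0e76c1844c06461ca06954b169cd2350312cab4919a1b9b9011f502d860ca23538aa44d10240854684a5f4d97750d3b45045d142a94e1291a4e9d7441133657d4511765da2435dd6e46e88c32870a17d4047345a669247717c40c8d1dca33ddc328187208dc028f32560a36d4c0bd408442e89dee68997104017e416899e675d3a0e400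
theorem BT0_chk : allB (fun i => Nat.beq (appX i 120) (lk BT0 i)) 1024 = true := by decide +kernel
theorem BT1_chk : allB (fun i => Nat.beq (appX i 462) (lk BT1 i)) 1024 = true := by decide +kernel
theorem BT2_chk : allB (fun i => Nat.beq (appX i 5) (lk BT2 i)) 1024 = true := by decide +kernel
theorem BT3_chk : allB (fun i => Nat.beq (appX i 183) (lk BT3 i)) 1024 = true := by decide +kernel
theorem BT4_chk : allB (fun i => Nat.beq (appX i 387) (lk BT4 i)) 1024 = true := by decide +kernel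
theorem BT5_chk : allB (fun i => Nat.beq (appX i 0) (lk BT5 i)) 1024 = true := by decide +kernel

theorem base_val {b : Fin 552} {B : ℕ} (h : allB (fun i => Nat.beq (appX i b) (lk B i)) 1024 = true) {i : ℕ}
    (hi : i < 1024) : (ψ (Φ i) b : ℕ) = lk B i := by
  rw [ψ_Φ]
  exact Nat.eq_of_beq_eq_true (allB_spec h i hi)

theorem eq_Φ {g : G3} {i : ℕ} (hi : i < 1024) (h0 : (ψ g 120 : ℕ) = lk BT0 i) (h1 : (ψ g 462 : ℕ) = lk BT1 i)
    (h2 : (ψ g 5 : ℕ) = lk BT2 i) (h3 : (ψ g 183 : ℕ) = lk BT3 i) (h4 : (ψ g 387 : ℕ) = lk BT4 i)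
    (h5 : (ψ g 0 : ℕ) = lk BT5 i) : g = Φ i := by
  apply BaseSix.eq_of_base
  · exact Fin.ext (h0.trans (base_val (b := 120) BT0_chk hi).symm)
  · exact Fin.ext (h1.trans (base_val (b := 462) BT1_chk hi).symm)
  · exact Fin.ext (h2.trans (base_val (b := 5) BT2_chk hi).symm)
  · exact Fin.ext (h3.trans (base_val (b := 183) BT3_chk hi).symm)
  · exact Fin.ext (h4.trans (base_val (b := 387) BT4_chk hi).symm)
  · exact Fin.ext (h5.trans (base_val (b := 0) BT5_chk hi).symm)

/-! ### Left multiplication -/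

/-- Left multiplication by `X0`. -/
def L0 : ℕ := 0xffbffff3fdfebfbfe3f9fdbf7fd3f5fcbf3fc3f1fbbeffb3edfabebfa3e9f9be7f93e5f8be3f83e1f7bdff73ddf6bdbf63d9f5bd7f53d5f4bd3f43d1f3bcff33cdf2bcbf23c9f1bc7f13c5f0bc3f03c1efbbfef3bdeebbbee3b9edbb7ed3b5ecbb3ec3b1ebbafeb3adeababea3a9e9ba7e93a5e8ba3e83a1e7b9fe739de6b9be6399e5b97e5395e4b93e4391e3b8fe338de2b8be2389e1b87e1385e0b83e0381dfb7fdf37ddeb7bde379ddb77dd375dcb73dc371dbb6fdb36ddab6bda369d9b67d9365d8b63d8361d7b5fd735dd6b5bd6359d5b57d5355d4b53d4351d3b4fd334dd2b4bd2349d1b47d1345d0b43d0341cfb3fcf33dceb3bce339cdb37cd335ccb33cc331cbb2fcb32dcab2bca329c9b27c9325c8b23c8321c7b1fc731dc6b1bc6319c5b17c5315c4b13c4311c3b0fc330dc2b0bc2309c1b07c1305c0b03c0301bfaffbf2fdbeafbbe2f9bdaf7bd2f5bcaf3bc2f1bbaefbb2edbaaebba2e9b9ae7b92e5b8ae3b82e1b7adfb72ddb6adbb62d9b5ad7b52d5b4ad3b42d1b3acfb32cdb2acbb22c9b1ac7b12c5b0ac3b02c1afabfaf2bdaeabbae2b9adab7ad2b5acab3ac2b1abaafab2adaaaabaa2a9a9aa7a92a5a8aa3a82a1a7a9fa729da6a9ba62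99a5a97a5295a4a93a4291a3a8fa328da2a8ba2289a1a87a1285a0a83a02819fa7f9f27d9ea7b9e2799da779d2759ca739c2719ba6f9b26d9aa6b9a26999a679926598a639826197a5f9725d96a5b9625995a579525594a539425193a4f9324d92a4b9224991a479124590a43902418fa3f8f23d8ea3b8e2398da378d2358ca338c2318ba2f8b22d8aa2b8a22989a278922588a238822187a1f8721d86a1b8621985a178521584a138421183a0f8320d82a0b8220981a078120580a03802017f9ff7f1fd7e9fb7e1f97d9f77d1f57c9f37c1f17b9ef7b1ed7a9eb7a1e9799e7791e5789e3781e1779df771dd769db761d9759d7751d5749d3741d1739cf731cd729cb721c9719c7711c5709c3701c16f9bf6f1bd6e9bb6e1b96d9b76d1b56c9b36c1b16b9af6b1ad6a9ab6a1a9699a7691a5689a3681a16799f6719d6699b66199659976519564993641916398f6318d6298b62189619876118560983601815f97f5f17d5e97b5e1795d9775d1755c9735c1715b96f5b16d5a96b5a169599675916558963581615795f5715d5695b56159559575515554953541515394f5314d5294b52149519475114550943501414f93f4f13d4e93b4e1394d9374d1354c9334c1314b92f4b12d4a92b4a129499274912548923481214791f4711d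4691b46119459174511544913441114390f4310d4290b42109419074110540903401013f8ff3f0fd3e8fb3e0f93d8f73d0f53c8f33c0f13b8ef3b0ed3a8eb3a0e9398e7390e5388e3380e1378df370dd368db360d9358d7350d5348d3340d1338cf330cd328cb320c9318c7310c5308c3300c12f8bf2f0bd2e8bb2e0b92d8b72d0b52c8b32c0b12b8af2b0ad2a8ab2a0a9298a7290a5288a3280a12789f2709d2689b26099258972509524893240912388f2308d2288b22089218872108520883200811f87f1f07d1e87b1e0791d8771d0751c8731c0711b86f1b06d1a86b1a069198671906518863180611785f1705d1685b16059158571505514853140511384f1304d1284b12049118471104510843100410f83f0f03d0e83b0e0390d8370d0350c8330c0310b82f0b02d0a82b0a029098270902508823080210781f0701d0681b06019058170501504813040110380f0300d0280b0200901807010050080300001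
/-- Left multiplication by `X1`. -/
def L1 : ℕ := 0x9e7fc1effe1f7f89fffa9c7f41cff61d7f09dff29a7ec1afee1b7e89bfea987e418fe6197e099fe2967dc16fde177d897fda947d414fd6157d095fd2927cc12fce137c893fca907c410fc6117c091fc28e7bc0efbe0f7b88ffba8c7b40cfb60d7b08dfb28a7ac0afae0b7a88bfaa887a408fa6097a089fa28679c06f9e0779887f9a8479404f960579085f928278c02f8e0378883f8a8078400f860178081f82be77c3ef7e3f778bff7abc7743cf763d770bdf72ba76c3af6e3b768bbf6ab876438f6639760b9f62b675c36f5e37758b7f5ab475434f5635750b5f52b274c32f4e33748b3f4ab074430f4631740b1f42ae73c2ef3e2f738aff3aac7342cf362d730adf32aa72c2af2e2b728abf2aa872428f2629720a9f22a671c26f1e27718a7f1aa471424f1625710a5f12a270c22f0e23708a3f0aa070420f0621700a1f02de6fc5eefe5f6f8dfefadc6f45cef65d6f0ddef2da6ec5aeee5b6e8dbeead86e458ee6596e0d9ee2d66dc56ede576d8d7edad46d454ed6556d0d5ed2d26cc52ece536c8d3ecad06c450ec6516c0d1ec2ce6bc4eebe4f6b8cfebacc6b44ceb64d6b0cdeb2ca6ac4aeae4b6a8cbeaac86a448ea6496a0c9ea2c669c46e9e47698c7e9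ac469444e9645690c5e92c268c42e8e43688c3e8ac068440e8641680c1e82fe67c7ee7e7f678ffe7afc6747ce767d670fde72fa66c7ae6e7b668fbe6af866478e6679660f9e62f665c76e5e77658f7e5af465474e5675650f5e52f264c72e4e73648f3e4af064470e4671640f1e42ee63c6ee3e6f638efe3aec6346ce366d630ede32ea62c6ae2e6b628ebe2ae862468e2669620e9e22e661c66e1e67618e7e1ae461464e1665610e5e12e260c62e0e63608e3e0ae060460e0661600e1e021e5fc9edfe9f5f81fdfa1c5f49cdf69d5f01ddf21a5ec9adee9b5e81bdea185e498de6995e019de2165dc96dde975d817dda145d494dd6955d015dd2125cc92dce935c813dca105c490dc6915c011dc20e5bc8edbe8f5b80fdba0c5b48cdb68d5b00ddb20a5ac8adae8b5a80bdaa085a488da6895a009da20659c86d9e8759807d9a0459484d968559005d920258c82d8e8358803d8a0058480d868158001d823e57cbed7ebf5783fd7a3c574bcd76bd5703dd723a56cbad6ebb5683bd6a38564b8d66b956039d623655cb6d5eb755837d5a34554b4d56b555035d523254cb2d4eb354833d4a30544b0d46b154031d422e53caed3eaf5382fd3a2c534acd36ad5302dd322a52caad2eab5282bd2a28524a8d26a952029d222651ca6d1ea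751827d1a24514a4d16a551025d122250ca2d0ea350823d0a20504a0d06a150021d025e4fcdecfedf4f85fcfa5c4f4dccf6dd4f05dcf25a4ecdaceedb4e85bcea584e4d8ce6d94e059ce2564dcd6cded74d857cda544d4d4cd6d54d055cd2524ccd2cced34c853cca504c4d0cc6d14c051cc24e4bccecbecf4b84fcba4c4b4cccb6cd4b04dcb24a4accacaecb4a84bcaa484a4c8ca6c94a049ca24649cc6c9ec749847c9a44494c4c96c549045c924248cc2c8ec348843c8a40484c0c86c148041c827e47cfec7eff4787fc7a7c474fcc76fd4707dc727a46cfac6efb4687bc6a78464f8c66f946079c627645cf6c5ef745877c5a74454f4c56f545075c527244cf2c4ef344873c4a70444f0c46f144071c426e43ceec3eef4386fc3a6c434ecc36ed4306dc326a42ceac2eeb4286bc2a68424e8c26e942069c226641ce6c1ee741867c1a64414e4c16e541065c126240ce2c0ee340863c0a60404e0c06e140061c02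
/-- Left multiplication by `X2`. -/
def L2 : ℕ := 0xbeefafe7f8bfefeff7fcbcef2fc7f0bdef6fd7f4baeeafa7e8bbeeefb7ecb8ee2f87e0b9ee6f97e4b6edaf67d8b7edef77dcb4ed2f47d0b5ed6f57d4b2ecaf27c8b3ecef37ccb0ec2f07c0b1ec6f17c4aeebaee7b8afebeef7bcaceb2ec7b0adeb6ed7b4aaeaaea7a8abeaeeb7aca8ea2e87a0a9ea6e97a4a6e9ae6798a7e9ee779ca4e92e4790a5e96e5794a2e8ae2788a3e8ee378ca0e82e0780a1e86e17849ee7ade7789fe7edf77c9ce72dc7709de76dd7749ae6ada7689be6edb76c98e62d876099e66d976496e5ad675897e5ed775c94e52d475095e56d575492e4ad274893e4ed374c90e42d074091e46d17448ee3ace7388fe3ecf73c8ce32cc7308de36cd7348ae2aca7288be2ecb72c88e22c872089e26c972486e1ac671887e1ec771c84e12c471085e16c571482e0ac270883e0ec370c80e02c070081e06c1704feffabe6f8ffffebf6fcfcff2bc6f0fdff6bd6f4fafeaba6e8fbfeebb6ecf8fe2b86e0f9fe6b96e4f6fdab66d8f7fdeb76dcf4fd2b46d0f5fd6b56d4f2fcab26c8f3fceb36ccf0fc2b06c0f1fc6b16c4eefbaae6b8effbeaf6bcecfb2ac6b0edfb6ad6b4eafaaaa6a8ebfaeab6ace8fa2a86a0e9fa6a96a4e6f9aa6698e7f9ea769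ce4f92a4690e5f96a5694e2f8aa2688e3f8ea368ce0f82a0680e1f86a1684def7a9e678dff7e9f67cdcf729c670ddf769d674daf6a9a668dbf6e9b66cd8f6298660d9f6699664d6f5a96658d7f5e9765cd4f5294650d5f5695654d2f4a92648d3f4e9364cd0f4290640d1f4691644cef3a8e638cff3e8f63cccf328c630cdf368d634caf2a8a628cbf2e8b62cc8f2288620c9f2689624c6f1a86618c7f1e8761cc4f1284610c5f1685614c2f0a82608c3f0e8360cc0f0280600c1f06816043ecfa7e5f83fcfe7f5fc3ccf27c5f03dcf67d5f43acea7a5e83bcee7b5ec38ce2785e039ce6795e436cda765d837cde775dc34cd2745d035cd6755d432cca725c833cce735cc30cc2705c031cc6715c42ecba6e5b82fcbe6f5bc2ccb26c5b02dcb66d5b42acaa6a5a82bcae6b5ac28ca2685a029ca6695a426c9a6659827c9e6759c24c926459025c966559422c8a6258823c8e6358c20c826058021c86615841ec7a5e5781fc7e5f57c1cc725c5701dc765d5741ac6a5a5681bc6e5b56c18c625856019c665956416c5a5655817c5e5755c14c525455015c565555412c4a5254813c4e5354c10c425054011c46515440ec3a4e5380fc3e4f53c0cc324c5300dc364d5340ac2a4a5280bc2e4b52c08c224852009c264952406c1a465180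7c1e4751c04c124451005c164551402c0a4250803c0e4350c00c024050001c06415047edfa3e4f87fdfe3f4fc7cdf23c4f07ddf63d4f47adea3a4e87bdee3b4ec78de2384e079de6394e476dda364d877dde374dc74dd2344d075dd6354d472dca324c873dce334cc70dc2304c071dc6314c46edba2e4b86fdbe2f4bc6cdb22c4b06ddb62d4b46adaa2a4a86bdae2b4ac68da2284a069da6294a466d9a2649867d9e2749c64d922449065d962549462d8a2248863d8e2348c60d822048061d86214845ed7a1e4785fd7e1f47c5cd721c4705dd761d4745ad6a1a4685bd6e1b46c58d621846059d661946456d5a1645857d5e1745c54d521445055d561545452d4a1244853d4e1344c50d421044051d46114444ed3a0e4384fd3e0f43c4cd320c4304dd360d4344ad2a0a4284bd2e0b42c48d220842049d260942446d1a0641847d1e0741c44d120441045d160541442d0a0240843d0e0340c40d020040041d0601404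
/-- Left multiplication by `X3`. -/
def L3 : ℕ := 0xfdff6fd7f4fcff2fc7f0ffffeff7fcfeffafe7f8f9fe6f97e4f8fe2f87e0fbfeefb7ecfafeafa7e8f5fd6f57d4f4fd2f47d0f7fdef77dcf6fdaf67d8f1fc6f17c4f0fc2f07c0f3fcef37ccf2fcaf27c8edfb6ed7b4ecfb2ec7b0effbeef7bceefbaee7b8e9fa6e97a4e8fa2e87a0ebfaeeb7aceafaaea7a8e5f96e5794e4f92e4790e7f9ee779ce6f9ae6798e1f86e1784e0f82e0780e3f8ee378ce2f8ae2788ddf76dd774dcf72dc770dff7edf77cdef7ade778d9f66d9764d8f62d8760dbf6edb76cdaf6ada768d5f56d5754d4f52d4750d7f5ed775cd6f5ad6758d1f46d1744d0f42d0740d3f4ed374cd2f4ad2748cdf36cd734ccf32cc730cff3ecf73ccef3ace738c9f26c9724c8f22c8720cbf2ecb72ccaf2aca728c5f16c5714c4f12c4710c7f1ec771cc6f1ac6718c1f06c1704c0f02c0700c3f0ec370cc2f0ac2708bdef6bd6f4bcef2bc6f0bfefebf6fcbeefabe6f8b9ee6b96e4b8ee2b86e0bbeeebb6ecbaeeaba6e8b5ed6b56d4b4ed2b46d0b7edeb76dcb6edab66d8b1ec6b16c4b0ec2b06c0b3eceb36ccb2ecab26c8adeb6ad6b4aceb2ac6b0afebeaf6bcaeebaae6b8a9ea6a96a4a8ea2a86a0abeaeab6acaaeaaaa6a8a5e96a5694a4e92a469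0a7e9ea769ca6e9aa6698a1e86a1684a0e82a0680a3e8ea368ca2e8aa26889de769d6749ce729c6709fe7e9f67c9ee7a9e67899e669966498e62986609be6e9b66c9ae6a9a66895e569565494e529465097e5e9765c96e5a9665891e469164490e429064093e4e9364c92e4a926488de368d6348ce328c6308fe3e8f63c8ee3a8e63889e268962488e22886208be2e8b62c8ae2a8a62885e168561484e128461087e1e8761c86e1a8661881e068160480e028060083e0e8360c82e0a826087ddf67d5f47cdf27c5f07fdfe7f5fc7edfa7e5f879de6795e478de2785e07bdee7b5ec7adea7a5e875dd6755d474dd2745d077dde775dc76dda765d871dc6715c470dc2705c073dce735cc72dca725c86ddb66d5b46cdb26c5b06fdbe6f5bc6edba6e5b869da6695a468da2685a06bdae6b5ac6adaa6a5a865d966559464d926459067d9e6759c66d9a6659861d866158460d826058063d8e6358c62d8a625885dd765d5745cd725c5705fd7e5f57c5ed7a5e57859d665956458d62585605bd6e5b56c5ad6a5a56855d565555454d525455057d5e5755c56d5a5655851d465154450d425054053d4e5354c52d4a525484dd364d5344cd324c5304fd3e4f53c4ed3a4e53849d264952448d22485204bd2e4b52c4ad2a4a52845d16455144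4d124451047d1e4751c46d1a4651841d064150440d024050043d0e4350c42d0a425083dcf63d4f43ccf23c4f03fcfe3f4fc3ecfa3e4f839ce6394e438ce2384e03bcee3b4ec3acea3a4e835cd6354d434cd2344d037cde374dc36cda364d831cc6314c430cc2304c033cce334cc32cca324c82dcb62d4b42ccb22c4b02fcbe2f4bc2ecba2e4b829ca6294a428ca2284a02bcae2b4ac2acaa2a4a825c962549424c922449027c9e2749c26c9a2649821c862148420c822048023c8e2348c22c8a224881dc761d4741cc721c4701fc7e1f47c1ec7a1e47819c661946418c62184601bc6e1b46c1ac6a1a46815c561545414c521445017c5e1745c16c5a1645811c461144410c421044013c4e1344c12c4a124480dc360d4340cc320c4300fc3e0f43c0ec3a0e43809c260942408c22084200bc2e0b42c0ac2a0a42805c160541404c120441007c1e0741c06c1a0641801c060140400c020040003c0e0340c02c0a02408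
/-- Left multiplication by `X4`. -/
def L4 : ℕ := 0xf3e4e6b72c82d8ada7e891fc6c95a460e02f8760d7ede4f7bca6d1afe778b5f56ed53444e92dc7f0bbf6e6370ccacaad27c8d9ee6c158428f22f07409fffe4779ceec3af6758fde76e55140cfb2d47d0e3e0efb56c12fcaca7a881f86597e4f0c42e8720c7e9edf5fc36f5aee738a5f167d774d4cd2cc7b0abf2ef354c5aeeac2788c9ea6517c4b8d62e07008ffbed75dc7ee7ae6718ede36757549cdf2c4790d3ece4b7aca2d0afa768b1f46e952440e82d87e0f7e5e6f73c86d9ade7f895fd6cd5b464e12fc7709bfee4378ceac2af2748f9e66e150408fa2d07c0bff7e6771ccecbad67d8ddef6c55942cf32f4750c3e8edb5ec32f4aea728a1f0679764d0cc2c87a0e7e1eff57c16fdace7b885f965d7f4f4c52ec7308bfaed35cc7ae6ae2708e9e267174498de2c0780aff3ef755c5eefac6798cdeb6557d4bcd72e4710b3f4e2b62cc2c8a9a6e8d1ec6894a420f02b866097fde0f6bce6c1abe678f5e56ad43404f929c6f0fbe6e2360c8adaa926c899fe68148468e22b0640dfefe0769caed3ab6658bdf76a54144ceb2946d0a3f0ebb46c52eca8a6a8c1e86196e4b0d42a862087f9e9f4fc76e5aae638e5e163d67494dd28c6b0ebe2eb344c1afea8268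889fa6116c4f8c62a0600cfebe974dc3ef7aa6618adf3635654dccf28469093fce0b6ace2c0aba668f1e46a942400f82986e0b7f5e2f63cc6c9a9e6f8d5ed68d4b424f12bc670dbeee0368caad2ab2648b9f66a140448ea2906c0ffe7e2761c8edba966d89dff6854946ce32b465083f8e9b4ec72e4aaa628e1e063966490dc2886a0a7f1ebf47c56eda8e6b8c5e961d6f4b4d52ac630cbeae934cc3af6aa2608a9f2631644d8ce280680efe3eb745c1effa866988dfb6156d4fcc72a461073c4eeb52c02f8a5a5e811dc6497a4e0c027856057cdecf5bc26f1a7e57835d566d734c4c925c5f03bd6ee350c4aeaa525c859ce641784a8d22705401fdfec759c6ee3a765587dc76657148cdb2545d063c0e7b76c92dca4a5a801d86d95e470e426852047c9e5f7fcb6d5a6e53825d16fd57454ed24c5b02bd2e7374cdacea4258849ca6d15c438f62605000fdbe577dcfec7a665186dc36f55541cff24459053ccecb5ac22f0a7a56831d4669724c0c82585e077c5eef53c06f9a5e5f815dd64d7b4e4c127c5701bdeec358c6ae2a7254879c666170488da2505c03fd7ee751c4eeba565d85dcf645794acd327455043c8e5b7ecb2d4a6a52821d06f956450ec2485a067c1e7f77c96dda4e5b805d96dd5f474e526c5300bdae537ccf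ac6a6250869c26f154418fe2405802fd3e7775cdecfa465984dcb6d55d43cf726451033d4eab42c42e8a1a4e851cc6096a4a0d023846017dde8f4bc66e1a3e47875c562d63484d921c4f07bc6ea340c0afaa124c819de601684e8c22304405fcfe8749c2ef3a364583dd7625614cccb2144d023d0e3b66cd2cca0a4a841c86994e430f422842007d9e1f6fcf6c5a2e43865c16bd47414fd20c4b06bc2e3364c9adea0248809da6914c478e62204004fcbe176dcbed7a264182dd36b54545cef20449013dce8b4ac62e0a3a46871c462962480d82184e037d5eaf43c46e9a1e4f855cd60d6b4a4d123c4705bcee8348c2af2a3244839d6621604c8ca2104c07fc7ea741c0efba164d81ddf605694ecc323445003d8e1b6ecf2c4a2a42861c06b946410fc2084a027d1e3f67cd6cda0e4b845c969d4f434f522c4304bcae136ccbad6a2240829d26b144458ee2004806fc3e3765c9edfa064980ddb6954d47ce7224410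
/-- Left multiplication by `X5`. -/
def L5 : ℕ := 0x87fde876dc46eda467d845ed6457d484fd2846d083fce836cc42eca427c841ec6417c480fc2806c0cfefecf7fc0effa0e6f80dff60d6f4ccef2cc7f0cbeeecb7ec0afea0a6e809fe6096e4c8ee2c87e017f9e1769cd6e9ad6798d5e96d579414f921469013f8e1368cd2e8ad2788d1e86d178410f82106805febe5f7bc9efba9e6b89dfb69d6b45ceb25c7b05beae5b7ac9afaa9a6a899fa6996a458ea2587a0a7f5ea765c66e5a6675865e5665754a4f52a4650a3f4ea364c62e4a6274861e4661744a0f42a0640efe7eef77c2ef7a2e6782df762d674ece72ec770ebe6eeb76c2af6a2a66829f6629664e8e62e876037f1e3761cf6e1af6718f5e16f571434f123461033f0e3360cf2e0af2708f1e06f170430f02306007fe3e7f73cbef3abe638bdf36bd6347ce327c7307be2e7b72cbaf2aba628b9f26b962478e2278720c7edec77dc06fda066d805fd6056d4c4ed2c47d0c3ecec37cc02fca026c801fc6016c4c0ec2c07c08fffe8f6fc4eefa4e7f84def64d7f48cff28c6f08bfee8b6ec4aeea4a7e849ee6497e488fe2886e057e9e5779c96f9a9669895f969569454e925479053e8e5378c92f8a9268891f869168450e82507801ffbe1f6bcdeebade7b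8ddeb6dd7b41cfb21c6b01bfae1b6acdaeaada7a8d9ea6d97a418fa2186a0e7e5ee775c26f5a2665825f5625654e4e52e4750e3e4ee374c22f4a2264821f4621644e0e42e0740aff7eaf67c6ee7a6e7786de766d774acf72ac670abf6eab66c6ae6a6a76869e6669764a8f62a866077e1e7771cb6f1ab6618b5f16b561474e127471073e0e7370cb2f0ab2608b1f06b160470e02707003ff3e3f63cfee3afe738fde36fd7343cf323c6303bf2e3b62cfae2afa728f9e26f972438f223862007dde074dcc6cdac65d8c5cd6c55d404dd2044d003dce034ccc2ccac25c8c1cc6c15c400dc2004c04fcfe4f5fc8edfa8e4f88ddf68d4f44ccf24c5f04bcee4b5ec8adea8a4e889de6894e448ce2485e097d9e9749c56c9a5659855c965559494d929449093d8e9348c52c8a5258851c865158490d8290480dfcbedf5bc1edba1e4b81ddb61d4b4dccb2dc5b0dbcaedb5ac1adaa1a4a819da6194a4d8ca2d85a027d5e2745ce6c5ae6558e5c56e555424d522445023d4e2344ce2c4ae2548e1c46e154420d42204406fc7e6f57caed7aae478add76ad4746cc726c5706bc6e6b56caad6aaa468a9d66a946468c6268560b7d1eb741c76c1a7651875c1675514b4d12b4410b3d0eb340c72c0a7250871c0671504b0d02b0400ffc3eff53c3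ed3a3e4383dd363d434fcc32fc530fbc2efb52c3ad2a3a42839d2639424f8c22f852047cde475dc86dda864d885dd6854d444cd2445d043cce435cc82dca824c881dc6814c440cc2405c00fdfe0f4fccecface5f8cdcf6cd5f40cdf20c4f00bdee0b4eccaceaca5e8c9ce6c95e408de2084e0d7c9ed759c16d9a1649815d9615494d4c92d4590d3c8ed358c12d8a1248811d8611484d0c82d05809fdbe9f4bc5ecba5e5b85dcb65d5b49cdb29c4b09bdae9b4ac5acaa5a5a859ca6595a498da2984a067c5e6755ca6d5aa6458a5d56a545464c526455063c4e6354ca2d4aa2448a1d46a144460c42605402fd7e2f47ceec7aee578edc76ed5742cd722c4702bd6e2b46ceac6aea568e9c66e956428d6228460f7c1ef751c36d1a3641835d1635414f4c12f4510f3c0ef350c32d0a3240831d0631404f0c02f0500bfd3ebf43c7ec3a7e5387dc367d534bcd32bc430bbd2ebb42c7ac2a7a52879c2679524b8d22b8420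
/-- Left multiplication by `X6`. -/
def L6 : ℕ := 0xefdbe6f7bceedba6e7b86dfb6ed5b46cfb2ec5b0ebdae6b7aceadaa6a7a869fa6e95a468fa2e85a0e7d9e6779ce6d9a6679865f96e559464f92e4590e3d8e6378ce2d8a6278861f86e158460f82e05807fffeff5fc7effafe5f8fddf67d7f4fcdf27c7f07bfeefb5ec7afeafa5e8f9de6797e4f8de2787e077fdef75dc76fdaf65d8f5dd6757d4f4dd2747d073fcef35cc72fcaf25c8f1dc6717c4f0dc2707c0cfd3e4f73cced3a4e7384df36cd5344cf32cc530cbd2e4b72ccad2a4a72849f26c952448f22c8520c7d1e4771cc6d1a4671845f16c551444f12c4510c3d0e4370cc2d0a4270841f06c150440f02c05005ff7edf57c5ef7ade578ddd765d774dcd725c7705bf6edb56c5af6ada568d9d6659764d8d625876057f5ed755c56f5ad6558d5d5655754d4d525475053f4ed354c52f4ad2548d1d4651744d0d4250740afcbe2f6bcaecba2e6b82deb6ad4b42ceb2ac4b0abcae2b6acaacaa2a6a829ea6a94a428ea2a84a0a7c9e2769ca6c9a2669825e96a549424e92a4490a3c8e2368ca2c8a2268821e86a148420e82a04803fefebf4fc3eefabe4f8bdcf63d6f4bccf23c6f03beeebb4ec3aeeaba4e8b9ce6396e4b8ce2386e037edeb74dc36edab64d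8b5cd6356d4b4cd2346d033eceb34cc32ecab24c8b1cc6316c4b0cc2306c08fc3e0f63c8ec3a0e6380de368d4340ce328c4308bc2e0b62c8ac2a0a62809e268942408e228842087c1e0761c86c1a0661805e168541404e128441083c0e0360c82c0a0260801e068140400e02804001fe7e9f47c1ee7a9e4789dc761d6749cc721c6701be6e9b46c1ae6a9a46899c661966498c621866017e5e9745c16e5a9645895c561565494c521465013e4e9344c12e4a9244891c461164490c42106406ffbeef5bc6efbaee5b8eddb66d7b4ecdb26c7b06bfaeeb5ac6afaaea5a8e9da6697a4e8da2687a067f9ee759c66f9ae6598e5d9665794e4d926479063f8ee358c62f8ae2588e1d8661784e0d8260780ffdfe7f7fcfedfa7e7f87dff6fd5f47cff2fc5f0fbdee7b7ecfadea7a7e879fe6f95e478fe2f85e0f7dde777dcf6dda767d875fd6f55d474fd2f45d0f3dce737ccf2dca727c871fc6f15c470fc2f05c04ff3ecf53c4ef3ace538cdd364d734ccd324c7304bf2ecb52c4af2aca528c9d2649724c8d224872047f1ec751c46f1ac6518c5d1645714c4d124471043f0ec350c42f0ac2508c1d0641704c0d0240700dfd7e5f77cded7a5e7785df76dd5745cf72dc570dbd6e5b76cdad6a5a76859f66d956458f62d8560d7d5e5775cd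6d5a5675855f56d555454f52d4550d3d4e5374cd2d4a5274851f46d154450f42d05402febeaf4bc2eebaae4b8adcb62d6b4accb22c6b02beaeab4ac2aeaaaa4a8a9ca6296a4a8ca2286a027e9ea749c26e9aa6498a5c9625694a4c922469023e8ea348c22e8aa2488a1c8621684a0c8220680bfcfe3f6fcbecfa3e6f83def6bd4f43cef2bc4f0bbcee3b6ecbacea3a6e839ee6b94e438ee2b84e0b7cde376dcb6cda366d835ed6b54d434ed2b44d0b3cce336ccb2cca326c831ec6b14c430ec2b04c00fe3e8f43c0ee3a8e4388dc360d6348cc320c6300be2e8b42c0ae2a8a42889c260962488c220862007e1e8741c06e1a8641885c160561484c120461003e0e8340c02e0a8240881c060160480c02006009fc7e1f67c9ec7a1e6781de769d4741ce729c4709bc6e1b66c9ac6a1a66819e669946418e629846097c5e1765c96c5a1665815e569545414e529445093c4e1364c92c4a1264811e469144410e4290440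
/-- Left multiplication by `X7`. -/
def L7 : ℕ := 0x9fe7e5f57c1ec7ade7789de765d5741cc72dc7709be6e5b56c1ac6ada76899e665956418c62d876097e5e5755c16c5ad675895e565555414c52d475093e4e5354c12c4ad274891e465154410c42d07408fe3e4f53c0ec3ace7388de364d5340cc32cc7308be2e4b52c0ac2aca72889e264952408c22c872087e1e4751c06c1ac671885e164551404c12c471083e0e4350c02c0ac270881e064150400c02c0700bfefe7f5fc3ecfafe7f8bdef67d5f43ccf2fc7f0bbeee7b5ec3aceafa7e8b9ee6795e438ce2f87e0b7ede775dc36cdaf67d8b5ed6755d434cd2f47d0b3ece735cc32ccaf27c8b1ec6715c430cc2f07c0afebe6f5bc2ecbaee7b8adeb66d5b42ccb2ec7b0abeae6b5ac2acaaea7a8a9ea6695a428ca2e87a0a7e9e6759c26c9ae6798a5e966559424c92e4790a3e8e6358c22c8ae2788a1e866158420c82e0780dff7e1f47c5ed7a9e678ddf761d4745cd729c670dbf6e1b46c5ad6a9a668d9f661946458d6298660d7f5e1745c56d5a96658d5f561545454d5294650d3f4e1344c52d4a92648d1f461144450d4290640cff3e0f43c4ed3a8e638cdf360d4344cd328c630cbf2e0b42c4ad2a8a628c9f260942448d2288620c7f1e0741c46d1a8661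8c5f160541444d1284610c3f0e0340c42d0a82608c1f060140440d0280600ffffe3f4fc7edfabe6f8fdff63d4f47cdf2bc6f0fbfee3b4ec7adeaba6e8f9fe6394e478de2b86e0f7fde374dc76ddab66d8f5fd6354d474dd2b46d0f3fce334cc72dcab26c8f1fc6314c470dc2b06c0effbe2f4bc6edbaae6b8edfb62d4b46cdb2ac6b0ebfae2b4ac6adaaaa6a8e9fa6294a468da2a86a0e7f9e2749c66d9aa6698e5f962549464d92a4690e3f8e2348c62d8aa2688e1f862148460d82a06801fc7edf77c9ee7a5e5781dc76dd7749ce725c5701bc6edb76c9ae6a5a56819c66d976498e625856017c5ed775c96e5a5655815c56d575494e525455013c4ed374c92e4a5254811c46d174490e42505400fc3ecf73c8ee3a4e5380dc36cd7348ce324c5300bc2ecb72c8ae2a4a52809c26c972488e224852007c1ec771c86e1a4651805c16c571484e124451003c0ec370c82e0a4250801c06c170480e02405003fcfeff7fcbeefa7e5f83dcf6fd7f4bcef27c5f03bceefb7ecbaeea7a5e839ce6f97e4b8ee2785e037cdef77dcb6eda765d835cd6f57d4b4ed2745d033ccef37ccb2eca725c831cc6f17c4b0ec2705c02fcbeef7bcaeeba6e5b82dcb6ed7b4aceb26c5b02bcaeeb7acaaeaa6a5a829ca6e97a4a8ea2685a027c9ee779ca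6e9a6659825c96e5794a4e926459023c8ee378ca2e8a6258821c86e1784a0e82605805fd7e9f67cdef7a1e4785dd769d674dcf721c4705bd6e9b66cdaf6a1a46859d6699664d8f621846057d5e9765cd6f5a1645855d5695654d4f521445053d4e9364cd2f4a1244851d4691644d0f42104404fd3e8f63ccef3a0e4384dd368d634ccf320c4304bd2e8b62ccaf2a0a42849d2689624c8f220842047d1e8761cc6f1a0641845d1685614c4f120441043d0e8360cc2f0a0240841d0681604c0f02004007fdfebf6fcfeffa3e4f87ddf6bd6f4fcff23c4f07bdeebb6ecfafea3a4e879de6b96e4f8fe2384e077ddeb76dcf6fda364d875dd6b56d4f4fd2344d073dceb36ccf2fca324c871dc6b16c4f0fc2304c06fdbeaf6bceefba2e4b86ddb6ad6b4ecfb22c4b06bdaeab6aceafaa2a4a869da6a96a4e8fa2284a067d9ea769ce6f9a2649865d96a5694e4f922449063d8ea368ce2f8a2248861d86a1684e0f8220480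
/-- Left multiplication by `X8`. -/
def L8 : ℕ := 0x3fefe3f6fc3eefa3e6f83def63d6f43cef23c6f03beee3b6ec3aeea3a6e839ee6396e438ee2386e037ede376dc36eda366d835ed6356d434ed2346d033ece336cc32eca326c831ec6316c430ec2306c02febe2f6bc2eeba2e6b82deb62d6b42ceb22c6b02beae2b6ac2aeaa2a6a829ea6296a428ea2286a027e9e2769c26e9a2669825e962569424e922469023e8e2368c22e8a2268821e862168420e82206801fe7e1f67c1ee7a1e6781de761d6741ce721c6701be6e1b66c1ae6a1a66819e661966418e621866017e5e1765c16e5a1665815e561565414e521465013e4e1364c12e4a1264811e461164410e42106400fe3e0f63c0ee3a0e6380de360d6340ce320c6300be2e0b62c0ae2a0a62809e260962408e220862007e1e0761c06e1a0661805e160561404e120461003e0e0360c02e0a0260801e060160400e02006007fffe7f7fc7effa7e7f87dff67d7f47cff27c7f07bfee7b7ec7afea7a7e879fe6797e478fe2787e077fde777dc76fda767d875fd6757d474fd2747d073fce737cc72fca727c871fc6717c470fc2707c06ffbe6f7bc6efba6e7b86dfb66d7b46cfb26c7b06bfae6b7ac6afaa6a7a869fa6697a468fa2687a067f9e6779c66f9a6679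865f966579464f926479063f8e6378c62f8a6278861f866178460f82607805ff7e5f77c5ef7a5e7785df765d7745cf725c7705bf6e5b76c5af6a5a76859f665976458f625876057f5e5775c56f5a5675855f565575454f525475053f4e5374c52f4a5274851f465174450f42507404ff3e4f73c4ef3a4e7384df364d7344cf324c7304bf2e4b72c4af2a4a72849f264972448f224872047f1e4771c46f1a4671845f164571444f124471043f0e4370c42f0a4270841f064170440f0240700bfcfebf4fcbecfabe4f8bdcf6bd4f4bccf2bc4f0bbceebb4ecbaceaba4e8b9ce6b94e4b8ce2b84e0b7cdeb74dcb6cdab64d8b5cd6b54d4b4cd2b44d0b3cceb34ccb2ccab24c8b1cc6b14c4b0cc2b04c0afcbeaf4bcaecbaae4b8adcb6ad4b4accb2ac4b0abcaeab4acaacaaaa4a8a9ca6a94a4a8ca2a84a0a7c9ea749ca6c9aa6498a5c96a5494a4c92a4490a3c8ea348ca2c8aa2488a1c86a1484a0c82a04809fc7e9f47c9ec7a9e4789dc769d4749cc729c4709bc6e9b46c9ac6a9a46899c669946498c629846097c5e9745c96c5a9645895c569545494c529445093c4e9344c92c4a9244891c469144490c42904408fc3e8f43c8ec3a8e4388dc368d4348cc328c4308bc2e8b42c8ac2a8a42889c268942488c228842087c1e8741c8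6c1a8641885c168541484c128441083c0e8340c82c0a8240881c068140480c0280400ffdfeff5fcfedfafe5f8fddf6fd5f4fcdf2fc5f0fbdeefb5ecfadeafa5e8f9de6f95e4f8de2f85e0f7ddef75dcf6ddaf65d8f5dd6f55d4f4dd2f45d0f3dcef35ccf2dcaf25c8f1dc6f15c4f0dc2f05c0efdbeef5bceedbaee5b8eddb6ed5b4ecdb2ec5b0ebdaeeb5aceadaaea5a8e9da6e95a4e8da2e85a0e7d9ee759ce6d9ae6598e5d96e5594e4d92e4590e3d8ee358ce2d8ae2588e1d86e1584e0d82e0580dfd7edf57cded7ade578ddd76dd574dcd72dc570dbd6edb56cdad6ada568d9d66d9564d8d62d8560d7d5ed755cd6d5ad6558d5d56d5554d4d52d4550d3d4ed354cd2d4ad2548d1d46d1544d0d42d0540cfd3ecf53cced3ace538cdd36cd534ccd32cc530cbd2ecb52ccad2aca528c9d26c9524c8d22c8520c7d1ec751cc6d1ac6518c5d16c5514c4d12c4510c3d0ec350cc2d0ac2508c1d06c1504c0d02c0500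
/-- Left multiplication by `X9`. -/
def L9 : ℕ := 0x7fdfe7f5fc7edfa7e5f87ddf67d5f47cdf27c5f07bdee7b5ec7adea7a5e879de6795e478de2785e077dde775dc76dda765d875dd6755d474dd2745d073dce735cc72dca725c871dc6715c470dc2705c06fdbe6f5bc6edba6e5b86ddb66d5b46cdb26c5b06bdae6b5ac6adaa6a5a869da6695a468da2685a067d9e6759c66d9a6659865d966559464d926459063d8e6358c62d8a6258861d866158460d82605805fd7e5f57c5ed7a5e5785dd765d5745cd725c5705bd6e5b56c5ad6a5a56859d665956458d625856057d5e5755c56d5a5655855d565555454d525455053d4e5354c52d4a5254851d465154450d42505404fd3e4f53c4ed3a4e5384dd364d5344cd324c5304bd2e4b52c4ad2a4a52849d264952448d224852047d1e4751c46d1a4651845d164551444d124451043d0e4350c42d0a4250841d064150440d02405003fcfe3f4fc3ecfa3e4f83dcf63d4f43ccf23c4f03bcee3b4ec3acea3a4e839ce6394e438ce2384e037cde374dc36cda364d835cd6354d434cd2344d033cce334cc32cca324c831cc6314c430cc2304c02fcbe2f4bc2ecba2e4b82dcb62d4b42ccb22c4b02bcae2b4ac2acaa2a4a829ca6294a428ca2284a027c9e2749c26c9a2649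825c962549424c922449023c8e2348c22c8a2248821c862148420c82204801fc7e1f47c1ec7a1e4781dc761d4741cc721c4701bc6e1b46c1ac6a1a46819c661946418c621846017c5e1745c16c5a1645815c561545414c521445013c4e1344c12c4a1244811c461144410c42104400fc3e0f43c0ec3a0e4380dc360d4340cc320c4300bc2e0b42c0ac2a0a42809c260942408c220842007c1e0741c06c1a0641805c160541404c120441003c0e0340c02c0a0240801c060140400c0200400ffffeff7fcfeffafe7f8fdff6fd7f4fcff2fc7f0fbfeefb7ecfafeafa7e8f9fe6f97e4f8fe2f87e0f7fdef77dcf6fdaf67d8f5fd6f57d4f4fd2f47d0f3fcef37ccf2fcaf27c8f1fc6f17c4f0fc2f07c0effbeef7bceefbaee7b8edfb6ed7b4ecfb2ec7b0ebfaeeb7aceafaaea7a8e9fa6e97a4e8fa2e87a0e7f9ee779ce6f9ae6798e5f96e5794e4f92e4790e3f8ee378ce2f8ae2788e1f86e1784e0f82e0780dff7edf77cdef7ade778ddf76dd774dcf72dc770dbf6edb76cdaf6ada768d9f66d9764d8f62d8760d7f5ed775cd6f5ad6758d5f56d5754d4f52d4750d3f4ed374cd2f4ad2748d1f46d1744d0f42d0740cff3ecf73ccef3ace738cdf36cd734ccf32cc730cbf2ecb72ccaf2aca728c9f26c9724c8f22c8720c7f1ec771cc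6f1ac6718c5f16c5714c4f12c4710c3f0ec370cc2f0ac2708c1f06c1704c0f02c0700bfefebf6fcbeefabe6f8bdef6bd6f4bcef2bc6f0bbeeebb6ecbaeeaba6e8b9ee6b96e4b8ee2b86e0b7edeb76dcb6edab66d8b5ed6b56d4b4ed2b46d0b3eceb36ccb2ecab26c8b1ec6b16c4b0ec2b06c0afebeaf6bcaeebaae6b8adeb6ad6b4aceb2ac6b0abeaeab6acaaeaaaa6a8a9ea6a96a4a8ea2a86a0a7e9ea769ca6e9aa6698a5e96a5694a4e92a4690a3e8ea368ca2e8aa2688a1e86a1684a0e82a06809fe7e9f67c9ee7a9e6789de769d6749ce729c6709be6e9b66c9ae6a9a66899e669966498e629866097e5e9765c96e5a9665895e569565494e529465093e4e9364c92e4a9264891e469164490e42906408fe3e8f63c8ee3a8e6388de368d6348ce328c6308be2e8b62c8ae2a8a62889e268962488e228862087e1e8761c86e1a8661885e168561484e128461083e0e8360c82e0a8260881e068160480e0280600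

/-- The table `L` describes left multiplication by the element with table `t`. -/
noncomputable def lChk (t L : ℕ) : Bool :=
  allB (fun i => fr (lk L i) fun j =>
    Nat.beq (lk t (lk BT0 i)) (lk BT0 j) && Nat.beq (lk t (lk BT1 i)) (lk BT1 j) &&
    Nat.beq (lk t (lk BT2 i)) (lk BT2 j) && Nat.beq (lk t (lk BT3 i)) (lk BT3 j) &&
    Nat.beq (lk t (lk BT4 i)) (lk BT4 j) && Nat.beq (lk t (lk BT5 i)) (lk BT5 j)) 1024

theorem L0_chk : lChk xt0 L0 = true := by decide +kernel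
theorem L1_chk : lChk xt1 L1 = true := by decide +kernel
theorem L2_chk : lChk xt2 L2 = true := by decide +kernel
theorem L3_chk : lChk xt3 L3 = true := by decide +kernel
theorem L4_chk : lChk xt4 L4 = true := by decide +kernel
theorem L5_chk : lChk xt5 L5 = true := by decide +kernel
theorem L6_chk : lChk xt6 L6 = true := by decide +kernel
theorem L7_chk : lChk xt7 L7 = true := by decide +kernel
theorem L8_chk : lChk xt8 L8 = true := by decide +kernel
theorem L9_chk : lChk xt9 L9 = true := by decide +kernel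

theorem mul_Φ_of {g : G3} {t L : ℕ} (hg : ∀ x : Fin 552, (ψ g x : ℕ) = lk t x) (h : lChk t L = true) (i : ℕ)
    (hi : i < 1024) : g * Φ i = Φ (lk L i) := by
  have h1 := allB_spec h i hi
  rw [fr_eq] at h1
  simp only [Bool.and_eq_true] at h1
  obtain ⟨⟨⟨⟨⟨a0, a1⟩, a2⟩, a3⟩, a4⟩, a5⟩ := h1
  have key : ∀ (b : Fin 552) (B : ℕ), allB (fun i => Nat.beq (appX i b) (lk B i)) 1024 = true →
      Nat.beq (lk t (lk B i)) (lk B (lk L i)) = true → (ψ (g * Φ i) b : ℕ) = lk B (lk L i) := by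
    intro b B hB h2
    rw [map_mul, Equiv.Perm.mul_apply, hg, base_val hB hi]
    exact Nat.eq_of_beq_eq_true h2
  exact eq_Φ (lk_lt _ _) (key 120 _ BT0_chk a0) (key 462 _ BT1_chk a1) (key 5 _ BT2_chk a2)
    (key 183 _ BT3_chk a3) (key 387 _ BT4_chk a4) (key 0 _ BT5_chk a5)

theorem pw_step {g : G3} {L : ℕ} (h : ∀ j, j < 1024 → g * Φ j = Φ (lk L j)) (i k : ℕ) {r y : G3} {j : ℕ}
    (hr : j < 1024 ∧ r * y = Φ j) : sb i k L j < 1024 ∧ pw i k g * r * y = Φ (sb i k L j) := by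
  obtain ⟨hj, hr⟩ := hr
  rw [mul_assoc, hr]
  unfold pw sb
  cases Nat.land (Nat.shiftRight i k) 1 with
  | zero => exact ⟨hj, one_mul _⟩
  | succ n => exact ⟨lk_lt _ _, h j hj⟩

/-- The product of indices. -/
noncomputable def mulS (i j : ℕ) : ℕ := app10 L0 L1 L2 L3 L4 L5 L6 L7 L8 L9 i j

theorem Φ_mul' (i j : ℕ) (hj : j < 1024) : mulS i j < 1024 ∧ Φ i * Φ j = Φ (mulS i j) := by
  have h := pw_step (mul_Φ_of (of_chk xt9_chk) L9_chk) i 9 (r := 1) (y := Φ j) ⟨hj, one_mul _⟩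
  replace h := pw_step (mul_Φ_of (of_chk xt8_chk) L8_chk) i 8 h
  replace h := pw_step (mul_Φ_of (of_chk xt7_chk) L7_chk) i 7 h
  replace h := pw_step (mul_Φ_of (of_chk xt6_chk) L6_chk) i 6 h
  replace h := pw_step (mul_Φ_of (of_chk xt5_chk) L5_chk) i 5 h
  replace h := pw_step (mul_Φ_of (of_chk xt4_chk) L4_chk) i 4 h
  replace h := pw_step (mul_Φ_of (of_chk xt3_chk) L3_chk) i 3 h
  replace h := pw_step (mul_Φ_of (of_chk xt2_chk) L2_chk) i 2 h
  replace h := pw_step (mul_Φ_of (of_chk xt1_chk) L1_chk) i 1 h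
  replace h := pw_step (mul_Φ_of (of_chk xt0_chk) L0_chk) i 0 h
  exact h

theorem mulS_lt (i j : ℕ) (hj : j < 1024) : mulS i j < 1024 := (Φ_mul' i j hj).1

theorem Φ_mul (i j : ℕ) (hj : j < 1024) : Φ i * Φ j = Φ (mulS i j) := (Φ_mul' i j hj).2

theorem Φ_zero : Φ 0 = 1 := by
  have h : ∀ k (g : G3), k < 10 → pw 0 k g = 1 := by
    intro k g hk
    unfold pw
    have : Nat.land (Nat.shiftRight 0 k) 1 = 0 := by
      change (0 >>> k) &&& 1 = 0
      simp
    rw [this]
    rfl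
  unfold Φ
  rw [h _ _ (by norm_num), h _ _ (by norm_num), h _ _ (by norm_num), h _ _ (by norm_num), h _ _ (by norm_num),
    h _ _ (by norm_num), h _ _ (by norm_num), h _ _ (by norm_num), h _ _ (by norm_num), h _ _ (by norm_num)]
  simp

/-! ### Injectivity -/

/-- The indices ordered by the images of the first two base points. -/
def PI : ℕ := 0x3c47a3ec766952c6bd2f695a64b1213e87b3c07ebc7a19d2fb9db2ccafa6f074bd0a5db625cf1ed0a6783e3e1aa7b04c1612adfedfa2b78eb60db635519cd171cc358df51c5b509cb161c03454a3445efaeb1ad3e9dba33d92310f56e780b75ac3a2d1ee86e91a5708e0b8487f0b72cd170941368501614cf8eb9aef668f236f8760affe5f9632dbe38daabc5883f78cb92e0357996a384666fd3c6ec654c0ef6d9313a8601acec4d5b28f767db6b88ebe0f9eb46a0fe688fd48c774a47084f0ee3e95a6a19c138f279076358e050152510e5b5e12dde00d16b2e838f3f45d0bc496ed1b7a512610a040116090b62c92ab7f8a9ffd883778ab7ed8fe18ee34dbab4ae7e289f7dde227a83fdaabfff12d8d2e55f0b4eb465571cdc534dc17dc6159430c8b82fd6c799e90d562b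47cbf22d6d365797348600910689142c1262d0cda63cace31f9abbf9b6e2798f050974118d4141ea4615e3f82c1298c2e16e872bcba7ceaef49c6fe6788f03517451950108fc9722ea3a29e27dbdef22a0ac7cc267e42f5d57304d09424182418a6089ac378ca661385f80c1a9cc1e1be0a98a7611e1b06d47d2b22cbf764793352360da70c59141c352543c7b9fa2a04e67108168e3d0f06947f1e9a34a52c318cc759d71344557d5b4852d1c9a869c7c3d8f3b3246926c0f5f5dd6bd5774c73184c1195c57dd16ada24b4f73e12c1d87396656b72d0d2b47f37c214cda525c0524d814dcae3709a5f00e0e9c85a138a626ab2acddb7bfc7f962903601080649324815bc3a09ea7dc9f2fbebae03c8e47597654844500db0a46f475891ecbd73dfe97a2bcb28be3279f671bb3be9af36eeee1cd26d2cdea5a5e60c1672f0362e9ed0cd6c2dc307a56d0b0a708d762a9f95c1f33e4f76b5a21d1281f92d6e0633b9344c8676e4e8391bd4e46319d3e6c8e08feb8f976fd8be5aea3ede7f3fd37b88624abaa5b53cef274a9425fb4f462741c6309f41c1661509a8eacff22688776fef706608944d1a64c090088abc2f59fe77eb7a0cab2dc6b90e5f19a320680e82320c9129d074c4356556b1fdcb0e4df435992b5d5dd747f9f10ac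202a8a4354547354e37c57539c3b43c6966d7d2bcc9774d7ddfb284ae5d1700a82415145375c77394e17cd20a0232b1792997f7d5fce1e9bc2216e070da4a1210153324c810dda565d596adf95340b67ced0fc3e428aa3b19e560f8131de7287e4316a260ac4e03664896600322910448041f87f3e920494f36a5aefd3f9dc6aba8f748ba2f6310d2558641c9607012fe3f5abeafdd7708aa2ea0605e4b1b82314a3f9647d9c0348601c8c4559dec2eab833f99fb59ab38445900048a02c8246d9593b54d7e4ab27d3f42ce181336fce53a5ba4d0647544431d5d579df138c8d6e44b3fd2d57d193acee8ef9bd3ac9cf29c9a78bbfb5ecb32b9e6d9a3339e67cbd32eca7a6bcfaa20400205186499b02d1fd5248f4bd5d6ec1b3a414c9bc3b4686d8e71ad3f45c0c231962199d0151ce5e8da220bc471281b960a9705cdfc0b4a97dca3b93beee6ec98f39cda68790bf0f8b15943b589e17bcb8590325adee0d4be3bc606d0ea6cd351a53ebae6ccefb1edb31992ea99f30983bfb96edcebbb56c4274551128c0321de80682e6e8fc5714823916f4e24edb73b0684d862ed7389bf37b8a6dba3bb7495b305d856840104c5335d455dd413cce5784ece664cce6cb8fb9edaecc5e08a360be5b11e4a84f7bd9d56cfb2a43d4240a9625ffff8dcb7aabe227c5787d0ab5fc2e294252adf40bca17e17e0897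
/-- The inverse of `PI`. -/
def RO : ℕ := 0x53963732733a27442ec46de32df4e112d714fa88e4637441b7991cd929d6d103554f4e4810f71495a78d9c31adfff743927b2714a23c9e13f829dcb4d4ec5c0321f804d7e36a4c76628e12140abd6dd4bfbf079d5234d7a7b6577f373d9510bcc3533dafbc6fc84d8cc9d8bbd17b921dd20b0ee928ebc57653b5389887a76db7ef65ef570c5727d1f88d75ea5c7762ce021009bdede4d8ef5c4301e401d6e37cfbd566e6041db251ebecb7769e5801863b6be56b4441f8e2fdd3295849d880c9c2aaaf433bac8245ff560d9747ddfc8d35c65fb638d8c7b76bb72f19b04ec727685c924950ca14acf368a83607738a17179f8a3e187ae327d6792effaa3081b7e909eb73142b9919dbf64caf54634c8b6067ee69c4945aab3713a37cce0ff9291cd5b38f9c71dde7f442526a04adf2e8f82e06730a59a44ac6e73840934810d926f9aaf0d1b3e808eb57039c8a7e5872e526d65b8a1ad28b2ef92beb854fac6ec90decd1dbba1130187a0ffa71326e3e34102c8117fc72a2872e300fc77ae983dd457dd00faff382f145eec992c08b9ca3729e182182386ba57ce3d266262401b0506bf6dd05558f3e4011f6d4d8f06774c1a78118d8a9c80a0e692a51ce926eec125a15566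5d3a5344ea46ff787f045aec590c10bffcb7ce883ad4178d14fb77b303c9520a4c252fde4b7bb075d4224d1a6b613548c6127ce75c7955ab3182e99999bfa4eaf142246145625c3a9304f64780608682a01c2906f6c57f9f09695ce2d6b9093eda1eca8da5c46cab11b9479e52d74f102d4143ab04f9137f253222244ae988ccfc32acf533dacc25b4845f8a2bdcf2c5909c03487163c42ae832ef070087d0efa01266a3ff46db9efa99a6c56ceb0dbe7e5f69655be296e90d3ccf3d667a61409b3516bacbb759e98319a3a6b254b4043f822adc32b5989e884cac26a9f4f39ad8265fb540d1737c5fd8cf5d65bb3391897ab69b6ef39ac4bc7a75844904890aa08a9f228b82a05728a6707998b7e786ee72616392af8abf0b1abea08ab0304289959fbea4dae143340886167de6dc3941a9b2f12a33cee17fb289c95ab889cb18dfbf543d23a00aaf2a8e83e0373ca39a048c667484c974850b0579536b2333626456ed469e42cf4d11ad614bac8fc6275c1c7851dd8e986d50155cf7e5016f614a5a3899df1fde3f642124b2310a27cfe07fa281c84c8eb5d4371e007d6632a5071638e620808bc2d94bbbc07dd6238d4a6f60773333d5540b4c4523d9fb068c98ddcc5d9ba911b8618d2cb6ee129ea451657b039d8d7bb6fb6af2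5eb520d5767cdfa8c758a587463ce52180cbd2d84dce85dc331f005d6a30777363c5500a8c053fdd4abb9065d0228d2a7f663588f61e7fe79c6949a831c2c99d9cbf24faed402521656a583b5314fe458120c686a11ca916f2c67fdf59795de316d9053bda9eba91a2c5eccb1dba47de22d34c11ed5157aa04b9336f2233224452eb894cbc3eadf5f3fad020b4c42f922eddf2f5809903c80177c62ba842eb010007b0fba41366d3e742db1e8a9da7c5acfb01b87edf297d5fe396f90138922fbabb0e1afee086b170b988b3e6866e626962b821fd24b1ef52ceb456fb469c80d9cd5dabb91600c7f0f3a513e6f3fb4303883173c22be862f303fcf7de8c38d557cd1cfcffb86f005bedd93c14becab719ed861923e6b653cebd166a63411b1512b96d90654cf0e5c17f7d4e8f4657481879d19d9e998020968ea21d6956fec22561257a5b3b9334e644fff80f0c59ed191c18bdfc37be8439d4d79d10fd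

/-- The images of the first two base points. -/
noncomputable def key (i : ℕ) : ℕ := Nat.add (Nat.mul (lk BT0 i) 1024) (lk BT1 i)

theorem PI_chk : allB (fun a => Nat.ble (Nat.succ (fr (lk PI a) key)) (fr (lk PI (Nat.succ a)) key)) 1023 = true := by
  decide +kernel

theorem RO_chk : allB (fun i => Nat.beq (lk PI (lk RO i)) i) 1024 = true := by decide +kernel

theorem key_lt : ∀ {a b : ℕ}, a < b → b < 1024 → key (lk PI a) < key (lk PI b) := by
  intro a b hab
  induction b with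
  | zero => exact absurd hab (Nat.not_lt_zero a)
  | succ b ih =>
    intro hb
    have h1 := allB_spec PI_chk b (by omega)
    rw [fr_eq, fr_eq] at h1
    have h2 : key (lk PI b) < key (lk PI (b + 1)) := Nat.le_of_ble_eq_true h1
    rcases Nat.lt_succ_iff_lt_or_eq.1 hab with h | h
    · exact (ih h (by omega)).trans h2
    · rw [h]; exact h2

theorem Φ_inj {i j : ℕ} (hi : i < 1024) (hj : j < 1024) (h : Φ i = Φ j) : i = j := by
  have h1 : key i = key j := by
    have e0 := base_val (b := 120) BT0_chk hi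
    have e0' := base_val (b := 120) BT0_chk hj
    have e1 := base_val (b := 462) BT1_chk hi
    have e1' := base_val (b := 462) BT1_chk hj
    unfold key
    rw [← e0, ← e0', ← e1, ← e1', h]
  have hi' : lk PI (lk RO i) = i := Nat.eq_of_beq_eq_true (allB_spec RO_chk i hi)
  have hj' : lk PI (lk RO j) = j := Nat.eq_of_beq_eq_true (allB_spec RO_chk j hj)
  rcases lt_trichotomy (lk RO i) (lk RO j) with h2 | h2 | h2
  · have h3 := key_lt h2 (lk_lt _ _)
    rw [hi', hj', h1] at h3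
    exact absurd h3 (lt_irrefl _)
  · rw [← hi', ← hj', h2]
  · have h3 := key_lt h2 (lk_lt _ _)
    rw [hi', hj', h1] at h3
    exact absurd h3 (lt_irrefl _)

end Cfsg.Agent.CoThreeStd.SylData
end

-- part: CoThreeStd/SylTabs
section
/-!
# A Sylow 2-subgroup of `G3`: conjugacy classes and the tables behind the facts

Kernel checks on the index model `mulS` of the Sylow 2-subgroup; `HInst.lean` turns them into `HFacts.Facts G3`.
-/

set_option autoImplicit false
set_option maxRecDepth 20000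

namespace Cfsg.Agent.CoThreeStd.SylTabs

open Cfsg.Agent.SporadicStructure.PermChain Cfsg.Agent.LeechPack.X552 Cfsg.Agent.CoThreeStd.Gens
  Cfsg.Agent.CoThreeStd.Model Cfsg.Agent.CoThreeStd.SylData

/-- Boolean implication. -/
noncomputable def imp (a b : Bool) : Bool := Bool.rec (motive := fun _ => Bool) true b a

theorem imp_spec {a b : Bool} (h : imp a b = true) (ha : a = true) : b = true := by
  rw [ha] at h; exact h

/-- Boolean conjunction, lazy. -/
noncomputable def an (a b : Bool) : Bool := Bool.rec (motive := fun _ => Bool) false b a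

theorem an_spec {a b : Bool} (h : an a b = true) : a = true ∧ b = true := by
  cases a with
  | false => exact absurd (show false = true from h) Bool.false_ne_true
  | true => exact ⟨rfl, h⟩

theorem an_intro {a b : Bool} (ha : a = true) (hb : b = true) : an a b = true := by
  rw [ha]; exact hb

/-- Boolean disjunction, lazy. -/
noncomputable def or2 (a b : Bool) : Bool := Bool.rec (motive := fun _ => Bool) b true a

theorem or2_spec {a b : Bool} (h : or2 a b = true) : a = true ∨ b = true := by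
  cases a with
  | false => exact Or.inr h
  | true => exact Or.inl rfl

/-- Boolean negation. -/
noncomputable def nt (a : Bool) : Bool := Bool.rec (motive := fun _ => Bool) true false a

theorem nt_spec {a : Bool} (h : nt a = true) : a = false := by
  cases a with
  | false => rfl
  | true => exact absurd (show false = true from h) Bool.false_ne_true

theorem nt_intro {a : Bool} (h : a = false) : nt a = true := by rw [h]; rfl

/-- some element of the list satisfies `p` -/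
noncomputable def exL {α : Type} (p : α → Bool) (l : List α) : Bool :=
  List.rec (motive := fun _ => Bool) false (fun a _ ih => or2 (p a) ih) l

theorem exL_spec {α : Type} {p : α → Bool} : ∀ {l : List α}, exL p l = true → ∃ a ∈ l, p a = true
  | [], h => absurd (show false = true from h) Bool.false_ne_true
  | a :: l, h => by
    rcases or2_spec (show or2 (p a) (exL p l) = true from h) with h1 | h1
    · exact ⟨a, List.mem_cons_self, h1⟩
    · obtain ⟨b, hb, h2⟩ := exL_spec h1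
      exact ⟨b, List.mem_cons_of_mem _ hb, h2⟩

/-- all elements of the list satisfy `p` -/
noncomputable def faL {α : Type} (p : α → Bool) (l : List α) : Bool :=
  List.rec (motive := fun _ => Bool) true (fun a _ ih => an (p a) ih) l

theorem faL_spec {α : Type} {p : α → Bool} : ∀ {l : List α}, faL p l = true → ∀ a ∈ l, p a = true
  | [], _, a, ha => absurd ha List.not_mem_nil
  | b :: l, h, a, ha => by
    obtain ⟨h1, h2⟩ := an_spec (show an (p b) (faL p l) = true from h)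
    rcases List.mem_cons.1 ha with rfl | h3
    · exact h1
    · exact faL_spec h2 a h3

/-! ### Basic tables -/

/-- Squares. -/
def SQ : ℕ := 0xd92a0e01c0a916010000f902000040091e07038091200703009100030000d110030000d130070300292a0900c01906020000c9120b0040791e0802806120080200a110000000e1000000002130080200d90a0601c0a9360900007902000240891e07018091000f030091200b000051100302005130070100290a0100c019260a000049120b0240f91e0800806100000200a1300800006100000200a130080000993a0603c06926010000b912080240c92e070380d1300f0100513003000091000b02001100070300693a0102c0d9360200008902030240b92e08028021300000006120000000a110080200e100080200991a0e03c069060900003912080040492e070180d11007010051100b000011000b00009100070100691a0902c0d9160a00000902030040392e0800802110080000610008000021100800006100080000592a0601c029160900007902080040891e0f038011200f030011000b000051100b000051300f0300a92a0100c099060a00004912030040f91e000280e12000020021100800006100080000a130000200590a0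e01c02936010000f902080240091e0f018011000703001120030000d1100b0200d1300f0100a90a0900c09926020000c912030240791e000080e1000802002130000000e1000802002130000000193a0e03c0e9260900003912000240492e0f03805130070100d1300b0000110003020091000f0300e93a0902c059360a000009020b0240392e000280a130080000e12008000021100002006100000200191a0603c0e906010000b912000040c92e0f018051100f0100d110030000910003000011000f0100e91a0102c0591602000089020b0040b92e000080a110000000e100000000a110000000e100000000d92a0e01c0a916010000f902000040091e07038091200703009100030000d110030000d130070300292a0900c01906020000c9120b0040791e0802806120080200a110000000e1000000002130080200d90a0601c0a9360900007902000240891e07018091000f030091200b000051100302005130070100290a0100c019260a000049120b0240f91e0800806100000200a1300800006100000200a130080000993a0603c06926010000b912080240c92e070380d1300f0100513003000091000b02001100070300693a0102c0d9360200008902030240b92e08028021300000006120000000a110080200e100080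200991a0e03c069060900003912080040492e070180d11007010051100b000011000b00009100070100691a0902c0d9160a00000902030040392e0800802110080000610008000021100800006100080000592a0601c029160900007902080040891e0f038011200f030011000b000051100b000051300f0300a92a0100c099060a00004912030040f91e000280e12000020021100800006100080000a130000200590a0e01c02936010000f902080240091e0f018011000703001120030000d1100b0200d1300f0100a90a0900c09926020000c912030240791e000080e1000802002130000000e1000802002130000000193a0e03c0e9260900003912000240492e0f03805130070100d1300b0000110003020091000f0300e93a0902c059360a000009020b0240392e000280a130080000e12008000021100002006100000200191a0603c0e906010000b912000040c92e0f018051100f0100d110030000910003000011000f0100e91a0102c0591602000089020b0040b92e000080a110000000e100000000a110000000e100000000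
theorem SQ_chk : allB (fun i => Nat.beq (mulS i i) (lk SQ i)) 1024 = true := by decide +kernel

/-- Representatives of the classes. -/
def RH : ℕ := 0x6c3a0643c06c3a0e41804c120441404c120545002c4a0b42c03c0a0a42801c460842400c06084e006c3a0e43c06c3a0641804c120541404c122d4b003c4a1258c02c2a0244801c220040400c46214c006c3a0643c06c1a0e41804c120441404c120545003c0a0a42c02c4a0b42800c060846401c460846006c3a0e43c06c1a0641804c120541404c122d4b002c0a0258c03c0e1240800c020044401c062148006c1a0641c06c3a0741804c122d41404c12054b003c2a0a42c02c6a0b42800c220846401c020846006c1a0e43c06c1a0641804c120541404c122d4b002c2a0240c03c4a0344800c462144401c222154006c3a0641c06c3a0741804c122d41404c12054b002c6a0b42c03c2a0a42801c020842400c22084e006c3a0e43c06c1a0641804c120541404c122d4b003c6a1240c02c0a1340801c062140400c022150006c3a0641c06c1a0741804c122d41404c12054b002c4a0b42c03c0a0a42801c460842400c060842006c3a0741c06c1a0641804c120541404c120445003c4a0348c02c2a1344801c222140400c46004c00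6c3a0641c06c3a0741804c122d41404c12054b003c0a0a42c02c4a0b42800c060846401c460846006c3a0741c06c3a0641804c120541404c120445002c0a1348c03c6a0340800c022144401c060048006c1a0643c06c1a0e41804c120441404c120541003c2a0a42c02c0e0b42800c220846401c020846006c1a0741c06c3a0641804c120541404c120441002c2a1340c03c4a1244800c460044401c220044006c3a0643c06c1a0e41804c120441404c120545002c6a0b42c03c2a0a42801c020842400c22084e006c3a0741c06c3a0641804c120541404c120445003c6a0340c02c0a0240801c060040400c020060006c1a0643c06c1a0e41804c120441404c120541002c4a0b42c03c0a0a42801c460842400c060842006c1a0e43c06c1a0641804c120541404c122d4b003c4a1258c02c2a0244801c220040400c46214c006c1a0643c06c3a0e41804c120441404c120541003c0a0a42c02c4a0b42800c060846401c460846006c1a0e43c06c3a0641804c120541404c122d4b002c0a0258c03c6a1240800c020044401c062148006c3a0641c06c1a0741804c122d41404c12054b003c2a0a42c02c0e0b42800c220846401c020846006c3a0e43c06c3a0641804c120541404c122d4b002c2a0240c03c4a0344800c462144401c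222154006c1a0641c06c1a0741804c122d41404c12054b002c0e0b42c03c2a0a42801c020842400c220842006c1a0e43c06c3a0641804c120541404c122d4b003c0e1240c02c0a1340801c062140400c022150006c1a0641c06c3a0741804c122d41404c12054b002c4a0b42c03c0a0a42801c460842400c06084e006c1a0741c06c3a0641804c120541404c120441003c4a0348c02c2a1344801c222140400c46004c006c1a0641c06c1a0741804c122d41404c12054b003c0a0a42c02c4a0b42800c060846401c460846006c1a0741c06c1a0641804c120541404c120441002c0a1348c03c0e0340800c022144401c060048006c3a0643c06c3a0e41804c120441404c120545003c2a0a42c02c6a0b42800c220846401c020846006c3a0741c06c1a0641804c120541404c120445002c2a1340c03c4a1244800c460044401c220044006c1a0643c06c3a0e41804c120441404c120541002c0e0b42c03c2a0a42801c020842400c220842006c1a0741c06c1a0641804c120541404c120441003c0e0340c02c0a0240801c060040400c0200400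
/-- Conjugating elements. -/
def CO : ℕ := 0x8012084410c84080430084b1091740c4a098069c8910500304814080219cc12068030503149004184112098708010080640481308030410440298f4900100c110801008273080910481249009088031467341c1435186084464a85104812070d408c0365c15028157cc90408d405672028090c413350091240300d8622012096e142449096e1220880180310403008010040108672404030081200401048023542365c021400c40c22e2883010026602210c049cc0120c981400201cd59c8014880844450354024a673028020300c08425ba48d084250300c1080a4881108a724888008821b840208002084900c802018050898741c80018d6018590158708c9c0180514401210440c480084424401304c842e080110031040b08a72200804906040441490a02008000c0b61c11089872008008ae161c429c1872008000801208210584326010008122081d004830409800801dd8110040104410004010c018048010401100401b8491040442108441044084451101021084110014a02104012090120081109011050104a005b84010381304d860501201cd703b67102724e0149c80d35013008919cc1201a72354d4008019c811140019c8232044112186404417eae9104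814204810404014050800200812018d4014050101100821350041280300c0124002004024280300c2206002048029c02108a722609100c11dd88102c02246720440604813014059cc02014050340d014054a02c01405b8491004914a40200401084084880108a729c001218254184048cd4401c7088d9419a73525c4880205409200400c8824004065c1565c803d04010001094d520040100d4400409cae110080400401000510091200401008440040400400c88040040100001080b0080400c0a010034080b0082300c0a04c030c4150140524498014056dc14058052609101405084250080a010044802421485180240100461c0209009008104a098492724a01965d9709001488020458761c0863c08020062641161c2663c2648c0605091018130d014008122441201803bc891050050240920c063200649421024090c0210b0284180e0040161c0010410080300040161c304044165d870c42969c420408200c1322895024822601000c090d00300c140401161c15dc80300c0404410054040a58761c424a0824a0342689b4a2e54304c009870841304812088044882009404090204a4129c800088910481201c14419a741819020070500e418080441001004dd80201002040119c8040d0020100200401018033001409020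0040109020490209c80601002048020100448820010020c0020100461c00e08d509803e0c0440823e088b040034402a1080c2c41908041354d4404417cc1014881350d50800001405010042800a01004014050100408024010040800508010490d400c10490130409108003080002440708c060c00661d9706491000062700661c0004011208110c0100281004410108102c41904003224290040102008004012248900401020080040120421040000140300810204810001001403040000280920c10340d6404420284310cd64604269d870c00961c1005000488517e80961c00048140c000148070841065cd6414144a41b040910a08c08400494190001008400000004880008800b84100c000618110180061c0000187044990181361c1c0898724412000009c800000000509145c000c00000000204210000000000000002048100000000000000000000000000000000000000009c8000000000000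
/-- `Φ (RH i) * Φ (CO i) = Φ (CO i) * Φ i` -/
theorem RH_chk : allB (fun i => fr (lk RH i) fun r => fr (lk CO i) fun c => Nat.beq (mulS r c) (mulS c i)) 1024
    = true := by decide +kernel

/-- The indices commute. -/
noncomputable def com (i j : ℕ) : Bool := Nat.beq (mulS i j) (mulS j i)

/-- The involutions conjugate to `t`. -/
def DM : ℕ := 0x100050001000270010041000100612001000140010032040100010401001510010005000100205201004100010043020100014001001026010001040100373201000500010002700100410001006120010001400100320401000104010015100100050001002052010041000100430201000140010010260100010401003732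
/-- The other involutions. -/
def NM : ℕ := 0x20001000000100002000000000004100000004000001000000005000000005000000100002010000000000000200410020000400020100002000500002000500200010000001000020000000000041000000040000010000000050000000050000001000020100000000000002004100200004000201000020005000020004

theorem inv_chk : allB (fun i => imp (Nat.beq (lk SQ i) 0) (or2 (Nat.beq i 0) (or2 (tb DM i) (tb NM i)))) 1024
    = true := by decide +kernel

theorem NM_sq_chk : allB (fun i => imp (tb NM i) (an (Nat.beq (lk SQ i) 0) (nt (Nat.beq i 0)))) 1024 = true := by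
  decide +kernel

/-- `t` fixes no vector. -/
theorem t_free_chk : allB (fun x => nt (Nat.beq (appX 8 x) x)) 552 = true := by decide +kernel

/-- `v` fixes a vector. -/
theorem v_fix_chk : Nat.beq (appX 512 21) 21 = true := by decide +kernel

/-- `Φ i * wd w = wd w * Φ j`, checked on the six base points. -/
noncomputable def cjc (i : ℕ) (w : List ℕ) (j : ℕ) : Bool :=
  faL (fun b => Nat.beq (fr (evW w b) (appX i)) (evW w (appX j b))) [120, 462, 5, 183, 387, 0]

/-- Words conjugating the representatives in `DM` to `t`. -/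
def DL : List (ℕ × List ℕ) := [(1, [7,6,3,6,3,2,6,4,3,6,3,2,5,4,6,4,5,7]), (4, [7,7]), (8, []), (9, [3,4,5,4,6,4,3,5,1,3,2,6,4,3,6,3,2,5,4,6,4,5,7]), (10, [2,5,4,6,4,5,3,1,6,3,6,7,7,2,5,4,6,4,5,7]), (12, [7]), (13, [6,3,6,3,2,6,4,3,6,3,2,5,4,6,4,5,7]), (24, [3,4,5,4,6,4,3,5,6,3,6,0,7,3,2,6,4,3,6,3,2,5,4,6,4,5,7,7]), (34, [2,5,4,6,4,5,7,7,3,6,3,6,7,7,2,5,4,6,4,5,7]), (40, [7,2,5,4,6,4,5,3,1,6,3,6,7,7,2,5,4,6,4,5,7])]
/-- Words conjugating the representatives in `NM` to `v`. -/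
def NL : List (ℕ × List ℕ) := [(2, [3,6,1,4,6]), (17, [1,6,4,6,7,6,4,6]), (36, [3,7,5,6,4,6]), (72, [5,7,7,6,4,6]), (128, [5,6,4,6]), (256, [3]), (512, [])]

theorem DL_chk : faL (fun e => an (Nat.ble (Nat.succ e.1) 1024) (cjc e.1 e.2 8)) DL = true := by decide +kernel
theorem NL_chk : faL (fun e => an (Nat.ble (Nat.succ e.1) 1024) (cjc e.1 e.2 512)) NL = true := by decide +kernel
theorem DM_chk : allB (fun i => imp (tb DM i) (exL (fun e => Nat.beq e.1 (lk RH i)) DL)) 1024 = true := by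
  decide +kernel
theorem NM_chk : allB (fun i => imp (tb NM i) (exL (fun e => Nat.beq e.1 (lk RH i)) NL)) 1024 = true := by
  decide +kernel

/-- `v` is central, products with `v`. -/
theorem Fc_chk : allB (fun i => an (com 512 i) (imp (tb NM i) (or2 (Nat.beq i 512) (tb NM (mulS 512 i))))) 1024
    = true := by decide +kernel

/-- Words centralising `v` and conjugating the representatives in `NM` (not `v`) to `w`. -/
def F1L : List (ℕ × List ℕ) := [(2, [4,3,4,5,4,6,4,3,5,6,3,6,3,2,4,3,6,3,6,7,3,2,5,4,6,4,3,5,7,7,1,6,3,6,3,2,4,3,5,3,4,6,4,5,4,3,5,6,4,3,6,3,7,7,5,4,6,4,5,7,7,4,7,7,3,6,1,4,6]), (17, [3,4,5,4,6,4,3,5,1,3,2,4,3,6,3,6,3,7,7,5,4,6,4,5,7,7,4,7,7,3,6,1,4,6,7,7,6,3,6,3,4,2,3,6,3,6]), (36, [1,2,5,4,6,4,5,7,7,6,3,6,5,3,4,6,4,5,4,3,5,6,4,3,6,3,7,7,5,4,6,4,5,7,7,4,7,7,3,6,1,4,6]), (72, [4,7,7,6,3,6,3,4,2,3,6,3,6]), (128, [6,3,6,3,4,2,3,6,3,6]), (256, [])]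

theorem F1L_chk : faL (fun e => an (Nat.ble (Nat.succ e.1) 1024) (an (cjc 512 e.2 512) (cjc e.1 e.2 256))) F1L
    = true := by decide +kernel
theorem F1_chk : allB (fun i => imp (tb NM i) (or2 (Nat.beq i 512) (exL (fun e => Nat.beq e.1 (lk RH i)) F1L))) 1024
    = true := by decide +kernel

/-- Representatives `c` in `C_S(W) - W` with words conjugating `v, w, c` to `Y3`. -/
def F2L : List (ℕ × List ℕ × ℕ × ℕ × ℕ) := [(2, [3], 256, 512, 640), (36, [3,7], 256, 512, 128), (72, [7,7], 512, 256, 640), (128, [], 512, 256, 128)]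

/-- `i < 1024` is a multiple of `n`. -/
noncomputable def mul0 (n i : ℕ) : Bool := an (Nat.ble (Nat.succ i) 1024) (Nat.beq (Nat.mod i n) 0)

theorem F2L_chk : faL (fun e => an (Nat.ble (Nat.succ e.1) 1024) (an (cjc 512 e.2.1 e.2.2.1)
    (an (cjc 256 e.2.1 e.2.2.2.1) (an (cjc e.1 e.2.1 e.2.2.2.2)
    (an (mul0 128 e.2.2.1) (an (mul0 128 e.2.2.2.1) (mul0 128 e.2.2.2.2))))))) F2L = true := by decide +kernel
theorem F2_chk : allB (fun i => imp (tb NM i) (imp (Nat.beq (Nat.mod i 2) 0) (imp (nt (Nat.beq (Nat.mod i 256) 0))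
    (exL (fun e => Nat.beq e.1 (lk RH i)) F2L)))) 1024 = true := by decide +kernel

/-- `C_S(W)` consists of the even indices, `C_S(Y3)` of the multiples of 8. -/
theorem even_chk : allB (fun i => an (imp (com i 256) (Nat.beq (Nat.mod i 2) 0))
    (an (imp (Nat.beq (Nat.mod i 2) 0) (com i 256))
    (an (imp (Nat.beq (Nat.mod i 8) 0) (com i 128))
    (imp (an (com i 256) (com i 128)) (Nat.beq (Nat.mod i 8) 0))))) 1024 = true := by decide +kernel

/-! ### Elements of order 4 -/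

/-- representatives `r` of order 4 with `a` in `DM`, `b` in `NM` commuting with `r` -/
def FDL : List (ℕ × ℕ × ℕ) := [(6, 8, 512), (14, 8, 512), (16, 9, 256), (25, 9, 512), (32, 10, 128), (42, 4, 512), (44, 12, 2), (64, 4, 128), (68, 4, 256), (70, 104, 512), (73, 4, 128), (74, 10, 256), (77, 4, 384), (80, 9, 128), (96, 10, 128), (100, 168, 256), (106, 4, 256), (133, 1, 384), (140, 1, 256), (181, 56, 17), (192, 5, 128), (224, 12, 2), (320, 1, 128), (396, 8, 256)]
/-- the other representatives, conjugate to elements of the classes in `FDL` -/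
def BDL : List (ℕ × List ℕ × ℕ) := [(176, [3,4,2,3,5,4,6,4,5,2,1,5,3,4,6,4,5,4,3,4,5,6,4,3,6,3,2,4,3,6,3,6], 586), (19, [4,3,7,5,6,4,6,1,6,4,1,6,3,7,4,7,5,4,6,4,5,7,3,6,3,6,7,7], 821)]

theorem FDL_chk : faL (fun e => an (mul0 1 e.1) (an (mul0 1 e.2.1) (an (mul0 1 e.2.2)
    (an (tb DM e.2.1) (an (com e.2.1 e.1) (an (tb NM e.2.2) (an (com e.2.2 e.1)
    (an (nt (Nat.beq e.2.2 (lk SQ e.1))) (tb NM (lk SQ e.1)))))))))) FDL = true := by decide +kernel
theorem BDL_chk : faL (fun e => an (mul0 1 e.1) (an (mul0 1 e.2.2) (an (cjc e.1 e.2.1 e.2.2)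
    (exL (fun f => Nat.beq f.1 (lk RH e.2.2)) FDL)))) BDL = true := by decide +kernel
theorem FD_chk : allB (fun i => imp (an (nt (Nat.beq (lk SQ i) 0)) (Nat.beq (lk SQ (lk SQ i)) 0))
    (or2 (exL (fun f => Nat.beq f.1 (lk RH i)) FDL) (exL (fun f => Nat.beq f.1 (lk RH i)) BDL))) 1024 = true := by
  decide +kernel

/-! ### Elements of `C_S(W)` with square in `W` -/

/-- representatives with commuting `a` in `DM`, `b` in `NM`, in `C_S(W)` -/
def GBL : List (ℕ × ℕ × ℕ) := [(6, 8, 38), (14, 8, 36), (32, 10, 128), (42, 4, 36), (44, 12, 2), (64, 4, 128), (68, 4, 200), (70, 104, 72), (74, 10, 134), (96, 10, 128), (100, 168, 36), (106, 4, 36), (140, 8, 38), (192, 12, 128), (224, 12, 2), (320, 4, 128), (396, 8, 38)]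

theorem GBL_chk : faL (fun e => an (mul0 2 e.1) (an (mul0 2 e.2.1) (an (mul0 2 e.2.2)
    (an (tb DM e.2.1) (an (com e.2.1 e.1) (an (tb NM e.2.2) (an (com e.2.2 e.1)
    (nt (Nat.beq (Nat.mod e.2.2 256) 0))))))))) GBL = true := by decide +kernel

/-- `i` is in `C_S(W)`, its square is in `W - 1`. -/
noncomputable def isG (i : ℕ) : Bool :=
  an (Nat.beq (Nat.mod i 2) 0) (fr (lk SQ i) fun s => an (nt (Nat.beq s 0)) (Nat.beq (Nat.mod s 256) 0))

theorem GB_chk : allB (fun i => imp (isG i) (exL (fun e => Nat.beq e.1 (lk RH i)) GBL)) 1024 = true := by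
  decide +kernel

/-- pairs `(a, b)` and involutions for each representative -/
def GCL : List (ℕ × List (ℕ × ℕ) × List ℕ) := [
  (6, [(8, 38)], [8,38,40,264,294,296,520,550,552,776,806,808]),
  (14, [(8, 72), (8, 98), (34, 72), (34, 98), (168, 36), (196, 36)], [8,34,36,72,98,168,174,196,232,264,290,292,328,354,424,430,452,488,520,546,548,584,610,680,686,708,744,776,802,804,840,866,936,942,964,1000]),
  (32, [(10, 128), (12, 128), (10, 134), (12, 134), (76, 38), (102, 38)], [10,12,38,76,102,128,134,198,234,266,268,294,332,358,384,390,454,490,522,524,550,588,614,640,646,710,746,778,780,806,844,870,896,902,966,1002]),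
  (42, [(4, 36)], [4,10,36,260,266,292,516,522,548,772,778,804]),
  (44, [(12, 2)], [2,12,34,258,268,290,514,524,546,770,780,802]),
  (64, [(4, 36), (10, 128), (4, 228), (142, 128), (196, 36), (196, 228)], [4,10,36,128,142,174,196,228,234,260,266,292,384,398,430,452,484,490,516,522,548,640,654,686,708,740,746,772,778,804,896,910,942,964,996,1002]),
  (68, [(4, 200)], [4,136,200,260,392,456,516,648,712,772,904,968]),
  (70, [(104, 72)], [72,102,104,328,358,360,584,614,616,840,870,872]),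
  (74, [(10, 134)], [10,134,198,266,390,454,522,646,710,778,902,966]),
  (96, [(10, 128)], [10,128,234,266,384,490,522,640,746,778,896,1002]),
  (100, [(168, 36)], [36,168,232,292,424,488,548,680,744,804,936,1000]),
  (106, [(4, 36), (4, 200), (10, 134), (136, 134), (168, 36), (198, 200)], [4,10,36,134,136,168,198,200,232,260,266,292,390,392,424,454,456,488,516,522,548,646,648,680,710,712,744,772,778,804,902,904,936,966,968,1000]),
  (140, [(8, 38), (8, 98), (40, 200), (66, 98), (76, 38), (198, 200)], [8,38,40,66,76,98,198,200,232,264,294,296,322,332,354,454,456,488,520,550,552,578,588,610,710,712,744,776,806,808,834,844,866,966,968,1000]),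
  (192, [(12, 128)], [12,76,128,268,332,384,524,588,640,780,844,896]),
  (224, [(12, 2), (12, 128), (66, 2), (34, 98), (66, 98), (142, 128)], [2,12,34,66,76,98,128,142,174,258,268,290,322,332,354,384,398,430,514,524,546,578,588,610,640,654,686,770,780,802,834,844,866,896,910,942]),
  (320, [(4, 36), (10, 128), (4, 228), (142, 128), (196, 36), (196, 228)], [4,10,36,128,142,174,196,228,234,260,266,292,384,398,430,452,484,490,516,522,548,640,654,686,708,740,746,772,778,804,896,910,942,964,996,1002]),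
  (396, [(8, 38), (8, 98), (40, 200), (66, 98), (76, 38), (198, 200)], [8,38,40,66,76,98,198,200,232,264,294,296,322,332,354,454,456,488,520,550,552,578,588,610,710,712,744,776,806,808,834,844,866,966,968,1000])]

/-- the pairs are correct -/
noncomputable def gc1 (r : ℕ) (P : List (ℕ × ℕ)) : Bool :=
  faL (fun e => an (mul0 2 e.1) (an (mul0 2 e.2) (an (tb DM e.1) (an (com e.1 r) (an (tb NM e.2) (an (com e.2 r)
    (nt (Nat.beq (Nat.mod e.2 256) 0)))))))) P

/-- the list of involutions is complete -/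
noncomputable def gc2 (r : ℕ) (I : List ℕ) : Bool :=
  allB (fun k => imp (Nat.beq (lk SQ k) 0) (imp (Nat.beq (Nat.mod k 2) 0) (imp (nt (Nat.beq (Nat.mod k 256) 0))
    (imp (com k r) (exL (fun e => Nat.beq e k) I))))) 1024

/-- the second element -/
noncomputable def gc3 (r : ℕ) (P : List (ℕ × ℕ)) (I : List ℕ) : Bool :=
  allB (fun j => imp (isG j) (imp (nt (Nat.beq (lk SQ j) (lk SQ r))) (imp (com r j)
    (or2 (exL (fun e => an (com e.1 j) (com e.2 j)) P)
      (faL (fun k => nt (Nat.beq (lk SQ (mulS k j)) 0)) I))))) 1024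

theorem GCL_chk1 : faL (fun e => an (mul0 2 e.1) (gc1 e.1 e.2.1)) GCL = true := by decide +kernel
theorem GCL_chk2 : faL (fun e => gc2 e.1 e.2.2) GCL = true := by decide +kernel
theorem GCL_chk3 : faL (fun e => gc3 e.1 e.2.1 e.2.2) GCL = true := by decide +kernel
theorem GC_chk : allB (fun i => imp (isG i) (exL (fun e => Nat.beq e.1 (lk RH i)) GCL)) 1024 = true := by
  decide +kernel

/-! ### The subgroups `W`, `Y3`, `K3` -/

/-- the multiples of `n` are closed under multiplication -/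
noncomputable def clo (n c : ℕ) : Bool :=
  allB (fun a => allB (fun b => Nat.beq (Nat.mod (mulS (Nat.mul n a) (Nat.mul n b)) n) 0) c) c

theorem clo_W : clo 256 4 = true := by decide +kernel
theorem clo_Y3 : clo 128 8 = true := by decide +kernel
theorem clo_K3 : clo 16 64 = true := by decide +kernel

/-- the element with left multiplication table `L`, index `x` and inverse `y` normalises the multiples of `n` -/
noncomputable def nor (n c L x y : ℕ) : Bool :=
  an (Nat.beq (mulS x y) 0) (allB (fun a => Nat.beq (Nat.mod (mulS (lk L (Nat.mul n a)) y) n) 0) c)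

theorem nor_W_0 : nor 256 4 L0 1 1 = true := by decide +kernel
theorem nor_W_1 : nor 256 4 L1 2 2 = true := by decide +kernel
theorem nor_W_2 : nor 256 4 L2 4 4 = true := by decide +kernel
theorem nor_W_3 : nor 256 4 L3 8 8 = true := by decide +kernel
theorem nor_W_4 : nor 256 4 L4 16 144 = true := by decide +kernel
theorem nor_W_5 : nor 256 4 L5 32 288 = true := by decide +kernel
theorem nor_W_6 : nor 256 4 L6 64 576 = true := by decide +kernel
theorem nor_W_7 : nor 256 4 L7 128 128 = true := by decide +kernel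
theorem nor_W_8 : nor 256 4 L8 256 256 = true := by decide +kernel
theorem nor_W_9 : nor 256 4 L9 512 512 = true := by decide +kernel
theorem nor_Y3_0 : nor 128 8 L0 1 1 = true := by decide +kernel
theorem nor_Y3_1 : nor 128 8 L1 2 2 = true := by decide +kernel
theorem nor_Y3_2 : nor 128 8 L2 4 4 = true := by decide +kernel
theorem nor_Y3_3 : nor 128 8 L3 8 8 = true := by decide +kernel
theorem nor_Y3_4 : nor 128 8 L4 16 144 = true := by decide +kernel
theorem nor_Y3_5 : nor 128 8 L5 32 288 = true := by decide +kernel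
theorem nor_Y3_6 : nor 128 8 L6 64 576 = true := by decide +kernel
theorem nor_Y3_7 : nor 128 8 L7 128 128 = true := by decide +kernel
theorem nor_Y3_8 : nor 128 8 L8 256 256 = true := by decide +kernel
theorem nor_Y3_9 : nor 128 8 L9 512 512 = true := by decide +kernel
theorem nor_K3_0 : nor 16 64 L0 1 1 = true := by decide +kernel
theorem nor_K3_1 : nor 16 64 L1 2 2 = true := by decide +kernel
theorem nor_K3_2 : nor 16 64 L2 4 4 = true := by decide +kernel
theorem nor_K3_3 : nor 16 64 L3 8 8 = true := by decide +kernel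
theorem nor_K3_4 : nor 16 64 L4 16 144 = true := by decide +kernel
theorem nor_K3_5 : nor 16 64 L5 32 288 = true := by decide +kernel
theorem nor_K3_6 : nor 16 64 L6 64 576 = true := by decide +kernel
theorem nor_K3_7 : nor 16 64 L7 128 128 = true := by decide +kernel
theorem nor_K3_8 : nor 16 64 L8 256 256 = true := by decide +kernel
theorem nor_K3_9 : nor 16 64 L9 512 512 = true := by decide +kernel

theorem W_chk : an (Nat.beq (mulS 512 256) 768) (an (Nat.beq (mulS 256 512) 768) (an (Nat.beq (mulS 512 128) (mulS 128 512))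
    (Nat.beq (mulS 256 128) (mulS 128 256)))) = true := by decide +kernel
theorem Y3_chk : allB (fun a => fr (Nat.mul 128 a) fun i => an (or2 (Nat.beq (Nat.mod i 256) 0)
    (Nat.beq (Nat.mod (mulS 128 i) 256) 0)) (or2 (Nat.beq i 0) (tb NM i))) 8 = true := by decide +kernel
theorem Y3_comm_chk : allB (fun a => allB (fun b => com (Nat.mul 128 a) (Nat.mul 128 b)) 8) 8 = true := by
  decide +kernel
theorem K3_comm_chk : allB (fun a => allB (fun b => com (Nat.mul 16 a) (Nat.mul 16 b)) 64) 64 = true := by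
  decide +kernel
theorem K3_chk : allB (fun a => fr (Nat.mul 16 a) fun i => an (Nat.beq (Nat.mod (lk SQ i) 128) 0)
    (an (imp (Nat.beq (lk SQ i) 0) (Nat.beq (Nat.mod i 128) 0)) (Nat.beq (lk SQ (mulS 8 i)) 0))) 64 = true := by
  decide +kernel
theorem P3_chk : allB (fun a => fr (Nat.mul 8 a) fun i => an (Nat.beq (Nat.mod (lk SQ i) 128) 0)
    (or2 (Nat.beq (Nat.mod i 16) 0) (or2 (tb DM i) (Nat.beq (Nat.mod (mulS 72 i) 128) 0)))) 128 = true := by
  decide +kernel
theorem e0_chk : allB (fun a => fr (Nat.mul 128 a) fun i => an (com 72 i) (tb NM (mulS 72 i))) 8 = true := by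
  decide +kernel
theorem misc_chk : an (Nat.beq (lk SQ 72) 0) (an (nt (Nat.beq (lk SQ 16) 0)) (an (tb DM 4) (an (tb DM (mulS 8 4))
    (an (com 8 4) (an (tb DM 8) (an (Nat.beq (lk SQ 24) 0) (nt (Nat.beq (mulS 24 (mulS 72 24)) (mulS 8 (mulS 72 8)))))))))) = true := by
  decide +kernel
theorem d_chk : an (nt (Nat.beq (Nat.mod (mulS 72 24) 128) 0)) (nt (Nat.beq (Nat.mod 24 128) 0)) = true := by
  decide +kernel

end Cfsg.Agent.CoThreeStd.SylTabs
end

-- part: CoThreeStd/SylGrp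
section
/-!
# The Sylow 2-subgroup `S` of `G3` and its normal subgroups `W`, `Y3`, `K3`
-/

set_option autoImplicit false

namespace Cfsg.Agent.CoThreeStd.SylGrp

open Cfsg.Agent.LeechPack.X552 Cfsg.Agent.CoThreeStd.Model Cfsg.Agent.CoThreeStd.SylData
  Cfsg.Agent.CoThreeStd.SylTabs Cfsg.Agent.CoThreeStd.HFacts

/-! ### Conjugation -/

section conj

variable {K : Type*} [Group K]

theorem cc (h k x : K) : (h * k)⁻¹ * x * (h * k) = k⁻¹ * (h⁻¹ * x * h) * k := by group

theorem c_mul (h a b : K) : h⁻¹ * (a * b) * h = (h⁻¹ * a * h) * (h⁻¹ * b * h) := by group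

theorem c_inj {h a b : K} (e : h⁻¹ * a * h = h⁻¹ * b * h) : a = b :=
  mul_left_cancel (mul_right_cancel e)

theorem c_one (h : K) : h⁻¹ * 1 * h = 1 := by group

theorem c_eq_one {h a : K} : h⁻¹ * a * h = 1 ↔ a = 1 :=
  ⟨fun e => c_inj (e.trans (c_one h).symm), fun e => by rw [e, c_one]⟩

theorem c_comm {a b : K} (h : K) (e : a * b = b * a) :
    (h⁻¹ * a * h) * (h⁻¹ * b * h) = (h⁻¹ * b * h) * (h⁻¹ * a * h) := by
  rw [← c_mul, ← c_mul, e]

theorem c_comm_iff {a b : K} (h : K) :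
    (h⁻¹ * a * h) * (h⁻¹ * b * h) = (h⁻¹ * b * h) * (h⁻¹ * a * h) ↔ a * b = b * a := by
  rw [← c_mul, ← c_mul]
  exact ⟨fun e => c_inj e, fun e => by rw [e]⟩

theorem c_back (h x : K) : h⁻¹ * (h * x * h⁻¹) * h = x := by group

theorem isConj_c {t x : K} (h : K) : IsConj t (h⁻¹ * x * h) ↔ IsConj t x := by
  have h1 : IsConj x (h⁻¹ * x * h) := by
    rw [isConj_iff]
    exact ⟨h⁻¹, by rw [inv_inv]⟩
  exact ⟨fun h2 => h2.trans h1.symm, fun h2 => h2.trans h1⟩

theorem nd_c {t x : K} (h : K) : Nd t (h⁻¹ * x * h) ↔ Nd t x := by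
  unfold Nd
  rw [isConj_c, ← c_mul, c_eq_one, Ne, c_eq_one]

end conj

/-! ### Indices -/

theorem Φ_sq {i : ℕ} (hi : i < 1024) : Φ i * Φ i = Φ (lk SQ i) := by
  rw [Φ_mul i i hi, Nat.eq_of_beq_eq_true (allB_spec SQ_chk i hi)]

theorem Φ_eq_one {i : ℕ} (hi : i < 1024) (h : Φ i = 1) : i = 0 :=
  Φ_inj hi (by norm_num) (h.trans Φ_zero.symm)

theorem com_iff {i j : ℕ} (hi : i < 1024) (hj : j < 1024) :
    com i j = true ↔ Φ i * Φ j = Φ j * Φ i := by
  rw [Φ_mul i j hj, Φ_mul j i hi]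
  constructor
  · intro h
    rw [Nat.eq_of_beq_eq_true h]
  · intro h
    have := Φ_inj (mulS_lt i j hj) (mulS_lt j i hi) h
    unfold com
    rw [this]
    exact Nat.beq_refl _

theorem cjc_spec {i j : ℕ} {w : List ℕ} (h : cjc i w j = true) : (wd w)⁻¹ * Φ i * wd w = Φ j := by
  have key : ∀ b : Fin 552, Nat.beq (fr (evW w b) (appX i)) (evW w (appX j b)) = true →
      ψ (Φ i * wd w) b = ψ (wd w * Φ j) b := by
    intro b hb
    rw [fr_eq] at hb
    apply Fin.ext
    rw [map_mul, map_mul, Equiv.Perm.mul_apply, Equiv.Perm.mul_apply, ψ_Φ, ψ_wd, ψ_wd, ψ_Φ]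
    exact Nat.eq_of_beq_eq_true hb
  have h1 := faL_spec h
  have h2 : Φ i * wd w = wd w * Φ j := by
    apply BaseSix.eq_of_base
    · exact key 120 (h1 120 (by simp))
    · exact key 462 (h1 462 (by simp))
    · exact key 5 (h1 5 (by simp))
    · exact key 183 (h1 183 (by simp))
    · exact key 387 (h1 387 (by simp))
    · exact key 0 (h1 0 (by simp))
  rw [mul_assoc, h2]
  group

/-! ### Subgroups of `S` -/

/-- The products `Φ i` with `P i`. -/
def smOf (P : ℕ → Prop) (h0 : P 0) (hm : ∀ i j, i < 1024 → j < 1024 → P i → P j → P (mulS i j)) :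
    Submonoid G3 where
  carrier := {g | ∃ i, i < 1024 ∧ P i ∧ g = Φ i}
  one_mem' := ⟨0, by norm_num, h0, Φ_zero.symm⟩
  mul_mem' := by
    rintro _ _ ⟨i, hi, hi', rfl⟩ ⟨j, hj, hj', rfl⟩
    exact ⟨mulS i j, mulS_lt i j hj, hm i j hi hj hi' hj', Φ_mul i j hj⟩

/-- The subgroup of the products `Φ i` with `P i`. -/
def subOf (P : ℕ → Prop) (h0 : P 0) (hm : ∀ i j, i < 1024 → j < 1024 → P i → P j → P (mulS i j)) :
    Subgroup G3 :=
  { smOf P h0 hm with
    inv_mem' := by
      intro g hg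
      have h1 : g⁻¹ ∈ Submonoid.powers g := by
        rw [(isOfFinOrder_of_finite g).mem_powers_iff_mem_zpowers]
        exact Subgroup.inv_mem _ (Subgroup.mem_zpowers g)
      exact (Submonoid.powers_le (P := smOf P h0 hm)).2 hg h1 }

theorem mem_subOf {P : ℕ → Prop} {h0 : P 0}
    {hm : ∀ i j, i < 1024 → j < 1024 → P i → P j → P (mulS i j)} {g : G3} :
    g ∈ subOf P h0 hm ↔ ∃ i, i < 1024 ∧ P i ∧ g = Φ i := Iff.rfl

/-- The Sylow 2-subgroup. -/
def S : Subgroup G3 := subOf (fun _ => True) trivial fun _ _ _ _ _ _ => trivial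

theorem mem_S {g : G3} : g ∈ S ↔ ∃ i, i < 1024 ∧ g = Φ i := by
  constructor
  · rintro ⟨i, hi, -, rfl⟩
    exact ⟨i, hi, rfl⟩
  · rintro ⟨i, hi, rfl⟩
    exact ⟨i, hi, trivial, rfl⟩

theorem Φ_S {i : ℕ} (hi : i < 1024) : Φ i ∈ S := ⟨i, hi, trivial, rfl⟩

theorem card_S : Nat.card S = 2 ^ 10 := by
  have e : Fin 1024 ≃ S := Equiv.ofBijective (fun i => ⟨Φ i, Φ_S i.2⟩) (by
    constructor
    · intro i j h
      exact Fin.ext (Φ_inj i.2 j.2 (congrArg Subtype.val h))
    · rintro ⟨g, hg⟩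
      obtain ⟨i, hi, rfl⟩ := mem_S.1 hg
      exact ⟨⟨i, hi⟩, rfl⟩)
  rw [← Nat.card_congr e, Nat.card_eq_fintype_card, Fintype.card_fin]
  norm_num

theorem syl' : IsPGroup 2 S ∧ ∀ R : Subgroup G3, IsPGroup 2 R → ∃ c : G3, ∀ r ∈ R, c⁻¹ * r * c ∈ S :=
  SylLem.syl_of_card (n := 10) (m := 484147125) card_S (by rw [card_G3]; norm_num) (by norm_num)

theorem two_S : IsPGroup 2 S := syl'.1

theorem conj_rep {i : ℕ} (hi : i < 1024) : ∃ s ∈ S, s⁻¹ * Φ i * s = Φ (lk RH i) := by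
  have h1 := allB_spec RH_chk i hi
  rw [fr_eq, fr_eq] at h1
  have h2 : Φ (lk RH i) * Φ (lk CO i) = Φ (lk CO i) * Φ i := by
    rw [Φ_mul _ _ (lk_lt _ _), Φ_mul _ _ hi, Nat.eq_of_beq_eq_true h1]
  refine ⟨(Φ (lk CO i))⁻¹, S.inv_mem (Φ_S (lk_lt _ _)), ?_⟩
  rw [inv_inv, ← h2]
  group

theorem clo_spec {n c : ℕ} (h : clo n c = true) (hn : n * c = 1024) {i j : ℕ} (hi : i < 1024)
    (hj : j < 1024) (hi' : i % n = 0) (hj' : j % n = 0) : mulS i j % n = 0 := by
  have hn0 : 0 < n := by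
    rcases Nat.eq_zero_or_pos n with h0 | h0
    · subst h0; omega
    · exact h0
  obtain ⟨a, rfl⟩ := Nat.dvd_of_mod_eq_zero hi'
  obtain ⟨b, rfl⟩ := Nat.dvd_of_mod_eq_zero hj'
  have ha : a < c := by
    by_contra h1
    have := Nat.mul_le_mul_left n (Nat.le_of_not_lt h1)
    omega
  have hb : b < c := by
    by_contra h1
    have := Nat.mul_le_mul_left n (Nat.le_of_not_lt h1)
    omega
  exact Nat.eq_of_beq_eq_true (allB_spec (allB_spec h a ha) b hb)

/-- The subgroup of the multiples of `n`. -/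
def sub (n c : ℕ) (h : clo n c = true) (hn : n * c = 1024) : Subgroup G3 :=
  subOf (fun i => i % n = 0) (Nat.zero_mod n) fun _ _ hi hj hi' hj' => clo_spec h hn hi hj hi' hj'

theorem Φ_mem_sub {n c : ℕ} {h : clo n c = true} {hn : n * c = 1024} {i : ℕ} (hi : i < 1024) :
    Φ i ∈ sub n c h hn ↔ i % n = 0 := by
  constructor
  · rintro ⟨j, hj, hj', e⟩
    rw [Φ_inj hi hj e]
    exact hj'
  · intro h'
    exact ⟨i, hi, h', rfl⟩

theorem card_sub_le {n c : ℕ} {h : clo n c = true} {hn : n * c = 1024} (hc : 0 < c) :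
    Nat.card (sub n c h hn) ≤ c := by
  have h1 : Function.Surjective (fun a : Fin c => (⟨Φ (n * a), by
      have ha := a.2
      have : n * a < n * c := by
        apply Nat.mul_lt_mul_of_pos_left ha
        rcases Nat.eq_zero_or_pos n with h0 | h0
        · subst h0; omega
        · exact h0
      exact (Φ_mem_sub (by omega)).2 (Nat.mul_mod_right n a)⟩ : sub n c h hn)) := by
    rintro ⟨g, i, hi, hi', rfl⟩
    obtain ⟨a, rfl⟩ := Nat.dvd_of_mod_eq_zero hi'
    have ha : a < c := by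
      by_contra h1
      have := Nat.mul_le_mul_left n (Nat.le_of_not_lt h1)
      omega
    exact ⟨⟨a, ha⟩, rfl⟩
  have h2 := Nat.card_le_card_of_surjective _ h1
  rwa [Nat.card_fin] at h2

/-- `W` -/
def W : Subgroup G3 := sub 256 4 clo_W rfl

/-- `Y3` -/
def Y3 : Subgroup G3 := sub 128 8 clo_Y3 rfl

/-- `K3` -/
def K3 : Subgroup G3 := sub 16 64 clo_K3 rfl

theorem Φ_W {i : ℕ} (hi : i < 1024) : Φ i ∈ W ↔ i % 256 = 0 := Φ_mem_sub hi
theorem Φ_Y3 {i : ℕ} (hi : i < 1024) : Φ i ∈ Y3 ↔ i % 128 = 0 := Φ_mem_sub hi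
theorem Φ_K3 {i : ℕ} (hi : i < 1024) : Φ i ∈ K3 ↔ i % 16 = 0 := Φ_mem_sub hi

theorem mem_W' {g : G3} : g ∈ W ↔ ∃ i, i < 1024 ∧ i % 256 = 0 ∧ g = Φ i := Iff.rfl
theorem mem_Y3' {g : G3} : g ∈ Y3 ↔ ∃ i, i < 1024 ∧ i % 128 = 0 ∧ g = Φ i := Iff.rfl
theorem mem_K3' {g : G3} : g ∈ K3 ↔ ∃ i, i < 1024 ∧ i % 16 = 0 ∧ g = Φ i := Iff.rfl

theorem card_W : Nat.card W ≤ 4 := card_sub_le (by norm_num)
theorem card_Y3 : Nat.card Y3 ≤ 8 := card_sub_le (by norm_num)

theorem W_S : W ≤ S := by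
  rintro _ ⟨i, hi, -, rfl⟩
  exact Φ_S hi

theorem Y3_S : Y3 ≤ S := by
  rintro _ ⟨i, hi, -, rfl⟩
  exact Φ_S hi

theorem K3_S : K3 ≤ S := by
  rintro _ ⟨i, hi, -, rfl⟩
  exact Φ_S hi

theorem W_Y3 : W ≤ Y3 := by
  rintro _ ⟨i, hi, hi', rfl⟩
  exact (Φ_Y3 hi).2 (by omega)

theorem Y3_K3 : Y3 ≤ K3 := by
  rintro _ ⟨i, hi, hi', rfl⟩
  exact (Φ_K3 hi).2 (by omega)

theorem sub_W : W = sub 256 4 clo_W rfl := rfl

/-- Products of elements of `N` lie in `N`. -/
theorem Φ_mem {N : Subgroup G3} (h0 : wd w0 ∈ N) (h1 : wd w1 ∈ N) (h2 : wd w2 ∈ N) (h3 : wd w3 ∈ N)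
    (h4 : wd w4 ∈ N) (h5 : wd w5 ∈ N) (h6 : wd w6 ∈ N) (h7 : wd w7 ∈ N) (h8 : wd w8 ∈ N)
    (h9 : wd w9 ∈ N) (i : ℕ) : Φ i ∈ N := by
  have hp : ∀ (k : ℕ) (g : G3), g ∈ N → pw i k g ∈ N := by
    intro k g hg
    unfold pw
    cases Nat.land (Nat.shiftRight i k) 1 with
    | zero => exact N.one_mem
    | succ n => exact hg
  unfold Φ
  exact N.mul_mem (hp _ _ h0) (N.mul_mem (hp _ _ h1) (N.mul_mem (hp _ _ h2) (N.mul_mem (hp _ _ h3)
    (N.mul_mem (hp _ _ h4) (N.mul_mem (hp _ _ h5) (N.mul_mem (hp _ _ h6) (N.mul_mem (hp _ _ h7)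
    (N.mul_mem (hp _ _ h8) (N.mul_mem (hp _ _ h9) N.one_mem)))))))))

theorem gen_eq {w : List ℕ} {t L x : ℕ} (hw : allB (fun x => Nat.beq (evW w x) (lk t x)) 552 = true)
    (hL : lChk t L = true) (hx : Nat.beq (lk L 0) x = true) : wd w = Φ x := by
  have h1 := mul_Φ_of (of_chk hw) hL 0 (by norm_num)
  rw [Φ_zero, mul_one] at h1
  rw [h1, Nat.eq_of_beq_eq_true hx]

theorem nor_spec {n c : ℕ} {hc : clo n c = true} {hn : n * c = 1024} {w : List ℕ} {t L x y : ℕ}
    (hw : allB (fun x => Nat.beq (evW w x) (lk t x)) 552 = true) (hL : lChk t L = true)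
    (hx : Nat.beq (lk L 0) x = true) (hy : y < 1024) (h : nor n c L x y = true) :
    wd w ∈ Subgroup.normalizer ((sub n c hc hn : Subgroup G3) : Set G3) := by
  obtain ⟨h1, h2⟩ := an_spec h
  have h3 : Φ x * Φ y = 1 := by
    rw [Φ_mul x y hy, Nat.eq_of_beq_eq_true h1, Φ_zero]
  have h4 : (wd w)⁻¹ = Φ y := by
    rw [gen_eq hw hL hx]
    exact inv_eq_of_mul_eq_one_right h3
  apply Subgroup.mem_normalizer_fintype
  rintro _ ⟨i, hi, hi', rfl⟩
  obtain ⟨a, rfl⟩ := Nat.dvd_of_mod_eq_zero hi'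
  have ha : a < c := by
    by_contra h1
    have := Nat.mul_le_mul_left n (Nat.le_of_not_lt h1)
    omega
  have h5 : mulS (lk L (n * a)) y % n = 0 := Nat.eq_of_beq_eq_true (allB_spec h2 a ha)
  rw [mul_Φ_of (of_chk hw) hL _ hi, h4, Φ_mul _ _ hy]
  exact ⟨_, mulS_lt _ _ hy, h5, rfl⟩

theorem S_W : S ≤ Subgroup.normalizer (W : Set G3) := by
  intro g hg
  obtain ⟨i, hi, rfl⟩ := mem_S.1 hg
  apply Φ_mem
  · exact nor_spec xt0_chk L0_chk (x := 1) (by decide +kernel) (by norm_num) nor_W_0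
  · exact nor_spec xt1_chk L1_chk (x := 2) (by decide +kernel) (by norm_num) nor_W_1
  · exact nor_spec xt2_chk L2_chk (x := 4) (by decide +kernel) (by norm_num) nor_W_2
  · exact nor_spec xt3_chk L3_chk (x := 8) (by decide +kernel) (by norm_num) nor_W_3
  · exact nor_spec xt4_chk L4_chk (x := 16) (by decide +kernel) (by norm_num) nor_W_4
  · exact nor_spec xt5_chk L5_chk (x := 32) (by decide +kernel) (by norm_num) nor_W_5
  · exact nor_spec xt6_chk L6_chk (x := 64) (by decide +kernel) (by norm_num) nor_W_6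
  · exact nor_spec xt7_chk L7_chk (x := 128) (by decide +kernel) (by norm_num) nor_W_7
  · exact nor_spec xt8_chk L8_chk (x := 256) (by decide +kernel) (by norm_num) nor_W_8
  · exact nor_spec xt9_chk L9_chk (x := 512) (by decide +kernel) (by norm_num) nor_W_9

theorem S_Y3 : S ≤ Subgroup.normalizer (Y3 : Set G3) := by
  intro g hg
  obtain ⟨i, hi, rfl⟩ := mem_S.1 hg
  apply Φ_mem
  · exact nor_spec xt0_chk L0_chk (x := 1) (by decide +kernel) (by norm_num) nor_Y3_0
  · exact nor_spec xt1_chk L1_chk (x := 2) (by decide +kernel) (by norm_num) nor_Y3_1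
  · exact nor_spec xt2_chk L2_chk (x := 4) (by decide +kernel) (by norm_num) nor_Y3_2
  · exact nor_spec xt3_chk L3_chk (x := 8) (by decide +kernel) (by norm_num) nor_Y3_3
  · exact nor_spec xt4_chk L4_chk (x := 16) (by decide +kernel) (by norm_num) nor_Y3_4
  · exact nor_spec xt5_chk L5_chk (x := 32) (by decide +kernel) (by norm_num) nor_Y3_5
  · exact nor_spec xt6_chk L6_chk (x := 64) (by decide +kernel) (by norm_num) nor_Y3_6
  · exact nor_spec xt7_chk L7_chk (x := 128) (by decide +kernel) (by norm_num) nor_Y3_7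
  · exact nor_spec xt8_chk L8_chk (x := 256) (by decide +kernel) (by norm_num) nor_Y3_8
  · exact nor_spec xt9_chk L9_chk (x := 512) (by decide +kernel) (by norm_num) nor_Y3_9

theorem S_K3 : S ≤ Subgroup.normalizer (K3 : Set G3) := by
  intro g hg
  obtain ⟨i, hi, rfl⟩ := mem_S.1 hg
  apply Φ_mem
  · exact nor_spec xt0_chk L0_chk (x := 1) (by decide +kernel) (by norm_num) nor_K3_0
  · exact nor_spec xt1_chk L1_chk (x := 2) (by decide +kernel) (by norm_num) nor_K3_1
  · exact nor_spec xt2_chk L2_chk (x := 4) (by decide +kernel) (by norm_num) nor_K3_2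
  · exact nor_spec xt3_chk L3_chk (x := 8) (by decide +kernel) (by norm_num) nor_K3_3
  · exact nor_spec xt4_chk L4_chk (x := 16) (by decide +kernel) (by norm_num) nor_K3_4
  · exact nor_spec xt5_chk L5_chk (x := 32) (by decide +kernel) (by norm_num) nor_K3_5
  · exact nor_spec xt6_chk L6_chk (x := 64) (by decide +kernel) (by norm_num) nor_K3_6
  · exact nor_spec xt7_chk L7_chk (x := 128) (by decide +kernel) (by norm_num) nor_K3_7
  · exact nor_spec xt8_chk L8_chk (x := 256) (by decide +kernel) (by norm_num) nor_K3_8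
  · exact nor_spec xt9_chk L9_chk (x := 512) (by decide +kernel) (by norm_num) nor_K3_9

/-- `t` is the letter `m 0`. -/
theorem t_eq : Φ 8 = m 0 := by
  rw [← gen_eq (w := w3) xt3_chk L3_chk (x := 8) (by decide +kernel)]
  simp [wd, w3, mm]

/-- `y` is the letter `m 1`. -/
theorem y_eq : Φ 4 = m 1 := by
  rw [← gen_eq (w := w2) xt2_chk L2_chk (x := 4) (by decide +kernel)]
  simp [wd, w2, mm]

/-- `v` is the word `p r`. -/
theorem v_eq : Φ 512 = m 2 * m 4 := by
  rw [← gen_eq (w := w9) xt9_chk L9_chk (x := 512) (by decide +kernel)]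
  simp [wd, w9, mm]

end Cfsg.Agent.CoThreeStd.SylGrp
end

-- part: CoThreeStd/HInst
section
/-!
# The facts about `G3 = Co₃` used in the closing of S1750
-/

set_option autoImplicit false

namespace Cfsg.Agent.CoThreeStd.HInst

open Cfsg.Agent.LeechPack.X552 hiding S
open Cfsg.Agent.CoThreeStd.Model Cfsg.Agent.CoThreeStd.SylData
  Cfsg.Agent.CoThreeStd.SylTabs Cfsg.Agent.CoThreeStd.HFacts Cfsg.Agent.CoThreeStd.SylGrp

/-! ### The two classes of involutions -/

theorem not_conj_tv : ¬ IsConj (Φ 8) (Φ 512) := by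
  intro h
  obtain ⟨c, hc⟩ := isConj_iff.1 h
  obtain ⟨x, hx⟩ : ∃ x : Fin 552, ψ (Φ 512) x = x := by
    have h1 := v_fix_chk
    exact ⟨⟨_, by norm_num⟩, Fin.ext ((ψ_Φ 512 _).trans (Nat.eq_of_beq_eq_true h1))⟩
  have h2 : ψ (Φ 8) (ψ c⁻¹ x) = ψ c⁻¹ x := by
    have h3 : Φ 8 * c⁻¹ = c⁻¹ * Φ 512 := by rw [← hc]; group
    have h4 : ψ (Φ 8 * c⁻¹) x = ψ (c⁻¹ * Φ 512) x := by rw [h3]
    rw [map_mul, map_mul, Equiv.Perm.mul_apply, Equiv.Perm.mul_apply, hx] at h4
    exact h4
  have h5 := nt_spec (allB_spec t_free_chk (ψ c⁻¹ x) (ψ c⁻¹ x).2)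
  rw [← ψ_Φ, h2, Nat.beq_refl] at h5
  exact absurd h5 (by decide)

/-- conjugating to a representative -/
theorem rep_of {i : ℕ} (hi : i < 1024) {α : Type} {l : List α} {f : α → ℕ}
    (h : exL (fun e => Nat.beq (f e) (lk RH i)) l = true) :
    ∃ e ∈ l, ∃ s ∈ S, s⁻¹ * Φ i * s = Φ (f e) := by
  obtain ⟨e, he, h1⟩ := exL_spec h
  obtain ⟨s, hs, h2⟩ := conj_rep hi
  rw [← Nat.eq_of_beq_eq_true h1] at h2
  exact ⟨e, he, s, hs, h2⟩

theorem DM_conj {i : ℕ} (hi : i < 1024) (h : tb DM i = true) : IsConj (Φ 8) (Φ i) := by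
  obtain ⟨e, he, s, -, h1⟩ := rep_of hi (imp_spec (allB_spec DM_chk i hi) h)
  have h2 := cjc_spec (an_spec (faL_spec DL_chk e he)).2
  rw [← isConj_c s, h1, ← isConj_c (wd e.2), h2]

theorem NM_v {i : ℕ} (hi : i < 1024) (h : tb NM i = true) : ∃ g, g⁻¹ * Φ i * g = Φ 512 := by
  obtain ⟨e, he, s, -, h1⟩ := rep_of hi (imp_spec (allB_spec NM_chk i hi) h)
  have h2 := cjc_spec (an_spec (faL_spec NL_chk e he)).2
  exact ⟨s * wd e.2, by rw [cc, h1, h2]⟩

theorem NM_nd {i : ℕ} (hi : i < 1024) (h : tb NM i = true) : Nd (Φ 8) (Φ i) := by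
  obtain ⟨h1, h2⟩ := an_spec (imp_spec (allB_spec NM_sq_chk i hi) h)
  refine ⟨?_, ?_, ?_⟩
  · rw [Φ_sq hi, Nat.eq_of_beq_eq_true h1, Φ_zero]
  · intro h3
    rw [Φ_eq_one hi h3] at h2
    exact absurd (nt_spec h2) (by decide)
  · obtain ⟨g, hg⟩ := NM_v hi h
    rw [← isConj_c g, hg]
    exact not_conj_tv

theorem nd_NM {i : ℕ} (hi : i < 1024) (h : Nd (Φ 8) (Φ i)) : tb NM i = true := by
  obtain ⟨h1, h2, h3⟩ := h
  rw [Φ_sq hi] at h1
  have h4 : lk SQ i = 0 := Φ_eq_one (lk_lt _ _) h1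
  have h5 := imp_spec (allB_spec inv_chk i hi) (by rw [h4]; rfl)
  rcases or2_spec h5 with h6 | h6
  · rw [Nat.eq_of_beq_eq_true h6, Φ_zero] at h2
    exact absurd rfl h2
  rcases or2_spec h6 with h7 | h7
  · exact absurd (DM_conj hi h7) h3
  · exact h7

theorem t_sq : Φ 8 * Φ 8 = 1 := by
  rw [Φ_sq (by norm_num)]
  have : lk SQ 8 = 0 := by decide +kernel
  rw [this, Φ_zero]

/-- involutions are conjugate into `S` -/
theorem inv_S {b : G3} (h : b * b = 1) : ∃ c : G3, ∃ i, i < 1024 ∧ c⁻¹ * b * c = Φ i := by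
  have h1 := SylLem.two_closure (n := 1) (show b ^ 2 ^ 1 = 1 by rw [pow_one, pow_two, h])
  obtain ⟨c, hc⟩ := syl'.2 _ h1
  obtain ⟨i, hi, h2⟩ := mem_S.1 (hc b (Subgroup.subset_closure rfl))
  exact ⟨c, i, hi, h2⟩

theorem F0 (b : G3) (h : Nd (Φ 8) b) : ∃ g, g⁻¹ * b * g = Φ 512 := by
  obtain ⟨c, i, hi, h1⟩ := inv_S h.1
  have h2 : Nd (Φ 8) (Φ i) := by rw [← h1]; exact (nd_c c).2 h
  obtain ⟨g, hg⟩ := NM_v hi (nd_NM hi h2)
  exact ⟨c * g, by rw [cc, h1, hg]⟩

theorem v_comm {i : ℕ} (hi : i < 1024) : Φ 512 * Φ i = Φ i * Φ 512 :=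
  (com_iff (by norm_num) hi).1 (an_spec (allB_spec Fc_chk i hi)).1

theorem S_cv : S ≤ Subgroup.centralizer ({Φ 512} : Set G3) := by
  intro g hg
  obtain ⟨i, hi, rfl⟩ := mem_S.1 hg
  rw [Subgroup.mem_centralizer_singleton_iff]
  exact (v_comm hi).symm

/-- two commuting `Nd` elements can be moved to `v` and an element of `S` -/
theorem pair {a b : G3} (ha : Nd (Φ 8) a) (hb : Nd (Φ 8) b) (hab : a * b = b * a) (hne : a ≠ b) :
    ∃ g, g⁻¹ * a * g = Φ 512 ∧ ∃ i, i < 1024 ∧ tb NM i = true ∧ i ≠ 512 ∧ g⁻¹ * b * g = Φ i := by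
  obtain ⟨g, hg⟩ := F0 a ha
  have hb' : Nd (Φ 8) (g⁻¹ * b * g) := (nd_c g).2 hb
  have hc : (g⁻¹ * b * g) * Φ 512 = Φ 512 * (g⁻¹ * b * g) := by
    rw [← hg]
    exact (c_comm g hab).symm
  have h1 := SylLem.two_closure (n := 1)
    (show (g⁻¹ * b * g) ^ 2 ^ 1 = 1 by rw [pow_one, pow_two, hb'.1])
  obtain ⟨c, hc1, hc2⟩ := SylLem.syl_in two_S syl'.2 S_cv _ h1 (by
    rw [Subgroup.closure_le]
    rintro x rfl
    exact Subgroup.mem_centralizer_singleton_iff.2 hc)
  obtain ⟨i, hi, h2⟩ := mem_S.1 (hc2 _ (Subgroup.subset_closure rfl))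
  rw [Subgroup.mem_centralizer_singleton_iff] at hc1
  have h3 : c⁻¹ * Φ 512 * c = Φ 512 := by rw [mul_assoc, ← hc1]; group
  refine ⟨g * c, by rw [cc, hg, h3], i, hi, nd_NM hi (by rw [← h2]; exact (nd_c c).2 hb'), ?_,
    by rw [cc, h2]⟩
  rintro rfl
  apply hne
  apply c_inj (h := g * c)
  rw [cc, cc, hg, h3, h2]

theorem Fc (a b : G3) (ha : Nd (Φ 8) a) (hb : Nd (Φ 8) b) (hab : a * b = b * a) (hne : a ≠ b) :
    Nd (Φ 8) (a * b) := by
  obtain ⟨g, hg, i, hi, hN, h512, h2⟩ := pair ha hb hab hne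
  rw [← nd_c g, c_mul, hg, h2, Φ_mul _ _ hi]
  apply NM_nd (mulS_lt _ _ hi)
  rcases or2_spec (imp_spec (an_spec (allB_spec Fc_chk i hi)).2 hN) with h | h
  · exact absurd (Nat.eq_of_beq_eq_true h) h512
  · exact h

/-- two commuting `Nd` elements can be moved to `v`, `w` -/
theorem pair' {a b : G3} (ha : Nd (Φ 8) a) (hb : Nd (Φ 8) b) (hab : a * b = b * a) (hne : a ≠ b) :
    ∃ g, g⁻¹ * a * g = Φ 512 ∧ g⁻¹ * b * g = Φ 256 := by
  obtain ⟨g, hg, i, hi, hN, h512, h2⟩ := pair ha hb hab hne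
  rcases or2_spec (imp_spec (allB_spec F1_chk i hi) hN) with h | h
  · exact absurd (Nat.eq_of_beq_eq_true h) h512
  obtain ⟨e, he, s, hs, h3⟩ := rep_of hi h
  obtain ⟨h4, h5⟩ := an_spec (an_spec (faL_spec F1L_chk e he)).2
  have h6 : s⁻¹ * Φ 512 * s = Φ 512 := by
    have := Subgroup.mem_centralizer_singleton_iff.1 (S_cv hs)
    rw [mul_assoc, ← this]; group
  exact ⟨g * (s * wd e.2), by rw [cc, hg, cc, h6, cjc_spec h4], by rw [cc, h2, cc, h3, cjc_spec h5]⟩

theorem Φ512_W : Φ 512 ∈ W := (Φ_W (by norm_num)).2 (by norm_num)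
theorem Φ256_W : Φ 256 ∈ W := (Φ_W (by norm_num)).2 (by norm_num)

theorem F1 (a b : G3) (ha : Nd (Φ 8) a) (hb : Nd (Φ 8) b) (hab : a * b = b * a) (hne : a ≠ b) :
    ∃ g, ∀ x, x ∈ Subgroup.closure ({a, b} : Set G3) ↔ g⁻¹ * x * g ∈ W := by
  obtain ⟨g, h1, h2⟩ := pair' ha hb hab hne
  refine ⟨g, fun x => ?_⟩
  rw [SylLem.mem_closure2_conj a b g x, SylLem.closure2_eq card_W (by rw [h1]; exact Φ512_W)
    (by rw [h2]; exact Φ256_W) ?_ ?_ ?_]
  · rw [Ne, c_eq_one]; exact ha.2.1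
  · rw [Ne, c_eq_one]; exact hb.2.1
  · exact fun e => hne (c_inj e)

/-! ### The centraliser of `W` -/

theorem mem_W (x : G3) : x ∈ W ↔ x = 1 ∨ x = Φ 512 ∨ x = Φ 256 ∨ x = Φ 512 * Φ 256 := by
  have h768 : Φ 512 * Φ 256 = Φ 768 := by
    rw [Φ_mul _ _ (by norm_num), Nat.eq_of_beq_eq_true (an_spec W_chk).1]
  rw [h768]
  constructor
  · rintro ⟨i, hi, hi', rfl⟩
    have h : i = 0 ∨ i = 512 ∨ i = 256 ∨ i = 768 := by omega
    rcases h with rfl | rfl | rfl | rfl
    · exact Or.inl Φ_zero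
    · exact Or.inr (Or.inl rfl)
    · exact Or.inr (Or.inr (Or.inl rfl))
    · exact Or.inr (Or.inr (Or.inr rfl))
  · rintro (rfl | rfl | rfl | rfl)
    · exact W.one_mem
    · exact Φ512_W
    · exact Φ256_W
    · exact (Φ_W (by norm_num)).2 (by norm_num)

theorem cW {g : G3} (h1 : g * Φ 512 = Φ 512 * g) (h2 : g * Φ 256 = Φ 256 * g) :
    ∀ x ∈ W, g * x = x * g := by
  intro x hx
  rcases (mem_W x).1 hx with rfl | rfl | rfl | rfl
  · simp
  · exact h1
  · exact h2
  · rw [← mul_assoc, h1, mul_assoc, h2, mul_assoc]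

theorem even_iff {i : ℕ} (hi : i < 1024) : (∀ x ∈ W, Φ i * x = x * Φ i) ↔ i % 2 = 0 := by
  have h0 := an_spec (allB_spec even_chk i hi)
  have h1 := an_spec h0.2
  constructor
  · intro h
    have h2 := (com_iff hi (by norm_num : 256 < 1024)).2 (h _ Φ256_W)
    exact Nat.eq_of_beq_eq_true (imp_spec h0.1 h2)
  · intro h
    refine cW (v_comm hi).symm ?_
    apply (com_iff hi (by norm_num)).1
    exact imp_spec h1.1 (by rw [show Nat.mod i 2 = 0 from h]; rfl)

theorem cW_le {g : G3} (h : ∀ x ∈ W, g * x = x * g) : g ∈ Subgroup.normalizer (W : Set G3) := by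
  apply Subgroup.mem_normalizer_fintype
  intro x hx
  have : g * x * g⁻¹ = x := by rw [h x hx]; group
  rw [this]
  exact hx

/-- conjugates of elements centralising `W` -/
theorem cW_c {g n : G3} (hn : n ∈ Subgroup.normalizer (W : Set G3)) (h : ∀ x ∈ W, g * x = x * g) :
    ∀ x ∈ W, (n⁻¹ * g * n) * x = x * (n⁻¹ * g * n) := by
  intro x hx
  have h1 : n * x * n⁻¹ ∈ W := (Subgroup.mem_normalizer_iff.1 hn x).1 hx
  have h2 := h _ h1
  have h3 : n⁻¹ * (n * x * n⁻¹) * n = x := by group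
  rw [← h3, ← c_mul, ← c_mul, h2]

theorem W_c {n x : G3} (hn : n ∈ Subgroup.normalizer (W : Set G3)) : n⁻¹ * x * n ∈ W ↔ x ∈ W := by
  rw [Subgroup.mem_normalizer_iff.1 hn (n⁻¹ * x * n)]
  have : n * (n⁻¹ * x * n) * n⁻¹ = x := by group
  rw [this]

/-- a 2-subgroup of `N(W)` is conjugate into `S` inside `N(W)` -/
theorem syl_W (X : Set G3) (hX : IsPGroup 2 (Subgroup.closure X))
    (h : ∀ x ∈ X, ∀ y ∈ W, x * y = y * x) : ∃ n ∈ Subgroup.normalizer (W : Set G3),
    ∀ x ∈ X, ∃ i, i < 1024 ∧ i % 2 = 0 ∧ n⁻¹ * x * n = Φ i := by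
  obtain ⟨n, hn, h1⟩ := SylLem.syl_in two_S syl'.2 S_W _ hX (by
    rw [Subgroup.closure_le]
    exact fun x hx => cW_le (h x hx))
  refine ⟨n, hn, fun x hx => ?_⟩
  obtain ⟨i, hi, h2⟩ := mem_S.1 (h1 x (Subgroup.subset_closure hx))
  refine ⟨i, hi, (even_iff hi).1 ?_, h2⟩
  rw [← h2]
  exact cW_c hn (h x hx)

theorem F2 (a b c : G3) (ha : Nd (Φ 8) a) (hb : Nd (Φ 8) b) (hc : Nd (Φ 8) c) (hab : a * b = b * a)
    (hac : a * c = c * a) (hbc : b * c = c * b) (hne : a ≠ b) (hca : c ≠ a) (hcb : c ≠ b)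
    (hcab : c ≠ a * b) :
    ∃ g, ∀ x, x ∈ Subgroup.closure ({a, b, c} : Set G3) ↔ g⁻¹ * x * g ∈ Y3 := by
  obtain ⟨g, h1, h2⟩ := pair' ha hb hab hne
  have hc' : Nd (Φ 8) (g⁻¹ * c * g) := (nd_c g).2 hc
  have hcW : ∀ y ∈ W, (g⁻¹ * c * g) * y = y * (g⁻¹ * c * g) := by
    apply cW
    · rw [← h1]; exact c_comm g hac.symm
    · rw [← h2]; exact c_comm g hbc.symm
  have h3 := SylLem.two_closure (n := 1)
    (show (g⁻¹ * c * g) ^ 2 ^ 1 = 1 by rw [pow_one, pow_two, hc'.1])
  obtain ⟨n, hn, h4⟩ := syl_W {g⁻¹ * c * g} h3 (by rintro x rfl; exact hcW)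
  obtain ⟨i, hi, hi2, h5⟩ := h4 _ rfl
  have hcnW : g⁻¹ * c * g ∉ W := by
    intro h6
    rcases (mem_W _).1 h6 with h | h | h | h
    · exact hc.2.1 (c_eq_one.1 h)
    · exact hca (c_inj (h.trans h1.symm))
    · exact hcb (c_inj (h.trans h2.symm))
    · apply hcab
      apply c_inj (h := g)
      rw [h, c_mul, h1, h2]
  have h6 : i % 256 ≠ 0 := by
    intro h7
    apply hcnW
    rw [← W_c hn, h5]
    exact (Φ_W hi).2 h7
  have hN : tb NM i = true := nd_NM hi (by rw [← h5]; exact (nd_c n).2 hc')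
  have h7 := imp_spec (imp_spec (imp_spec (allB_spec F2_chk i hi) hN)
    (by rw [show Nat.mod i 2 = 0 from hi2]; rfl))
    (nt_intro (by
      cases hb : Nat.beq (Nat.mod i 256) 0 with
      | false => rfl
      | true => exact absurd (Nat.eq_of_beq_eq_true hb) h6))
  obtain ⟨e, he, s, hs, h8⟩ := rep_of hi h7
  have h9 := (an_spec (faL_spec F2L_chk e he)).2
  obtain ⟨c1, h10⟩ := an_spec h9
  obtain ⟨c2, h11⟩ := an_spec h10
  obtain ⟨c3, h12⟩ := an_spec h11
  obtain ⟨m1, h13⟩ := an_spec h12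
  obtain ⟨m2, m3⟩ := an_spec h13
  have hmY : ∀ {j : ℕ}, mul0 128 j = true → Φ j ∈ Y3 := by
    intro j hj
    obtain ⟨hj1, hj2⟩ := an_spec hj
    have hj1' : j < 1024 := Nat.le_of_ble_eq_true hj1
    exact (Φ_Y3 hj1').2 (Nat.eq_of_beq_eq_true hj2)
  have hWY : ∀ x ∈ W, (wd e.2.1)⁻¹ * x * wd e.2.1 ∈ Y3 := by
    intro x hx
    rcases (mem_W x).1 hx with rfl | rfl | rfl | rfl
    · rw [c_one]; exact Y3.one_mem
    · rw [cjc_spec c1]; exact hmY m1
    · rw [cjc_spec c2]; exact hmY m2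
    · rw [c_mul, cjc_spec c1, cjc_spec c2]; exact Y3.mul_mem (hmY m1) (hmY m2)
  have hns : n * s ∈ Subgroup.normalizer (W : Set G3) := Subgroup.mul_mem _ hn (S_W hs)
  refine ⟨g * (n * s * wd e.2.1), fun x => ?_⟩
  have ka : (g * (n * s * wd e.2.1))⁻¹ * a * (g * (n * s * wd e.2.1)) ∈ Y3 := by
    rw [cc, h1, cc]
    exact hWY _ ((W_c hns).2 Φ512_W)
  have kb : (g * (n * s * wd e.2.1))⁻¹ * b * (g * (n * s * wd e.2.1)) ∈ Y3 := by
    rw [cc, h2, cc]
    exact hWY _ ((W_c hns).2 Φ256_W)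
  have kc : (g * (n * s * wd e.2.1))⁻¹ * c * (g * (n * s * wd e.2.1)) ∈ Y3 := by
    rw [cc, cc _ (wd e.2.1), cc n s, h5, h8, cjc_spec c3]
    exact hmY m3
  rw [SylLem.mem_closure3_conj a b c (g * (n * s * wd e.2.1)) x, SylLem.closure3_eq card_Y3 ka kb kc
    (by rw [← c_mul, ha.1, c_one]) (by rw [← c_mul, hb.1, c_one]) ?_ ?_ ?_ ?_ ?_ ?_ ?_]
  · rw [Ne, c_eq_one]; exact ha.2.1
  · rw [Ne, c_eq_one]; exact hb.2.1
  · exact fun e => hne (c_inj e)
  · rw [Ne, c_eq_one]; exact hc.2.1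
  · exact fun e => hca (c_inj e)
  · exact fun e => hcb (c_inj e)
  · rw [← c_mul]
    exact fun e => hcab (c_inj e)

/-! ### (Fd) -/

/-- the statement (Fd) -/
def Q (u : G3) : Prop := Nd (Φ 8) (u * u) ∧ (∃ a, IsConj (Φ 8) a ∧ a * u = u * a) ∧
  ∃ b, Nd (Φ 8) b ∧ b ≠ u * u ∧ b * u = u * b

theorem Q_c {u h : G3} (hQ : Q (h⁻¹ * u * h)) : Q u := by
  obtain ⟨h1, ⟨a, ha, ha'⟩, b, hb, hb', hb''⟩ := hQ
  rw [← c_mul] at h1 hb'
  refine ⟨(nd_c h).1 h1, ⟨h * a * h⁻¹, ?_, ?_⟩, h * b * h⁻¹, ?_, ?_, ?_⟩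
  · rw [← isConj_c h, c_back]; exact ha
  · rw [← c_comm_iff h, c_back]; exact ha'
  · rw [← nd_c h, c_back]; exact hb
  · intro e
    apply hb'
    rw [← e, c_back]
  · rw [← c_comm_iff h, c_back]; exact hb''

theorem lt_of_mul0 {n i : ℕ} (h : mul0 n i = true) : i < 1024 := Nat.le_of_ble_eq_true (an_spec h).1

theorem mod_of_mul0 {n i : ℕ} (h : mul0 n i = true) : i % n = 0 :=
  Nat.eq_of_beq_eq_true (an_spec h).2

theorem Q_FDL {e : ℕ × ℕ × ℕ} (he : e ∈ FDL) : Q (Φ e.1) := by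
  obtain ⟨h1, h⟩ := an_spec (faL_spec FDL_chk e he)
  obtain ⟨h2, h⟩ := an_spec h
  obtain ⟨h3, h⟩ := an_spec h
  obtain ⟨h4, h⟩ := an_spec h
  obtain ⟨h5, h⟩ := an_spec h
  obtain ⟨h6, h⟩ := an_spec h
  obtain ⟨h7, h⟩ := an_spec h
  obtain ⟨h8, h9⟩ := an_spec h
  have l1 := lt_of_mul0 h1
  have l2 := lt_of_mul0 h2
  have l3 := lt_of_mul0 h3
  refine ⟨?_, ⟨Φ e.2.1, DM_conj l2 h4, (com_iff l2 l1).1 h5⟩, Φ e.2.2, NM_nd l3 h6, ?_,
    (com_iff l3 l1).1 h7⟩
  · rw [Φ_sq l1]
    exact NM_nd (lk_lt _ _) h9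
  · rw [Φ_sq l1]
    intro h10
    have h11 := Φ_inj l3 (lk_lt _ _) h10
    rw [← h11, Nat.beq_refl] at h8
    exact absurd (nt_spec h8) (by decide)

theorem Fd (u : G3) (hu : (u * u) * (u * u) = 1) (hu1 : u * u ≠ 1) : Q u := by
  have h0 : u ^ 2 ^ 2 = 1 := by
    rw [show (2 : ℕ) ^ 2 = 2 + 2 by norm_num, pow_add, pow_two, hu]
  obtain ⟨c, hc⟩ := syl'.2 _ (SylLem.two_closure h0)
  obtain ⟨i, hi, h2⟩ := mem_S.1 (hc u (Subgroup.subset_closure rfl))
  apply Q_c (h := c)
  rw [h2]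
  have e1 : lk SQ (lk SQ i) = 0 := by
    apply Φ_eq_one (lk_lt _ _)
    rw [← Φ_sq (lk_lt _ _), ← Φ_sq hi, ← h2, ← c_mul, ← c_mul, hu, c_one]
  have e2 : lk SQ i ≠ 0 := by
    intro e3
    apply hu1
    rw [← c_eq_one (h := c), c_mul, h2, Φ_sq hi, e3, Φ_zero]
  have h3 := imp_spec (allB_spec FD_chk i hi) (an_intro (nt_intro (by
      cases hb : Nat.beq (lk SQ i) 0 with
      | false => rfl
      | true => exact absurd (Nat.eq_of_beq_eq_true hb) e2)) (by rw [e1]; rfl))
  rcases or2_spec h3 with h4 | h4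
  · obtain ⟨e, he, s, -, h5⟩ := rep_of hi h4
    apply Q_c (h := s)
    rw [h5]
    exact Q_FDL he
  · obtain ⟨e, he, s, -, h5⟩ := rep_of hi h4
    apply Q_c (h := s)
    rw [h5]
    obtain ⟨k1, h⟩ := an_spec (faL_spec BDL_chk e he)
    obtain ⟨k2, h⟩ := an_spec h
    obtain ⟨k3, k4⟩ := an_spec h
    apply Q_c (h := wd e.2.1)
    rw [cjc_spec k3]
    obtain ⟨f, hf, s', -, h6⟩ := rep_of (lt_of_mul0 k2) k4
    apply Q_c (h := s')
    rw [h6]
    exact Q_FDL hf

/-! ### (Gb) and (Gc) -/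

theorem isG_of {i : ℕ} (hi : i < 1024) (h2 : i % 2 = 0) (h3 : Φ i * Φ i ∈ W) (h4 : Φ i * Φ i ≠ 1) :
    isG i = true := by
  rw [Φ_sq hi] at h3 h4
  have h5 := (Φ_W (lk_lt _ _)).1 h3
  refine an_intro (by rw [show Nat.mod i 2 = 0 from h2]; rfl) ?_
  rw [fr_eq]
  refine an_intro (nt_intro ?_) (by rw [show Nat.mod (lk SQ i) 256 = 0 from h5]; rfl)
  cases hb : Nat.beq (lk SQ i) 0 with
  | false => rfl
  | true =>
    rw [Nat.eq_of_beq_eq_true hb, Φ_zero] at h4
    exact absurd rfl h4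

/-- the statement (Gb) -/
def R (u : G3) : Prop := ∃ a b, IsConj (Φ 8) a ∧ (∀ x ∈ W, a * x = x * a) ∧ a * u = u * a ∧
  Nd (Φ 8) b ∧ b ∉ W ∧ (∀ x ∈ W, b * x = x * b) ∧ b * u = u * b

/-- the statement (Gc) -/
def T (u u' : G3) : Prop := ∃ a b, IsConj (Φ 8) a ∧ (∀ x ∈ W, a * x = x * a) ∧ a * u = u * a ∧
  a * u' = u' * a ∧ Nd (Φ 8) b ∧ b ∉ W ∧ (∀ x ∈ W, b * x = x * b) ∧ b * u = u * b ∧ b * u' = u' * b

theorem cW_back {n g : G3} (hn : n ∈ Subgroup.normalizer (W : Set G3)) (h : ∀ x ∈ W, g * x = x * g) :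
    ∀ x ∈ W, (n * g * n⁻¹) * x = x * (n * g * n⁻¹) := by
  have := cW_c (Subgroup.inv_mem _ hn) h
  rwa [inv_inv] at this

theorem W_back {n x : G3} (hn : n ∈ Subgroup.normalizer (W : Set G3)) : n * x * n⁻¹ ∈ W ↔ x ∈ W := by
  rw [← Subgroup.mem_normalizer_iff.1 hn x]

theorem T_c {u u' n : G3} (hn : n ∈ Subgroup.normalizer (W : Set G3))
    (h : T (n⁻¹ * u * n) (n⁻¹ * u' * n)) : T u u' := by
  obtain ⟨a, b, h1, h2, h3, h4, h5, h6, h7, h8, h9⟩ := h
  refine ⟨n * a * n⁻¹, n * b * n⁻¹, ?_, cW_back hn h2, ?_, ?_, ?_, ?_, cW_back hn h7, ?_, ?_⟩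
  · rw [← isConj_c n, c_back]; exact h1
  · rw [← c_comm_iff n, c_back]; exact h3
  · rw [← c_comm_iff n, c_back]; exact h4
  · rw [← nd_c n, c_back]; exact h5
  · rw [W_back hn]; exact h6
  · rw [← c_comm_iff n, c_back]; exact h8
  · rw [← c_comm_iff n, c_back]; exact h9

theorem R_c {u n : G3} (hn : n ∈ Subgroup.normalizer (W : Set G3)) (h : R (n⁻¹ * u * n)) : R u := by
  obtain ⟨a, b, h1, h2, h3, h5, h6, h7, h8⟩ := h
  refine ⟨n * a * n⁻¹, n * b * n⁻¹, ?_, cW_back hn h2, ?_, ?_, ?_, cW_back hn h7, ?_⟩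
  · rw [← isConj_c n, c_back]; exact h1
  · rw [← c_comm_iff n, c_back]; exact h3
  · rw [← nd_c n, c_back]; exact h5
  · rw [W_back hn]; exact h6
  · rw [← c_comm_iff n, c_back]; exact h8

theorem R_GBL {e : ℕ × ℕ × ℕ} (he : e ∈ GBL) : R (Φ e.1) := by
  obtain ⟨h1, h⟩ := an_spec (faL_spec GBL_chk e he)
  obtain ⟨h2, h⟩ := an_spec h
  obtain ⟨h3, h⟩ := an_spec h
  obtain ⟨h4, h⟩ := an_spec h
  obtain ⟨h5, h⟩ := an_spec h
  obtain ⟨h6, h⟩ := an_spec h
  obtain ⟨h7, h8⟩ := an_spec h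
  have l1 := lt_of_mul0 h1
  have l2 := lt_of_mul0 h2
  have l3 := lt_of_mul0 h3
  refine ⟨Φ e.2.1, Φ e.2.2, DM_conj l2 h4, (even_iff l2).2 (mod_of_mul0 h2), (com_iff l2 l1).1 h5,
    NM_nd l3 h6, ?_, (even_iff l3).2 (mod_of_mul0 h3), (com_iff l3 l1).1 h7⟩
  rw [Φ_W l3]
  intro h9
  rw [show Nat.mod e.2.2 256 = 0 from h9] at h8
  exact absurd (nt_spec h8) (by decide)

theorem Gb (u : G3) (h1 : ∀ x ∈ W, u * x = x * u) (h2 : u * u ∈ W) (h3 : u * u ≠ 1) : R u := by
  have hW2 : ∀ x ∈ W, x * x = 1 := by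
    intro x hx
    obtain ⟨i, hi, hi', rfl⟩ := mem_W'.1 hx
    have h : lk SQ i = 0 := by
      have : i = 0 ∨ i = 512 ∨ i = 256 ∨ i = 768 := by omega
      rcases this with rfl | rfl | rfl | rfl <;> decide +kernel
    rw [Φ_sq hi, h, Φ_zero]
  have h0 : u ^ 2 ^ 2 = 1 := by
    rw [show (2 : ℕ) ^ 2 = 2 + 2 by norm_num, pow_add, pow_two, hW2 _ h2]
  obtain ⟨n, hn, h4⟩ := syl_W {u} (SylLem.two_closure h0) (by rintro x rfl; exact h1)
  obtain ⟨i, hi, hi2, h5⟩ := h4 _ rfl
  apply R_c hn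
  rw [h5]
  have h6 : isG i = true := by
    apply isG_of hi hi2
    · rw [← h5, ← c_mul, W_c hn]; exact h2
    · rw [← h5, ← c_mul, Ne, c_eq_one]; exact h3
  obtain ⟨e, he, s, hs, h7⟩ := rep_of hi (imp_spec (allB_spec GB_chk i hi) h6)
  apply R_c (S_W hs)
  rw [h7]
  exact R_GBL he

theorem Gc (u u' x : G3) (h1 : ∀ y ∈ W, u * y = y * u) (h2 : ∀ y ∈ W, u' * y = y * u')
    (h3 : ∀ y ∈ W, x * y = y * x) (h4 : u * u' = u' * u) (h5 : u * u ∈ W) (h6 : u * u ≠ 1)
    (h7 : u' * u' ∈ W) (h8 : u' * u' ≠ 1) (h9 : u * u ≠ u' * u') (h10 : x * x = 1) (h11 : x ∉ W)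
    (h12 : x * u = u * x) (h13 : x * u' * x = u'⁻¹) : T u u' := by
  have hW2 : ∀ x ∈ W, x * x = 1 := by
    intro x hx
    obtain ⟨i, hi, hi', rfl⟩ := mem_W'.1 hx
    have h : lk SQ i = 0 := by
      have : i = 0 ∨ i = 512 ∨ i = 256 ∨ i = 768 := by omega
      rcases this with rfl | rfl | rfl | rfl <;> decide +kernel
    rw [Φ_sq hi, h, Φ_zero]
  obtain ⟨n, hn, h14⟩ := syl_W {u, u', x} (SylLem.two_closure3 (hW2 _ h5) (hW2 _ h7) h10 h4 h12 h13)
    (by
      rintro y (rfl | rfl | rfl)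
      · exact h1
      · exact h2
      · exact h3)
  obtain ⟨i, hi, hi2, ei⟩ := h14 u (by simp)
  have h6' : isG i = true := by
    apply isG_of hi hi2
    · rw [← ei, ← c_mul, W_c hn]; exact h5
    · rw [← ei, ← c_mul, Ne, c_eq_one]; exact h6
  obtain ⟨e, he, s, hs, h15⟩ := rep_of hi (imp_spec (allB_spec GC_chk i hi) h6')
  have hns : n * s ∈ Subgroup.normalizer (W : Set G3) := Subgroup.mul_mem _ hn (S_W hs)
  apply T_c hns
  have eu : (n * s)⁻¹ * u * (n * s) = Φ e.1 := by rw [cc, ei, h15]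
  -- the other two elements
  have hmove : ∀ y : G3, y ∈ ({u, u', x} : Set G3) → (∀ z ∈ W, y * z = z * y) →
      ∃ j, j < 1024 ∧ j % 2 = 0 ∧ (n * s)⁻¹ * y * (n * s) = Φ j := by
    intro y hy hyW
    obtain ⟨j, hj, -, ej⟩ := h14 y hy
    have : (n * s)⁻¹ * y * (n * s) ∈ S := by
      rw [cc, ej]
      exact S.mul_mem (S.mul_mem (S.inv_mem hs) (Φ_S hj)) hs
    obtain ⟨j', hj', ej'⟩ := mem_S.1 this
    refine ⟨j', hj', (even_iff hj').1 ?_, ej'⟩
    rw [← ej']
    exact cW_c hns hyW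
  obtain ⟨j, hj, hj2, ej⟩ := hmove u' (by simp) h2
  obtain ⟨k, hk, hk2, ek⟩ := hmove x (by simp) h3
  obtain ⟨l1, g1⟩ := an_spec (faL_spec GCL_chk1 e he)
  have r1 := lt_of_mul0 l1
  have g2 := faL_spec GCL_chk2 e he
  have g3 := faL_spec GCL_chk3 e he
  have hGj : isG j = true := by
    apply isG_of hj hj2
    · rw [← ej, ← c_mul, W_c hns]; exact h7
    · rw [← ej, ← c_mul, Ne, c_eq_one]; exact h8
  have hsq : nt (Nat.beq (lk SQ j) (lk SQ e.1)) = true := by
    apply nt_intro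
    cases hb : Nat.beq (lk SQ j) (lk SQ e.1) with
    | false => rfl
    | true =>
      exfalso
      apply h9
      apply c_inj (h := n * s)
      rw [c_mul, c_mul, eu, ej, Φ_sq r1, Φ_sq hj, Nat.eq_of_beq_eq_true hb]
  have hcj : com e.1 j = true := by
    apply (com_iff r1 hj).2
    rw [← eu, ← ej]
    exact c_comm _ h4
  have hck : com k e.1 = true := by
    apply (com_iff hk r1).2
    rw [← eu, ← ek]
    exact c_comm _ h12
  have g4 := imp_spec (imp_spec (imp_spec (allB_spec g3 j hj) hGj) hsq) hcj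
  rcases or2_spec g4 with g5 | g5
  · obtain ⟨p, hp, g6⟩ := exL_spec g5
    obtain ⟨g7, g8⟩ := an_spec g6
    obtain ⟨k1, h⟩ := an_spec (faL_spec g1 p hp)
    obtain ⟨k2, h⟩ := an_spec h
    obtain ⟨k3, h⟩ := an_spec h
    obtain ⟨k4, h⟩ := an_spec h
    obtain ⟨k5, h⟩ := an_spec h
    obtain ⟨k6, k7⟩ := an_spec h
    have q1 := lt_of_mul0 k1
    have q2 := lt_of_mul0 k2
    rw [eu, ej]
    refine ⟨Φ p.1, Φ p.2, DM_conj q1 k3, (even_iff q1).2 (mod_of_mul0 k1), (com_iff q1 r1).1 k4,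
      (com_iff q1 hj).1 g7, NM_nd q2 k5, ?_, (even_iff q2).2 (mod_of_mul0 k2), (com_iff q2 r1).1 k6,
      (com_iff q2 hj).1 g8⟩
    rw [Φ_W q2]
    intro h9
    rw [show Nat.mod p.2 256 = 0 from h9] at k7
    exact absurd (nt_spec k7) (by decide)
  · exfalso
    -- `k` is in the list
    have hk0 : lk SQ k = 0 := by
      apply Φ_eq_one (lk_lt _ _)
      rw [← Φ_sq hk, ← ek, ← c_mul, h10, c_one]
    have hkW : nt (Nat.beq (Nat.mod k 256) 0) = true := by
      apply nt_intro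
      cases hb : Nat.beq (Nat.mod k 256) 0 with
      | false => rfl
      | true =>
        exfalso
        apply h11
        rw [← W_c hns, ek, Φ_W hk]
        exact Nat.eq_of_beq_eq_true hb
    have g6 := imp_spec (imp_spec (imp_spec (imp_spec (allB_spec g2 k hk) (by rw [hk0]; rfl))
      (by rw [show Nat.mod k 2 = 0 from hk2]; rfl)) hkW) hck
    obtain ⟨k', hk', g7⟩ := exL_spec g6
    have g8 := faL_spec g5 k' hk'
    rw [Nat.eq_of_beq_eq_true g7] at g8
    have g9 : lk SQ (mulS k j) = 0 := by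
      apply Φ_eq_one (lk_lt _ _)
      rw [← Φ_sq (mulS_lt _ _ hj), ← Φ_mul _ _ hj, ← ek, ← ej, ← c_mul, ← c_mul, c_eq_one]
      calc x * u' * (x * u') = x * u' * x * u' := by group
        _ = 1 := by rw [h13, inv_mul_cancel]
    rw [g9] at g8
    exact absurd (nt_spec g8) (by decide)

/-! ### `Y3`, `K3`, `E` -/

theorem mul_lt {n c i : ℕ} (hn : n * c = 1024) (hi : i < 1024) (h : i % n = 0) :
    ∃ a, a < c ∧ i = n * a := by
  obtain ⟨a, rfl⟩ := Nat.dvd_of_mod_eq_zero h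
  refine ⟨a, ?_, rfl⟩
  by_contra h1
  have := Nat.mul_le_mul_left n (Nat.le_of_not_lt h1)
  omega

theorem Y3_cases {i : ℕ} (hi : i < 1024) (h : i % 128 = 0) : i = 0 ∨ tb NM i = true := by
  obtain ⟨a, ha, rfl⟩ := mul_lt (c := 8) rfl hi h
  have h1 := allB_spec Y3_chk a ha
  rw [fr_eq] at h1
  rcases or2_spec (an_spec h1).2 with h2 | h2
  · exact Or.inl (Nat.eq_of_beq_eq_true h2)
  · exact Or.inr h2

theorem nd_Y3 (x : G3) (hx : x ∈ Y3) (h1 : x ≠ 1) : Nd (Φ 8) x := by
  obtain ⟨i, hi, hi', rfl⟩ := mem_Y3'.1 hx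
  rcases Y3_cases hi hi' with rfl | h
  · exact absurd Φ_zero h1
  · exact NM_nd hi h

theorem comm_Y3 (a : G3) (ha : a ∈ Y3) (b : G3) (hb : b ∈ Y3) : a * b = b * a := by
  obtain ⟨i, hi, hi', rfl⟩ := mem_Y3'.1 ha
  obtain ⟨j, hj, hj', rfl⟩ := mem_Y3'.1 hb
  obtain ⟨a, ha', rfl⟩ := mul_lt (c := 8) rfl hi hi'
  obtain ⟨b, hb', rfl⟩ := mul_lt (c := 8) rfl hj hj'
  exact (com_iff hi hj).1 (allB_spec (allB_spec Y3_comm_chk a ha') b hb')

theorem comm_K3 (a : G3) (ha : a ∈ K3) (b : G3) (hb : b ∈ K3) : a * b = b * a := by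
  obtain ⟨i, hi, hi', rfl⟩ := mem_K3'.1 ha
  obtain ⟨j, hj, hj', rfl⟩ := mem_K3'.1 hb
  obtain ⟨a, ha', rfl⟩ := mul_lt (c := 64) rfl hi hi'
  obtain ⟨b, hb', rfl⟩ := mul_lt (c := 64) rfl hj hj'
  exact (com_iff hi hj).1 (allB_spec (allB_spec K3_comm_chk a ha') b hb')

theorem K3_spec {i : ℕ} (hi : i < 1024) (h : i % 16 = 0) :
    lk SQ i % 128 = 0 ∧ (lk SQ i = 0 → i % 128 = 0) ∧ lk SQ (mulS 8 i) = 0 := by
  obtain ⟨a, ha, rfl⟩ := mul_lt (c := 64) rfl hi h
  have h1 := allB_spec K3_chk a ha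
  rw [fr_eq] at h1
  obtain ⟨h2, h3⟩ := an_spec h1
  obtain ⟨h4, h5⟩ := an_spec h3
  refine ⟨Nat.eq_of_beq_eq_true h2, fun h6 => ?_, Nat.eq_of_beq_eq_true h5⟩
  exact Nat.eq_of_beq_eq_true (imp_spec h4 (by rw [show lk SQ (Nat.mul 16 a) = 0 from h6]; rfl))

theorem sq_K3 (k : G3) (hk : k ∈ K3) : k * k ∈ Y3 := by
  obtain ⟨i, hi, hi', rfl⟩ := mem_K3'.1 hk
  rw [Φ_sq hi, Φ_Y3 (lk_lt _ _)]
  exact (K3_spec hi hi').1

theorem ker_K3 (k : G3) (hk : k ∈ K3) (h : k * k = 1) : k ∈ Y3 := by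
  obtain ⟨i, hi, hi', rfl⟩ := mem_K3'.1 hk
  rw [Φ_sq hi] at h
  exact (Φ_Y3 hi).2 ((K3_spec hi hi').2.1 (Φ_eq_one (lk_lt _ _) h))

theorem t_ne : Φ 8 ≠ 1 := by
  intro h
  exact absurd (Φ_eq_one (by norm_num) h) (by norm_num)

theorem free_K3 (k : G3) (hk : k ∈ K3) : ¬ IsConj (Φ 8) k := by
  intro h
  have h1 : k * k = 1 := by
    obtain ⟨c, rfl⟩ := isConj_iff.1 h
    have : c * Φ 8 * c⁻¹ * (c * Φ 8 * c⁻¹) = c * (Φ 8 * Φ 8) * c⁻¹ := by group
    rw [this, t_sq]
    group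
  have h2 := ker_K3 k hk h1
  by_cases h3 : k = 1
  · subst h3
    obtain ⟨c, hc⟩ := isConj_iff.1 h
    apply t_ne
    have : Φ 8 = c⁻¹ * (c * Φ 8 * c⁻¹) * c := by group
    rw [this, hc]
    group
  · exact (nd_Y3 k h2 h3).2.2 h

theorem inv_K3 (k : G3) (hk : k ∈ K3) : Φ 8 * k * Φ 8 = k⁻¹ := by
  obtain ⟨i, hi, hi', rfl⟩ := mem_K3'.1 hk
  have h1 := (K3_spec hi hi').2.2
  have h2 : Φ 8 * Φ i * (Φ 8 * Φ i) = 1 := by
    rw [Φ_mul 8 i hi, Φ_sq (mulS_lt _ _ hi), h1, Φ_zero]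
  have h3 : Φ 8 * Φ i * Φ 8 * Φ i = 1 := by
    rw [← h2]; group
  exact eq_inv_of_mul_eq_one_left h3

theorem mem_Y3 (x : G3) : x ∈ Y3 ↔ x ∈ W ∨ Φ 128 * x ∈ W := by
  constructor
  · intro hx
    obtain ⟨i, hi, hi', rfl⟩ := mem_Y3'.1 hx
    obtain ⟨a, ha, rfl⟩ := mul_lt (c := 8) rfl hi hi'
    have h1 := allB_spec Y3_chk a ha
    rw [fr_eq] at h1
    rcases or2_spec (an_spec h1).1 with h2 | h2
    · exact Or.inl ((Φ_W hi).2 (Nat.eq_of_beq_eq_true h2))
    · right
      rw [Φ_mul _ _ hi, Φ_W (mulS_lt _ _ hi)]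
      exact Nat.eq_of_beq_eq_true h2
  · rintro (h | h)
    · exact W_Y3 h
    · have h1 : Φ 128 ∈ Y3 := (Φ_Y3 (by norm_num)).2 (by norm_num)
      have h2 : x = (Φ 128)⁻¹ * (Φ 128 * x) := by group
      rw [h2]
      exact Y3.mul_mem (Y3.inv_mem h1) (W_Y3 h)

theorem P3_of {i : ℕ} (hi : i < 1024) (h : ∀ x ∈ Y3, Φ i * x = x * Φ i) : i % 8 = 0 := by
  have h0 := an_spec (allB_spec even_chk i hi)
  have h1 := an_spec (an_spec h0.2).2
  have c1 := (com_iff hi (by norm_num : 256 < 1024)).2 (h _ (W_Y3 Φ256_W))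
  have c2 := (com_iff hi (by norm_num : 128 < 1024)).2 (h _ ((Φ_Y3 (by norm_num)).2 (by norm_num)))
  exact Nat.eq_of_beq_eq_true (imp_spec h1.2 (an_intro c1 c2))

theorem of_P3 {i : ℕ} (hi : i < 1024) (h : i % 8 = 0) (x : G3) (hx : x ∈ Y3) : Φ i * x = x * Φ i := by
  have h0 := an_spec (allB_spec even_chk i hi)
  have h1 := an_spec (an_spec h0.2).2
  have c2 := (com_iff hi (by norm_num : 128 < 1024)).1 (imp_spec h1.1
    (by rw [show Nat.mod i 8 = 0 from h]; rfl))
  have cW' := (even_iff hi).2 (by omega)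
  have h128 : x = (Φ 128)⁻¹ * (Φ 128 * x) := by group
  rcases (mem_Y3 x).1 hx with h2 | h2
  · exact cW' x h2
  · have h3 := cW' _ h2
    have c3 : Φ i * (Φ 128)⁻¹ = (Φ 128)⁻¹ * Φ i := by
      rw [eq_inv_mul_iff_mul_eq, ← mul_assoc, ← c2]; group
    rw [h128, ← mul_assoc, c3, mul_assoc, h3, ← mul_assoc]

theorem P3_spec {i : ℕ} (hi : i < 1024) (h : i % 8 = 0) :
    lk SQ i % 128 = 0 ∧ (i % 16 = 0 ∨ tb DM i = true ∨ mulS 72 i % 128 = 0) := by
  obtain ⟨a, ha, rfl⟩ := mul_lt (c := 128) rfl hi h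
  have h1 := allB_spec P3_chk a ha
  rw [fr_eq] at h1
  obtain ⟨h2, h3⟩ := an_spec h1
  refine ⟨Nat.eq_of_beq_eq_true h2, ?_⟩
  rcases or2_spec h3 with h4 | h4
  · exact Or.inl (Nat.eq_of_beq_eq_true h4)
  rcases or2_spec h4 with h5 | h5
  · exact Or.inr (Or.inl h5)
  · exact Or.inr (Or.inr (Nat.eq_of_beq_eq_true h5))

theorem e0_sq : Φ 72 * Φ 72 = 1 := by
  rw [Φ_sq (by norm_num), Nat.eq_of_beq_eq_true (an_spec misc_chk).1, Φ_zero]

theorem e0_inv : (Φ 72)⁻¹ = Φ 72 := inv_eq_of_mul_eq_one_right e0_sq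

theorem e0_spec {i : ℕ} (hi : i < 1024) (h : i % 128 = 0) : com 72 i = true ∧ tb NM (mulS 72 i) = true := by
  obtain ⟨a, ha, rfl⟩ := mul_lt (c := 8) rfl hi h
  have h1 := allB_spec e0_chk a ha
  rw [fr_eq] at h1
  exact an_spec h1

theorem H6 : ∃ d ∈ S, (∀ x ∈ Y3, d * x = x * d) ∧ d ∉ Y3 ∧ (Φ 72)⁻¹ * d ∉ Y3 ∧
    d * Φ 72 * d⁻¹ ≠ Φ 8 * Φ 72 * (Φ 8)⁻¹ := by
  have hd : Φ 24 * Φ 24 = 1 := by
    rw [Φ_sq (by norm_num)]
    obtain ⟨-, h⟩ := an_spec misc_chk
    obtain ⟨-, h⟩ := an_spec h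
    obtain ⟨-, h⟩ := an_spec h
    obtain ⟨-, h⟩ := an_spec h
    obtain ⟨-, h⟩ := an_spec h
    obtain ⟨-, h⟩ := an_spec h
    obtain ⟨h, -⟩ := an_spec h
    rw [Nat.eq_of_beq_eq_true h, Φ_zero]
  obtain ⟨d1, d2⟩ := an_spec d_chk
  refine ⟨Φ 24, Φ_S (by norm_num), of_P3 (by norm_num) (by norm_num), ?_, ?_, ?_⟩
  · rw [Φ_Y3 (by norm_num)]
    norm_num
  · rw [e0_inv, Φ_mul _ _ (by norm_num), Φ_Y3 (mulS_lt _ _ (by norm_num))]
    intro h
    rw [show Nat.mod (mulS 72 24) 128 = 0 from h] at d1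
    exact absurd (nt_spec d1) (by decide)
  · rw [inv_eq_of_mul_eq_one_right hd, inv_eq_of_mul_eq_one_right t_sq, mul_assoc, mul_assoc,
      Φ_mul 72 24 (by norm_num), Φ_mul 24 _ (mulS_lt _ _ (by norm_num)), Φ_mul 72 8 (by norm_num),
      Φ_mul 8 _ (mulS_lt _ _ (by norm_num))]
    intro h
    have h1 := Φ_inj (mulS_lt _ _ (mulS_lt _ _ (by norm_num))) (mulS_lt _ _ (mulS_lt _ _ (by norm_num))) h
    obtain ⟨-, h⟩ := an_spec misc_chk
    obtain ⟨-, h⟩ := an_spec h
    obtain ⟨-, h⟩ := an_spec h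
    obtain ⟨-, h⟩ := an_spec h
    obtain ⟨-, h⟩ := an_spec h
    obtain ⟨-, h⟩ := an_spec h
    obtain ⟨-, h⟩ := an_spec h
    rw [h1, Nat.beq_refl] at h
    exact absurd (nt_spec h) (by decide)

/-- The facts. -/
noncomputable def facts : Facts G3 where
  t := Φ 8
  y := Φ 4
  v := Φ 512
  w := Φ 256
  z := Φ 128
  e0 := Φ 72
  W := W
  Y3 := Y3
  K3 := K3
  S := S
  t_mul := t_sq
  t_ne := t_ne
  y_conj := DM_conj (by norm_num) (an_spec (an_spec (an_spec misc_chk).2).2).1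
  ty_conj := by
    rw [Φ_mul _ _ (by norm_num)]
    exact DM_conj (mulS_lt _ _ (by norm_num)) (an_spec (an_spec (an_spec (an_spec misc_chk).2).2).2).1
  t_y := (com_iff (by norm_num) (by norm_num)).1
    (an_spec (an_spec (an_spec (an_spec (an_spec misc_chk).2).2).2).2).1
  t_S := Φ_S (by norm_num)
  y_S := Φ_S (by norm_num)
  v_nd := NM_nd (by norm_num) (by decide +kernel)
  w_nd := NM_nd (by norm_num) (by decide +kernel)
  z_nd := NM_nd (by norm_num) (by decide +kernel)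
  v_w := v_comm (by norm_num)
  v_z := v_comm (by norm_num)
  w_z := comm_Y3 _ (W_Y3 Φ256_W) _ ((Φ_Y3 (by norm_num)).2 (by norm_num))
  v_ne_w := by
    intro h
    exact absurd (Φ_inj (by norm_num) (by norm_num) h) (by norm_num)
  mem_W := mem_W
  mem_Y3 := mem_Y3
  z_notin := by
    rw [Φ_W (by norm_num)]
    norm_num
  nd_Y3 := nd_Y3
  comm_Y3 := comm_Y3
  two_S := two_S
  syl := syl'.2
  W_S := W_S
  Y3_S := Y3_S
  K3_S := K3_S
  Y3_K3 := Y3_K3
  S_W := S_W
  S_Y3 := S_Y3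
  S_K3 := S_K3
  F0 := F0
  Fc := Fc
  F1 := F1
  F2 := F2
  Fa := of_P3 (by norm_num) (by norm_num)
  Fd := Fd
  Gb := Gb
  Gc := Gc
  H1 := by
    intro p hp h
    obtain ⟨i, hi, rfl⟩ := mem_S.1 hp
    rw [Φ_sq hi, Φ_Y3 (lk_lt _ _)]
    exact (P3_spec hi (P3_of hi h)).1
  comm_K3 := comm_K3
  free_K3 := free_K3
  sq_K3 := sq_K3
  ker_K3 := ker_K3
  inv_K3 := inv_K3
  four_K3 := by
    refine ⟨Φ 16, (Φ_K3 (by norm_num)).2 (by norm_num), ?_⟩
    rw [Φ_sq (by norm_num)]
    intro h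
    have h1 := Φ_eq_one (lk_lt _ _) h
    have h2 := (an_spec (an_spec misc_chk).2).1
    rw [h1] at h2
    exact absurd (nt_spec h2) (by decide)
  P3_cases := by
    intro p hp h
    obtain ⟨i, hi, rfl⟩ := mem_S.1 hp
    rcases (P3_spec hi (P3_of hi h)).2 with h1 | h1 | h1
    · exact Or.inl ((Φ_K3 hi).2 h1)
    · exact Or.inr (Or.inl (DM_conj hi h1))
    · right; right
      rw [e0_inv, Φ_mul _ _ hi, Φ_Y3 (mulS_lt _ _ hi)]
      exact h1
  e0_S := Φ_S (by norm_num)
  e0_Y3 := of_P3 (by norm_num) (by norm_num)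
  e0_K3 := by
    rw [Φ_K3 (by norm_num)]
    norm_num
  e0_mul := e0_sq
  free_E := by
    intro x hx
    obtain ⟨i, hi, hi', rfl⟩ := mem_Y3'.1 hx
    rw [Φ_mul _ _ hi]
    exact (NM_nd (mulS_lt _ _ hi) (e0_spec hi hi').2).2.2
  H6 := H6

theorem facts_t : facts.t = m 0 := t_eq

end Cfsg.Agent.CoThreeStd.HInst
end

-- part: CoThreeStd/Step
section
/-!
# The relative closing step

`D` is a set of elements of `G`, closed under conjugation, each of which fixes at most one point of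
`G ⧸ H`.  Let `Y ≤ H` be an abelian 2-subgroup whose `G`-conjugates in `H` are `H`-conjugate, and
let `P` be a Sylow 2-subgroup of `C_H(Y)` which meets `D`.  If `Y` fixes two points of `G ⧸ H`, then
there is a subgroup `X`, `Y ≤ X ≤ P`, which fixes two points (so `X` is `D`-free) and such that all
involutions of `N_C(X) / X`, `C = C_G(Y)`, are conjugate (`exists_step`).
-/

set_option autoImplicit false

namespace Cfsg.Agent.CoThreeStd.Step

open Cfsg.Agent.SporRec.Closing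

variable {G : Type*} [Group G]

/-- the subgroup `S` fixes two points of `G ⧸ H` -/
def Two (H S : Subgroup G) : Prop := ∃ x y : G ⧸ H, x ∈ Fix H S ∧ y ∈ Fix H S ∧ x ≠ y

theorem Two.mono {H S R : Subgroup G} (h : Two H S) (hRS : R ≤ S) : Two H R := by
  obtain ⟨x, y, hx, hy, hxy⟩ := h
  exact ⟨x, y, fun s hs => hx s (hRS hs), fun s hs => hy s (hRS hs), hxy⟩

/-- `g S g⁻¹` fixes two points iff `S` does -/
theorem Two.conj {H S R : Subgroup G} (h : Two H S) (g : G) (hRS : ∀ r ∈ R, g⁻¹ * r * g ∈ S) :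
    Two H R := by
  obtain ⟨x, y, hx, hy, hxy⟩ := h
  refine ⟨g • x, g • y, ?_, ?_, fun h => hxy (smul_left_cancel _ h)⟩
  · intro r hr
    have h1 := hx _ (hRS r hr)
    calc r • g • x = g • ((g⁻¹ * r * g) • x) := by rw [smul_smul, smul_smul]; congr 1; group
      _ = g • x := by rw [h1]
  · intro r hr
    have h1 := hy _ (hRS r hr)
    calc r • g • y = g • ((g⁻¹ * r * g) • y) := by rw [smul_smul, smul_smul]; congr 1; group
      _ = g • y := by rw [h1]

theorem two_iff {H S : Subgroup G} (hSH : S ≤ H) :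
    Two H S ↔ ∃ g, g ∉ H ∧ ∀ s ∈ S, g⁻¹ * s * g ∈ H := by
  have h1 : (QuotientGroup.mk 1 : G ⧸ H) ∈ Fix H S := by
    rw [mk_mem_Fix]
    intro s hs
    simpa using hSH hs
  constructor
  · rintro ⟨x, y, hx, hy, hxy⟩
    obtain ⟨z, hz, hz1⟩ : ∃ z ∈ Fix H S, z ≠ (QuotientGroup.mk 1 : G ⧸ H) := by
      by_cases h : x = QuotientGroup.mk 1
      · exact ⟨y, hy, fun h' => hxy (h.trans h'.symm)⟩
      · exact ⟨x, hx, h⟩
    induction z using QuotientGroup.induction_on with
    | H a =>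
      refine ⟨a, ?_, (mk_mem_Fix H S a).1 hz⟩
      intro ha
      apply hz1
      rw [eq_comm, QuotientGroup.eq]
      simpa using ha
  · rintro ⟨g, hg, hgS⟩
    refine ⟨QuotientGroup.mk 1, QuotientGroup.mk g, h1, (mk_mem_Fix H S g).2 hgS, ?_⟩
    intro h
    rw [QuotientGroup.eq] at h
    apply hg
    simpa using h

/-- if the trivial subgroup fixes only one point, then `H = ⊤` -/
theorem eq_top_of_not_two {H : Subgroup G} (h : ¬ Two H (⊥ : Subgroup G)) : H = ⊤ := by
  by_contra hne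
  apply h
  rw [two_iff bot_le]
  obtain ⟨g, hg⟩ : ∃ g, g ∉ H := by
    by_contra h
    push Not at h
    exact hne (Subgroup.eq_top_iff' H |>.2 h)
  refine ⟨g, hg, ?_⟩
  intro s hs
  rw [Subgroup.mem_bot.1 hs]
  simp

/-- The set-up of a step. -/
structure Setup (H : Subgroup G) (D : Set G) (Y P : Subgroup G) : Prop where
  /-- `D` is closed under conjugation -/
  conjD : ∀ d ∈ D, ∀ g : G, g * d * g⁻¹ ∈ D
  /-- elements of `D` fix at most one point -/
  one : ∀ d ∈ D, ∀ x y : G ⧸ H, d • x = x → d • y = y → x = y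
  /-- `Y` is abelian -/
  comm : ∀ a ∈ Y, ∀ b ∈ Y, a * b = b * a
  /-- `Y ≤ H` -/
  leH : Y ≤ H
  /-- `G`-conjugates of `Y` in `H` are `H`-conjugate to `Y` -/
  fus : ∀ g : G, (∀ y ∈ Y, g⁻¹ * y * g ∈ H) → ∃ h ∈ H, ∀ y ∈ Y, h⁻¹ * (g⁻¹ * y * g) * h ∈ Y
  /-- `P` is a 2-group -/
  two : IsPGroup 2 P
  /-- `P ≤ H` -/
  PH : P ≤ H
  /-- `P` centralises `Y` -/
  PC : ∀ a ∈ P, ∀ b ∈ Y, a * b = b * a
  /-- `Y ≤ P` -/
  YP : Y ≤ P
  /-- `P` is a Sylow 2-subgroup of `C_H(Y)` -/
  syl : ∀ R : Subgroup G, IsPGroup 2 R → R ≤ H → (∀ a ∈ R, ∀ b ∈ Y, a * b = b * a) →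
    ∃ c ∈ H, (∀ b ∈ Y, c * b = b * c) ∧ ∀ r ∈ R, c⁻¹ * r * c ∈ P
  /-- `P` meets `D` -/
  meet : ∃ d ∈ P, d ∈ D

/-- The output of a step. -/
structure IsStep (H : Subgroup G) (D : Set G) (Y P X : Subgroup G) : Prop where
  /-- `Y ≤ X` -/
  le : Y ≤ X
  /-- `X ≤ P` -/
  le' : X ≤ P
  /-- `X` is `D`-free -/
  free : ∀ x ∈ X, x ∉ D
  /-- `X` fixes two points -/
  two : Two H X
  /-- all involutions of `N_C(X)/X` are conjugate -/
  conj : ∀ a ∈ Subgroup.normalizer (X : Set G), (∀ b ∈ Y, a * b = b * a) → a ∉ X → a * a ∈ X →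
    ∀ a' ∈ Subgroup.normalizer (X : Set G), (∀ b ∈ Y, a' * b = b * a') → a' ∉ X → a' * a' ∈ X →
    ∃ n ∈ Subgroup.normalizer (X : Set G), (∀ b ∈ Y, n * b = b * n) ∧ n * a * n⁻¹ * a'⁻¹ ∈ X
  /-- `N_C(X)` is transitive on the fixed points of `X` -/
  trans : ∀ x y, x ∈ Fix H X → y ∈ Fix H X →
    ∃ n ∈ Subgroup.normalizer (X : Set G), (∀ b ∈ Y, n * b = b * n) ∧ n • x = y
  /-- the number of fixed points of `X` is odd -/
  odd : Odd (Nat.card {x : G ⧸ H // x ∈ Fix H X})
  /-- maximality -/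
  max : ∀ R : Subgroup G, IsPGroup 2 R → Y ≤ R → (∀ a ∈ R, ∀ b ∈ Y, a * b = b * a) → Two H R →
    Nat.card R ≤ Nat.card X

/-- in a 2-group a proper subgroup has an involution of its normaliser quotient -/
theorem exists_inv_mod [Finite G] (X P : Subgroup G) (hP : IsPGroup 2 P) (hXP : X ≤ P)
    (hne : X ≠ P) : ∃ a ∈ P, a ∈ Subgroup.normalizer (X : Set G) ∧ a ∉ X ∧ a * a ∈ X := by
  classical
  -- inside `P`
  let X' : Subgroup P := X.subgroupOf P
  have hX'ne : X' ≠ ⊤ := by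
    intro h
    apply hne
    rw [Subgroup.subgroupOf_eq_top] at h
    exact le_antisymm hXP h
  have hnil : Group.IsNilpotent P := hP.isNilpotent
  have hnc := Group.normalizerCondition_of_isNilpotent (G := P)
  have hlt := hnc X' (lt_top_iff_ne_top.2 hX'ne)
  obtain ⟨w, hwN, hwX⟩ := SetLike.exists_of_lt hlt
  -- the quotient `N/X`
  obtain ⟨k, hk⟩ := hP w
  -- least power of two landing in `X'`
  have hex : ∃ j, w ^ 2 ^ j ∈ X' := ⟨k, by rw [hk]; exact X'.one_mem⟩
  obtain ⟨j, hj, hjm⟩ : ∃ j, w ^ 2 ^ j ∈ X' ∧ ∀ i < j, w ^ 2 ^ i ∉ X' :=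
    ⟨Nat.find hex, Nat.find_spec hex, fun i hi => Nat.find_min hex hi⟩
  obtain ⟨i, rfl⟩ : ∃ i, j = i + 1 := by
    cases j with
    | zero => exact absurd (by simpa using hj) hwX
    | succ i => exact ⟨i, rfl⟩
  have hai := hjm i (Nat.lt_succ_self i)
  have hNi : w ^ 2 ^ i ∈ Subgroup.normalizer (X' : Set P) := Subgroup.pow_mem _ hwN _
  refine ⟨(w ^ 2 ^ i : P), (w ^ 2 ^ i : P).2, ?_, ?_, ?_⟩
  · rw [Subgroup.mem_normalizer_iff] at hNi ⊢
    intro h
    constructor
    · intro hh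
      have h1 := (hNi ⟨h, hXP hh⟩).1 (Subgroup.mem_subgroupOf.2 hh)
      exact Subgroup.mem_subgroupOf.1 h1
    · intro hh
      have hhP : h ∈ P := by
        have h2 := P.mul_mem (P.mul_mem (P.inv_mem (w ^ 2 ^ i : P).2) (hXP hh)) (w ^ 2 ^ i : P).2
        have e : ((w ^ 2 ^ i : P) : G)⁻¹ * (((w ^ 2 ^ i : P) : G) * h * ((w ^ 2 ^ i : P) : G)⁻¹) *
          ((w ^ 2 ^ i : P) : G) = h := by group
        rwa [e] at h2
      have h1 := (hNi ⟨h, hhP⟩).2 (Subgroup.mem_subgroupOf.2 hh)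
      exact Subgroup.mem_subgroupOf.1 h1
  · intro h
    exact hai (Subgroup.mem_subgroupOf.2 h)
  · have h1 : (w ^ 2 ^ i) * (w ^ 2 ^ i) ∈ X' := by
      rw [← pow_add, ← two_mul, ← pow_succ']
      exact hj
    exact Subgroup.mem_subgroupOf.1 h1

/-- adjoining an involution modulo `S` gives a larger 2-group -/
theorem exists_larger_ge [Finite G] (S : Subgroup G) (hS : IsPGroup 2 S) (x : G)
    (hx : x ∈ Subgroup.normalizer (S : Set G)) (hxS : x ∉ S) (hxx : x * x ∈ S) :
    ∃ R : Subgroup G, IsPGroup 2 R ∧ S ≤ R ∧ Nat.card S < Nat.card R ∧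
      ∀ r ∈ R, r ∈ S ∨ ∃ s ∈ S, r = x * s := by
  classical
  have hxi : ∀ s ∈ S, x⁻¹ * s * x ∈ S := by
    intro s hs
    have := (Subgroup.mem_normalizer_iff.1 (Subgroup.inv_mem _ hx) s).1 hs
    rwa [inv_inv] at this
  let R : Subgroup G :=
    { carrier := {r | r ∈ S ∨ ∃ s ∈ S, r = x * s}
      one_mem' := Or.inl S.one_mem
      mul_mem' := by
        rintro a b (ha | ⟨s, hs, rfl⟩) (hb | ⟨t, ht, rfl⟩)
        · exact Or.inl (S.mul_mem ha hb)
        · refine Or.inr ⟨x⁻¹ * a * x * t, S.mul_mem (hxi a ha) ht, ?_⟩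
          group
        · exact Or.inr ⟨s * b, S.mul_mem hs hb, by group⟩
        · refine Or.inl ?_
          have : x * s * (x * t) = (x * x) * (x⁻¹ * s * x) * t := by group
          rw [this]
          exact S.mul_mem (S.mul_mem hxx (hxi s hs)) ht
      inv_mem' := by
        rintro a (ha | ⟨s, hs, rfl⟩)
        · exact Or.inl (S.inv_mem ha)
        · refine Or.inr ⟨(x * x)⁻¹ * (x * s⁻¹ * x⁻¹), ?_, ?_⟩
          · exact S.mul_mem (S.inv_mem hxx)
              ((Subgroup.mem_normalizer_iff.1 hx _).1 (S.inv_mem hs))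
          · group }
  refine ⟨R, ?_, fun s hs => Or.inl hs, ?_, fun r hr => hr⟩
  · intro r
    obtain ⟨r, hr⟩ := r
    have hsq : r * r ∈ S := by
      rcases hr with h | ⟨s, hs, rfl⟩
      · exact S.mul_mem h h
      · have : x * s * (x * s) = (x * x) * (x⁻¹ * s * x) * s := by group
        rw [this]
        exact S.mul_mem (S.mul_mem hxx (hxi s hs)) hs
    obtain ⟨k, hk⟩ := hS ⟨r * r, hsq⟩
    refine ⟨k + 1, ?_⟩
    apply Subtype.ext
    have : (r * r) ^ 2 ^ k = 1 := congrArg Subtype.val hk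
    show r ^ 2 ^ (k + 1) = 1
    rw [pow_succ', pow_mul, pow_two, this]
  · have hle : S ≤ R := fun s hs => Or.inl hs
    have hlt : S < R := lt_of_le_of_ne hle (by
      intro h
      apply hxS
      rw [h]
      exact Or.inr ⟨1, S.one_mem, by group⟩)
    exact Set.ncard_lt_ncard (s := (S : Set G)) (t := (R : Set G)) hlt (Set.toFinite _)

/-- conjugating a 2-subgroup of `C_G(Y)` containing `Y` into `P`, prescribing the fixed point -/
theorem Setup.move [Finite G] {H : Subgroup G} {D : Set G} {Y P : Subgroup G} (h : Setup H D Y P)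
    (S : Subgroup G) (hS : IsPGroup 2 S) (hSC : ∀ a ∈ S, ∀ b ∈ Y, a * b = b * a)
    (hYS : Y ≤ S) (g : G) (hg : (QuotientGroup.mk g : G ⧸ H) ∈ Fix H S) :
    ∃ k : G, (QuotientGroup.mk k : G ⧸ H) = QuotientGroup.mk g ∧
      k ∈ Subgroup.normalizer (Y : Set G) ∧ ∀ s ∈ S, k⁻¹ * s * k ∈ P := by
  rw [mk_mem_Fix] at hg
  obtain ⟨x, hx, hxY⟩ := h.fus g (fun y hy => hg y (hYS hy))
  have hnY : (g * x)⁻¹ ∈ Subgroup.normalizer (Y : Set G) := by
    apply Subgroup.mem_normalizer_fintype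
    intro y hy
    have := hxY y hy
    have e : (g * x)⁻¹ * y * ((g * x)⁻¹)⁻¹ = x⁻¹ * (g⁻¹ * y * g) * x := by group
    rw [e]
    exact this
  have hnY' : g * x ∈ Subgroup.normalizer (Y : Set G) := by
    have := Subgroup.inv_mem _ hnY
    rwa [inv_inv] at this
  let R : Subgroup G := S.map (MulAut.conj (g * x)⁻¹).toMonoidHom
  have hR : IsPGroup 2 R := hS.map _
  have hRmem : ∀ r ∈ R, ∃ s ∈ S, (g * x)⁻¹ * s * (g * x) = r := by
    rintro _ ⟨s, hs, rfl⟩
    refine ⟨s, hs, ?_⟩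
    show (g * x)⁻¹ * s * (g * x) = (g * x)⁻¹ * s * ((g * x)⁻¹)⁻¹
    rw [inv_inv]
  obtain ⟨c, hc, hcY, hcR⟩ := h.syl R hR (by
    intro r hr
    obtain ⟨s, hs, rfl⟩ := hRmem r hr
    have := H.mul_mem (H.mul_mem (H.inv_mem hx) (hg s hs)) hx
    have e : (g * x)⁻¹ * s * (g * x) = x⁻¹ * (g⁻¹ * s * g) * x := by group
    rw [e]
    exact this) (by
    intro r hr b hb
    obtain ⟨s, hs, rfl⟩ := hRmem r hr
    have hb' : (g * x) * b * (g * x)⁻¹ ∈ Y := (Subgroup.mem_normalizer_iff.1 hnY' b).1 hb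
    have h1 := hSC s hs _ hb'
    calc (g * x)⁻¹ * s * (g * x) * b = (g * x)⁻¹ * (s * ((g * x) * b * (g * x)⁻¹)) * (g * x) := by
          group
      _ = _ := by rw [h1]; group)
  refine ⟨g * x * c, ?_, ?_, ?_⟩
  · rw [QuotientGroup.eq]
    have : (g * x * c)⁻¹ * g = c⁻¹ * x⁻¹ := by group
    rw [this]
    exact H.mul_mem (H.inv_mem hc) (H.inv_mem hx)
  · apply Subgroup.mul_mem _ hnY'
    rw [Subgroup.mem_normalizer_iff]
    intro y
    constructor
    · intro hy
      rw [hcY y hy, mul_inv_cancel_right]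
      exact hy
    · intro hy
      have h1 := hcY _ hy
      have h2 : y = c * y * c⁻¹ := by
        calc y = c⁻¹ * (c * y * c⁻¹ * c) := by group
          _ = c⁻¹ * (c * (c * y * c⁻¹)) := by rw [← h1]
          _ = c * y * c⁻¹ := by group
      rw [h2]
      exact hy
  · intro s hs
    have h1 := hcR _ ⟨s, hs, rfl⟩
    have e : (g * x * c)⁻¹ * s * (g * x * c) =
        c⁻¹ * ((MulAut.conj (g * x)⁻¹).toMonoidHom s) * c := by
      show (g * x * c)⁻¹ * s * (g * x * c) = c⁻¹ * ((g * x)⁻¹ * s * ((g * x)⁻¹)⁻¹) * c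
      group
    rw [e]
    exact h1

/-- a subgroup fixing two points is `D`-free -/
theorem Setup.free_of_two {H : Subgroup G} {D : Set G} {Y P : Subgroup G} (h : Setup H D Y P)
    {S : Subgroup G} (hS : Two H S) : ∀ x ∈ S, x ∉ D := by
  intro d hd hdD
  obtain ⟨x, y, hx, hy, hxy⟩ := hS
  exact hxy (h.one d hdD x y (hx d hd) (hy d hd))

/-- The core lemma. -/
theorem Setup.core [Finite G] {H : Subgroup G} {D : Set G} {Y P : Subgroup G} (h : Setup H D Y P)
    (S : Subgroup G) (hS : IsPGroup 2 S) (hSC : ∀ a ∈ S, ∀ b ∈ Y, a * b = b * a)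
    (hYS : Y ≤ S) (hS2 : Two H S)
    (hmax : ∀ R : Subgroup G, IsPGroup 2 R → Y ≤ R → (∀ a ∈ R, ∀ b ∈ Y, a * b = b * a) → Two H R →
      Nat.card R ≤ Nat.card S) :
    (∀ a ∈ Subgroup.normalizer (S : Set G), (∀ b ∈ Y, a * b = b * a) → a ∉ S → a * a ∈ S →
      ∀ a' ∈ Subgroup.normalizer (S : Set G), (∀ b ∈ Y, a' * b = b * a') → a' ∉ S → a' * a' ∈ S →
      ∃ n ∈ Subgroup.normalizer (S : Set G), (∀ b ∈ Y, n * b = b * n) ∧ n * a * n⁻¹ * a'⁻¹ ∈ S) ∧
    (∀ x y, x ∈ Fix H S → y ∈ Fix H S →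
      ∃ n ∈ Subgroup.normalizer (S : Set G), (∀ b ∈ Y, n * b = b * n) ∧ n • x = y) ∧
    Odd (Nat.card {x : G ⧸ H // x ∈ Fix H S}) := by
  classical
  let N : Subgroup G := Subgroup.normalizer (S : Set G) ⊓ Subgroup.centralizer (Y : Set G)
  have hNN : ∀ n : N, (n : G) ∈ Subgroup.normalizer (S : Set G) := fun n => n.2.1
  have hNC : ∀ n : G, n ∈ Subgroup.centralizer (Y : Set G) ↔ ∀ b ∈ Y, n * b = b * n := by
    intro n
    rw [Subgroup.mem_centralizer_iff]
    exact ⟨fun h b hb => (h b hb).symm, fun h b hb => (h b hb).symm⟩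
  let S' : Subgroup N := S.subgroupOf N
  have hnormal : S'.Normal := by
    constructor
    intro n hn g
    rw [Subgroup.mem_subgroupOf] at hn ⊢
    exact (Subgroup.mem_normalizer_iff.1 (hNN g) _).1 hn
  let act : N →* Equiv.Perm {x : G ⧸ H // x ∈ Fix H S} :=
    (actHom H S).comp (Subgroup.inclusion inf_le_left)
  have hact : ∀ (n : N) (x : {x : G ⧸ H // x ∈ Fix H S}), (act n x).1 = (n : G) • x.1 :=
    fun n x => rfl
  have hker : ∀ n ∈ S', act n = 1 := by
    intro n hn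
    apply Equiv.ext
    intro x
    apply Subtype.ext
    rw [hact]
    exact x.2 _ (Subgroup.mem_subgroupOf.1 hn)
  let φ : N ⧸ S' →* Equiv.Perm {x : G ⧸ H // x ∈ Fix H S} := QuotientGroup.lift S' act hker
  have hφ : ∀ (n : N) (x : {x : G ⧸ H // x ∈ Fix H S}),
      (φ (QuotientGroup.mk n) x).1 = (n : G) • x.1 := fun n x => rfl
  have hmk1 : ∀ n : N, (QuotientGroup.mk n : N ⧸ S') = 1 ↔ (n : G) ∈ S := by
    intro n
    rw [QuotientGroup.eq_one_iff, Subgroup.mem_subgroupOf]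
  have key := perm_lemma φ
    (by
      intro k hk1 hk2 d e hd he
      induction k using QuotientGroup.induction_on with
      | H n =>
        have h1 : (n : G) ∉ S := fun h => hk1 ((hmk1 n).2 h)
        have h2 : (n : G) * n ∈ S := (hmk1 (n * n)).1 hk2
        by_contra hde
        obtain ⟨R, hR2, hSR, hRc, hR⟩ := exists_larger_ge S hS n (hNN n) h1 h2
        have := hmax R hR2 (hYS.trans hSR) ?_ ⟨d.1, e.1, ?_, ?_, fun h => hde (Subtype.ext h)⟩
        · omega
        · intro r hr b hb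
          rcases hR r hr with h | ⟨s, hs, rfl⟩
          · exact hSC r h b hb
          · rw [mul_assoc, hSC s hs b hb, ← mul_assoc, (hNC n).1 n.2.2 b hb, mul_assoc]
        · intro r hr
          rcases hR r hr with h | ⟨s, hs, rfl⟩
          · exact d.2 r h
          · have := congrArg Subtype.val hd
            rw [hφ] at this
            rw [mul_smul, d.2 s hs, this]
        · intro r hr
          rcases hR r hr with h | ⟨s, hs, rfl⟩
          · exact e.2 r h
          · have := congrArg Subtype.val he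
            rw [hφ] at this
            rw [mul_smul, e.2 s hs, this])
    (by
      rintro ⟨d, hd⟩
      induction d using QuotientGroup.induction_on with
      | H g =>
        obtain ⟨k, hkg, hkY, hkS⟩ := h.move S hS hSC hYS g hd
        let X : Subgroup G := S.map (MulAut.conj k⁻¹).toMonoidHom
        have hXmem : ∀ x, x ∈ X ↔ k * x * k⁻¹ ∈ S := by
          intro x
          constructor
          · rintro ⟨s, hs, rfl⟩
            have : k * (MulAut.conj k⁻¹).toMonoidHom s * k⁻¹ = s := by simp; group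
            rw [this]
            exact hs
          · intro hx
            exact ⟨_, hx, by simp; group⟩
        have hXP : X ≤ P := by
          rintro _ ⟨s, hs, rfl⟩
          have := hkS s hs
          simpa using this
        have hX2 : Two H X := hS2.conj k⁻¹ (by
          intro r hr
          have := (hXmem r).1 hr
          simpa using this)
        have hXne : X ≠ P := by
          intro hXP'
          obtain ⟨d, hdP, hdD⟩ := h.meet
          exact h.free_of_two hX2 d (hXP' ▸ hdP) hdD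
        obtain ⟨a, haP, haN, haX, haa⟩ := exists_inv_mod X P h.two hXP hXne
        have hN : k * a * k⁻¹ ∈ N := by
          refine ⟨?_, ?_⟩
          · show k * a * k⁻¹ ∈ Subgroup.normalizer (S : Set G)
            rw [Subgroup.mem_normalizer_iff] at haN ⊢
            intro s
            have h1 := haN (k⁻¹ * s * k)
            rw [hXmem, hXmem] at h1
            have e1 : k * (k⁻¹ * s * k) * k⁻¹ = s := by group
            have e2 : k * (a * (k⁻¹ * s * k) * a⁻¹) * k⁻¹ = k * a * k⁻¹ * s * (k * a * k⁻¹)⁻¹ := by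
              group
            rw [e1, e2] at h1
            exact h1
          · show k * a * k⁻¹ ∈ Subgroup.centralizer (Y : Set G)
            rw [hNC]
            intro b hb
            have hb' : k⁻¹ * b * k ∈ Y := by
              have := (Subgroup.mem_normalizer_iff.1 (Subgroup.inv_mem _ hkY) b).1 hb
              rwa [inv_inv] at this
            have h1 := h.PC a haP _ hb'
            calc k * a * k⁻¹ * b = k * (a * (k⁻¹ * b * k)) * k⁻¹ := by group
              _ = b * (k * a * k⁻¹) := by rw [h1]; group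
        refine ⟨QuotientGroup.mk ⟨k * a * k⁻¹, hN⟩, ?_, ?_, ?_⟩
        · intro h1
          exact haX ((hXmem a).2 ((hmk1 _).1 h1))
        · rw [← QuotientGroup.mk_mul, hmk1]
          show k * a * k⁻¹ * (k * a * k⁻¹) ∈ S
          have h1 := (hXmem _).1 haa
          have e : k * a * k⁻¹ * (k * a * k⁻¹) = k * (a * a) * k⁻¹ := by group
          rw [e]
          exact h1
        · apply Subtype.ext
          rw [hφ]
          show (k * a * k⁻¹) • (QuotientGroup.mk g : G ⧸ H) = QuotientGroup.mk g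
          rw [← hkg, smul_mk_eq_iff]
          have e : k⁻¹ * (k * a * k⁻¹) * k = a := by group
          rw [e]
          exact h.PH haP)
    (by
      obtain ⟨x, y, hx, hy, hxy⟩ := hS2
      exact ⟨⟨x, hx⟩, ⟨y, hy⟩, fun h => hxy (congrArg Subtype.val h)⟩)
  obtain ⟨k1, -, k3, k4⟩ := key
  refine ⟨?_, ?_, k4⟩
  · intro a haN haC haS haa b hbN hbC hbS hbb
    obtain ⟨k, hk⟩ := k3 (QuotientGroup.mk ⟨a, haN, (hNC a).2 haC⟩)
      (QuotientGroup.mk ⟨b, hbN, (hNC b).2 hbC⟩)
      (fun h => haS ((hmk1 _).1 h)) (by rw [← QuotientGroup.mk_mul]; exact (hmk1 _).2 haa)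
      (fun h => hbS ((hmk1 _).1 h)) (by rw [← QuotientGroup.mk_mul]; exact (hmk1 _).2 hbb)
    induction k using QuotientGroup.induction_on with
    | H n =>
      refine ⟨n, n.2.1, (hNC _).1 n.2.2, ?_⟩
      have h1 : (QuotientGroup.mk (n * ⟨a, haN, (hNC a).2 haC⟩ * n⁻¹ *
          (⟨b, hbN, (hNC b).2 hbC⟩)⁻¹) : N ⧸ S') = 1 := by
        rw [QuotientGroup.mk_mul, QuotientGroup.mk_mul, QuotientGroup.mk_mul, QuotientGroup.mk_inv,
          QuotientGroup.mk_inv, hk, mul_inv_cancel]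
      exact (hmk1 _).1 h1
  · intro x y hx hy
    obtain ⟨k, hk⟩ := k1 ⟨x, hx⟩ ⟨y, hy⟩
    induction k using QuotientGroup.induction_on with
    | H n =>
      refine ⟨n, n.2.1, (hNC _).1 n.2.2, ?_⟩
      have := congrArg Subtype.val hk
      rwa [hφ] at this

/-- **The step lemma.** -/
theorem Setup.exists_step [Finite G] {H : Subgroup G} {D : Set G} {Y P : Subgroup G}
    (h : Setup H D Y P) (h2 : Two H Y) : ∃ X : Subgroup G, IsStep H D Y P X := by
  classical
  have hYp : IsPGroup 2 Y := h.two.to_le h.YP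
  obtain ⟨S0, ⟨hp, hYS, hSC, hS2⟩, hm⟩ := Set.exists_max_image
    {S : Subgroup G | IsPGroup 2 S ∧ Y ≤ S ∧ (∀ a ∈ S, ∀ b ∈ Y, a * b = b * a) ∧ Two H S}
    (fun S => Nat.card S) (Set.toFinite _) ⟨Y, hYp, le_rfl, h.comm, h2⟩
  obtain ⟨x, hx⟩ : ∃ x : G ⧸ H, x ∈ Fix H S0 := by
    obtain ⟨x, -, hx, -, -⟩ := hS2
    exact ⟨x, hx⟩
  induction x using QuotientGroup.induction_on with
  | H g =>
    obtain ⟨k, hkg, hkY, hkS⟩ := h.move S0 hp hSC hYS g hx
    let X : Subgroup G := S0.map (MulAut.conj k⁻¹).toMonoidHom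
    have hXmem : ∀ x, x ∈ X ↔ k * x * k⁻¹ ∈ S0 := by
      intro x
      constructor
      · rintro ⟨s, hs, rfl⟩
        have : k * (MulAut.conj k⁻¹).toMonoidHom s * k⁻¹ = s := by simp; group
        rw [this]
        exact hs
      · intro hx
        exact ⟨_, hx, by simp; group⟩
    have hXP : X ≤ P := by
      rintro _ ⟨s, hs, rfl⟩
      have := hkS s hs
      simpa using this
    have hX2 : Two H X := hS2.conj k⁻¹ (by
      intro r hr
      have := (hXmem r).1 hr
      simpa using this)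
    have hXp : IsPGroup 2 X := h.two.to_le hXP
    have hYX : Y ≤ X := by
      intro y hy
      rw [hXmem]
      exact hYS ((Subgroup.mem_normalizer_iff.1 hkY y).1 hy)
    have hXC : ∀ a ∈ X, ∀ b ∈ Y, a * b = b * a := fun a ha => h.PC a (hXP ha)
    have hcard : Nat.card X = Nat.card S0 :=
      Nat.card_congr (S0.equivMapOfInjective _ (MulAut.conj k⁻¹).injective).symm.toEquiv
    have hmax : ∀ R : Subgroup G, IsPGroup 2 R → Y ≤ R → (∀ a ∈ R, ∀ b ∈ Y, a * b = b * a) →
        Two H R → Nat.card R ≤ Nat.card X := by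
      intro R h1 h2 h3 h4
      rw [hcard]
      exact hm R ⟨h1, h2, h3, h4⟩
    obtain ⟨c1, c2, c3⟩ := h.core X hXp hXC hYX hX2 hmax
    exact ⟨X, hYX, hXP, h.free_of_two hX2, hX2, c1, c2, c3, hmax⟩

/-- conclusion of a step -/
theorem Setup.not_two [Finite G] {H : Subgroup G} {D : Set G} {Y P : Subgroup G}
    (h : Setup H D Y P) (hall : ∀ X : Subgroup G, IsStep H D Y P X → False) : ¬ Two H Y := by
  intro h2
  obtain ⟨X, hX⟩ := h.exists_step h2
  exact hall X hX

/-- `X` contains no conjugate of a subgroup fixing at most one point -/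
theorem IsStep.not_conj {H : Subgroup G} {D : Set G} {Y P X : Subgroup G}
    (h : IsStep H D Y P X) {Z : Subgroup G} (hZ : ¬ Two H Z) (g : G)
    (hg : ∀ z ∈ Z, g⁻¹ * z * g ∈ X) : False :=
  hZ (h.two.conj g hg)

/-- counting `D`-elements in the cosets of involutions -/
theorem IsStep.card_le [Finite G] {H : Subgroup G} {D : Set G} {Y P X : Subgroup G}
    (h : IsStep H D Y P X) (hD : ∀ d ∈ D, ∀ g : G, g * d * g⁻¹ ∈ D)
    {a a' : G} (haN : a ∈ Subgroup.normalizer (X : Set G)) (haC : ∀ b ∈ Y, a * b = b * a)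
    (haX : a ∉ X) (haa : a * a ∈ X)
    (haN' : a' ∈ Subgroup.normalizer (X : Set G)) (haC' : ∀ b ∈ Y, a' * b = b * a')
    (haX' : a' ∉ X) (haa' : a' * a' ∈ X) :
    Nat.card {x : G // x ∈ X ∧ a * x ∈ D} ≤ Nat.card {x : G // x ∈ X ∧ a' * x ∈ D} := by
  obtain ⟨n, hn, -, hs⟩ := h.conj a haN haC haX haa a' haN' haC' haX' haa'
  have hs' : a'⁻¹ * (n * a * n⁻¹ * a'⁻¹) * a' ∈ X := by
    have := (Subgroup.mem_normalizer_iff.1 (Subgroup.inv_mem _ haN') _).1 hs
    rwa [inv_inv] at this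
  apply Nat.card_le_card_of_injective
    (fun x : {x : G // x ∈ X ∧ a * x ∈ D} =>
      (⟨(a'⁻¹ * (n * a * n⁻¹ * a'⁻¹) * a') * (n * x.1 * n⁻¹), by
        refine ⟨X.mul_mem hs' ((Subgroup.mem_normalizer_iff.1 hn _).1 x.2.1), ?_⟩
        have h1 := hD _ x.2.2 n
        have e : a' * ((a'⁻¹ * (n * a * n⁻¹ * a'⁻¹) * a') * (n * x.1 * n⁻¹)) =
            n * (a * x.1) * n⁻¹ := by group
        rw [e]
        exact h1⟩ : {x : G // x ∈ X ∧ a' * x ∈ D}))
  intro x y hxy
  have h1 := congrArg Subtype.val hxy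
  apply Subtype.ext
  have h2 : n * x.1 * n⁻¹ = n * y.1 * n⁻¹ := mul_left_cancel h1
  exact mul_left_cancel (mul_right_cancel h2)

/-- if the coset `aX` meets `D`, so does `a'X` -/
theorem IsStep.exists_of [Finite G] {H : Subgroup G} {D : Set G} {Y P X : Subgroup G}
    (h : IsStep H D Y P X) (hD : ∀ d ∈ D, ∀ g : G, g * d * g⁻¹ ∈ D)
    {a a' : G} (haN : a ∈ Subgroup.normalizer (X : Set G)) (haC : ∀ b ∈ Y, a * b = b * a)
    (haX : a ∉ X) (haa : a * a ∈ X)
    (haN' : a' ∈ Subgroup.normalizer (X : Set G)) (haC' : ∀ b ∈ Y, a' * b = b * a')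
    (haX' : a' ∉ X) (haa' : a' * a' ∈ X) (hx : ∃ x ∈ X, a * x ∈ D) : ∃ x ∈ X, a' * x ∈ D := by
  have h1 := h.card_le hD haN haC haX haa haN' haC' haX' haa'
  obtain ⟨x, hx, hxD⟩ := hx
  have h2 : 0 < Nat.card {x : G // x ∈ X ∧ a * x ∈ D} :=
    Nat.card_pos_iff.2 ⟨⟨⟨x, hx, hxD⟩⟩, inferInstance⟩
  have h3 : 0 < Nat.card {x : G // x ∈ X ∧ a' * x ∈ D} := lt_of_lt_of_le h2 h1
  obtain ⟨⟨⟨y, hy, hyD⟩⟩, -⟩ := Nat.card_pos_iff.1 h3
  exact ⟨y, hy, hyD⟩

/-- every coset of an involution of `N_C(X)/X` contains an element of `D` centralising `Y` as soon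
as one does -/
theorem IsStep.exists_inv_mod [Finite G] {H : Subgroup G} {D : Set G} {Y P X : Subgroup G}
    (h : IsStep H D Y P X) (hP : IsPGroup 2 P) (hne : X ≠ P) :
    ∃ a ∈ P, a ∈ Subgroup.normalizer (X : Set G) ∧ a ∉ X ∧ a * a ∈ X :=
  Step.exists_inv_mod X P hP h.le' hne

/-- If `T` is a Sylow 2-subgroup of `H` normalising `Y`, then `C_T(Y)` is a Sylow 2-subgroup of
`C_H(Y)`. -/
theorem syl_of_normal [Finite G] (H T Y : Subgroup G) (hT : IsPGroup 2 T) (hTH : T ≤ H)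
    (hTY : T ≤ Subgroup.normalizer (Y : Set G))
    (hsyl : ∀ R : Subgroup G, IsPGroup 2 R → R ≤ H → ∃ c ∈ H, ∀ r ∈ R, c⁻¹ * r * c ∈ T)
    (R : Subgroup G) (hR : IsPGroup 2 R) (hRH : R ≤ H) (hRC : ∀ a ∈ R, ∀ b ∈ Y, a * b = b * a) :
    ∃ c ∈ H, (∀ b ∈ Y, c * b = b * c) ∧
      ∀ r ∈ R, c⁻¹ * r * c ∈ T ⊓ Subgroup.centralizer (Y : Set G) := by
  classical
  have hcard : ∀ R : Subgroup G, IsPGroup 2 R → R ≤ H → Nat.card R ≤ Nat.card T := by
    intro R hR hRH
    obtain ⟨c, -, hc⟩ := hsyl R hR hRH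
    apply Nat.card_le_card_of_injective (fun r : R => (⟨c⁻¹ * r * c, hc r r.2⟩ : T))
    intro a b hab
    have h1 : c⁻¹ * (a : G) * c = c⁻¹ * b * c := congrArg Subtype.val hab
    exact Subtype.ext (mul_left_cancel (mul_right_cancel h1))
  have hCC : ∀ n : G, n ∈ Subgroup.centralizer (Y : Set G) ↔ ∀ b ∈ Y, n * b = b * n := by
    intro n
    rw [Subgroup.mem_centralizer_iff]
    exact ⟨fun h b hb => (h b hb).symm, fun h b hb => (h b hb).symm⟩
  let N : Subgroup G := H ⊓ Subgroup.normalizer (Y : Set G)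
  let C : Subgroup G := H ⊓ Subgroup.centralizer (Y : Set G)
  have hCN : C ≤ N := inf_le_inf_left _ (Subgroup.centralizer_le_normalizer _)
  have hTN : T ≤ N := le_inf hTH hTY
  -- `T` as a Sylow subgroup of `N`
  let TN : Sylow 2 N :=
    { T.subgroupOf N with
      isPGroup' := hT.comap_of_injective _ (Subgroup.subtype_injective N)
      is_maximal' := by
        intro Q hQ hle
        apply le_antisymm _ hle
        have h1 : Nat.card (Q.map N.subtype) ≤ Nat.card T :=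
          hcard _ (hQ.map _) (by
            rintro _ ⟨q, -, rfl⟩
            exact q.2.1)
        have h2 : T ≤ Q.map N.subtype := by
          intro t ht
          exact ⟨⟨t, hTN ht⟩, hle (Subgroup.mem_subgroupOf.2 ht), rfl⟩
        have h3 : T = Q.map N.subtype := Subgroup.eq_of_le_of_card_ge h2 h1
        intro q hq
        show (q : G) ∈ T
        rw [h3]
        exact ⟨q, hq, rfl⟩ }
  -- conjugation within `N`
  have hN : ∀ Q : Subgroup G, IsPGroup 2 Q → Q ≤ N → ∃ n ∈ N, ∀ q ∈ Q, n⁻¹ * q * n ∈ T := by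
    intro Q hQ hQN
    obtain ⟨Q1, hQ1⟩ := (hQ.comap_of_injective _ (Subgroup.subtype_injective N) :
      IsPGroup 2 (Q.subgroupOf N)).exists_le_sylow
    obtain ⟨n, hn⟩ := MulAction.exists_smul_eq N Q1 TN
    refine ⟨(n⁻¹ : N), (n⁻¹ : N).2, ?_⟩
    intro q hq
    have h1 : (⟨q, hQN hq⟩ : N) ∈ Q1 := hQ1 (Subgroup.mem_subgroupOf.2 hq)
    have h2 : n * ⟨q, hQN hq⟩ * n⁻¹ ∈ (TN : Subgroup N) := by
      rw [← hn]
      exact ⟨_, h1, by simp [MulAut.conj_apply]⟩
    have h3 : ((n * ⟨q, hQN hq⟩ * n⁻¹ : N) : G) ∈ T := h2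
    simpa using h3
  -- `T ∩ C` is a Sylow subgroup of `C`
  have hCcard : ∀ Q : Subgroup G, IsPGroup 2 Q → Q ≤ C → Nat.card Q ≤ Nat.card (T ⊓ C : Subgroup G) := by
    intro Q hQ hQC
    obtain ⟨n, hn, hnQ⟩ := hN Q hQ (hQC.trans hCN)
    apply Nat.card_le_card_of_injective (fun r : Q => (⟨n⁻¹ * r * n, hnQ r r.2, ?_, ?_⟩ :
      (T ⊓ C : Subgroup G)))
    · intro a b hab
      have h1 : n⁻¹ * (a : G) * n = n⁻¹ * b * n := congrArg Subtype.val hab
      exact Subtype.ext (mul_left_cancel (mul_right_cancel h1))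
    · exact H.mul_mem (H.mul_mem (H.inv_mem hn.1) (hQC r.2).1) hn.1
    · show n⁻¹ * (r : G) * n ∈ Subgroup.centralizer (Y : Set G)
      rw [hCC]
      intro b hb
      have hb' : n * b * n⁻¹ ∈ Y := (Subgroup.mem_normalizer_iff.1 hn.2 b).1 hb
      have h1 := (hCC _).1 (hQC r.2).2 _ hb'
      calc n⁻¹ * (r : G) * n * b = n⁻¹ * (r * (n * b * n⁻¹)) * n := by group
        _ = b * (n⁻¹ * r * n) := by rw [h1]; group
  have hTCp : IsPGroup 2 (T ⊓ C : Subgroup G) := hT.to_le inf_le_left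
  let TC : Sylow 2 C :=
    { (T ⊓ C).subgroupOf C with
      isPGroup' := hTCp.comap_of_injective _ (Subgroup.subtype_injective C)
      is_maximal' := by
        intro Q hQ hle
        apply le_antisymm _ hle
        have h1 : Nat.card (Q.map C.subtype) ≤ Nat.card (T ⊓ C : Subgroup G) :=
          hCcard _ (hQ.map _) (by
            rintro _ ⟨q, -, rfl⟩
            exact q.2)
        have h2 : T ⊓ C ≤ Q.map C.subtype := by
          intro t ht
          exact ⟨⟨t, ht.2⟩, hle (Subgroup.mem_subgroupOf.2 ht), rfl⟩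
        have h3 : T ⊓ C = Q.map C.subtype := Subgroup.eq_of_le_of_card_ge h2 h1
        intro q hq
        show (q : G) ∈ T ⊓ C
        rw [h3]
        exact ⟨q, hq, rfl⟩ }
  have hRC' : R ≤ C := fun r hr => ⟨hRH hr, (hCC r).2 (hRC r hr)⟩
  obtain ⟨Q1, hQ1⟩ := (hR.comap_of_injective _ (Subgroup.subtype_injective C) :
    IsPGroup 2 (R.subgroupOf C)).exists_le_sylow
  obtain ⟨n, hn⟩ := MulAction.exists_smul_eq C Q1 TC
  refine ⟨(n⁻¹ : C), (n⁻¹ : C).2.1, (hCC _).1 (n⁻¹ : C).2.2, ?_⟩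
  intro q hq
  have h1 : (⟨q, hRC' hq⟩ : C) ∈ Q1 := hQ1 (Subgroup.mem_subgroupOf.2 hq)
  have h2 : n * ⟨q, hRC' hq⟩ * n⁻¹ ∈ (TC : Subgroup C) := by
    rw [← hn]
    exact ⟨_, h1, by simp [MulAut.conj_apply]⟩
  have h3 : ((n * ⟨q, hRC' hq⟩ * n⁻¹ : C) : G) ∈ T ⊓ C := h2
  have h4 : ((n⁻¹ : C) : G)⁻¹ * q * ((n⁻¹ : C) : G) ∈ T ⊓ C := by simpa using h3
  exact ⟨h4.1, h4.2.2⟩

end Cfsg.Agent.CoThreeStd.Step
end

-- part: CoThreeStd/Special
section
/-!
# Two special configurations in the closing of the `Co₃` recognition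

* `IsStep.transvection`: `X` abelian, `|X : Y| = 2`: two involutions of `N_C(X)/X` act in the same
  way on `X`.
* `IsStep.homocyclic`: `X` abelian with `Y = Ω₁(X) = ℧¹(X)`, normalised by a `D`-pure four-group:
  impossible.
-/

set_option autoImplicit false

namespace Cfsg.Agent.CoThreeStd.Special

open Cfsg.Agent.SporRec.Closing Cfsg.Agent.CoThreeStd.Step

variable {G : Type*} [Group G]

/-- If `|X : Y| ≤ 2`, two involutions of `N_C(X)/X` act in the same way on `X`. -/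
theorem transvection {H : Subgroup G} {D : Set G} {Y P X : Subgroup G}
    (h : IsStep H D Y P X) (hXab : ∀ a ∈ X, ∀ b ∈ X, a * b = b * a) (e : G) (he : e ∈ X)
    (hX : ∀ x ∈ X, x ∈ Y ∨ e⁻¹ * x ∈ Y)
    {a a' : G} (haN : a ∈ Subgroup.normalizer (X : Set G)) (haC : ∀ b ∈ Y, a * b = b * a)
    (haX : a ∉ X) (haa : a * a ∈ X)
    (haN' : a' ∈ Subgroup.normalizer (X : Set G)) (haC' : ∀ b ∈ Y, a' * b = b * a')
    (haX' : a' ∉ X) (haa' : a' * a' ∈ X) : a * e * a⁻¹ = a' * e * a'⁻¹ := by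
  obtain ⟨n, hn, hnC, hs⟩ := h.conj a haN haC haX haa a' haN' haC' haX' haa'
  -- the transvection map
  have hy : ∀ m ∈ Subgroup.normalizer (X : Set G), (∀ b ∈ Y, m * b = b * m) →
      e⁻¹ * (m * e * m⁻¹) ∈ Y := by
    intro m hm hmC
    rcases hX _ ((Subgroup.mem_normalizer_iff.1 hm e).1 he) with h1 | h1
    · have h2 := hmC _ h1
      have h3 : m * e * m⁻¹ = e := by
        have : m * (m * e * m⁻¹) = m * e := by rw [h2]; group
        exact mul_left_cancel this
      rw [h3, inv_mul_cancel]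
      exact Y.one_mem
    · exact h1
  have hmul : ∀ m, m ∈ Subgroup.normalizer (X : Set G) → (∀ b ∈ Y, m * b = b * m) →
      ∀ k, k ∈ Subgroup.normalizer (X : Set G) → (∀ b ∈ Y, k * b = b * k) →
      e⁻¹ * (m * k * e * (m * k)⁻¹) = (e⁻¹ * (m * e * m⁻¹)) * (e⁻¹ * (k * e * k⁻¹)) := by
    intro m hm hmC k hk hkC
    have h1 := hmC _ (hy k hk hkC)
    calc e⁻¹ * (m * k * e * (m * k)⁻¹) = e⁻¹ * (m * e * (e⁻¹ * (k * e * k⁻¹)) * m⁻¹) := by group
      _ = e⁻¹ * (m * e * (m⁻¹ * (m * (e⁻¹ * (k * e * k⁻¹)))) * m⁻¹) := by group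
      _ = e⁻¹ * (m * e * (m⁻¹ * ((e⁻¹ * (k * e * k⁻¹)) * m)) * m⁻¹) := by rw [h1]
      _ = _ := by group
  -- compare `n a` and `s a' n`
  set s := n * a * n⁻¹ * a'⁻¹ with hsdef
  have hE : n * a = (s * a') * n := by rw [hsdef]; group
  have hsN : s ∈ Subgroup.normalizer (X : Set G) := Subgroup.le_normalizer hs
  have hsC : ∀ b ∈ Y, s * b = b * s := fun b hb => hXab s hs b (h.le hb)
  have hs0 : e⁻¹ * (s * e * s⁻¹) = 1 := by
    rw [hXab s hs e he]
    group
  have hsa' : s * a' ∈ Subgroup.normalizer (X : Set G) := Subgroup.mul_mem _ hsN haN'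
  have hsaC' : ∀ b ∈ Y, s * a' * b = b * (s * a') := by
    intro b hb
    rw [mul_assoc, haC' b hb, ← mul_assoc, hsC b hb, mul_assoc]
  have h1 := hmul n hn hnC a haN haC
  have h2 := hmul (s * a') hsa' hsaC' n hn hnC
  have h3 := hmul s hsN hsC a' haN' haC'
  rw [hs0, one_mul] at h3
  rw [hE, h2, h3] at h1
  have h4 : e⁻¹ * (a' * e * a'⁻¹) * (e⁻¹ * (n * e * n⁻¹)) =
      e⁻¹ * (a * e * a⁻¹) * (e⁻¹ * (n * e * n⁻¹)) := by
    rw [h1]
    exact hXab _ (h.le (hy n hn hnC)) _ (h.le (hy a haN haC))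
  have h5 := mul_right_cancel h4
  exact (mul_left_cancel h5).symm

/-- The homocyclic configuration is impossible. -/
theorem homocyclic [Finite G] {H : Subgroup G} {D : Set G} {Y P X : Subgroup G}
    (h : IsStep H D Y P X) (hPH : P ≤ H)
    (hone : ∀ d ∈ D, ∀ x y : G ⧸ H, d • x = x → d • y = y → x = y)
    (hXab : ∀ a ∈ X, ∀ b ∈ X, a * b = b * a)
    (hsq : ∀ x ∈ X, x * x ∈ Y) (hker : ∀ x ∈ X, x * x = 1 → x ∈ Y)
    {a : G} (haN : a ∈ Subgroup.normalizer (X : Set G)) (haC : ∀ b ∈ Y, a * b = b * a)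
    (haX : a ∉ X) (haa : a * a ∈ X) {x₀ : G} (hx₀ : x₀ ∈ X) (hax₀ : a * x₀ ≠ x₀ * a)
    {t y : G} (htD : t ∈ D) (hyD : y ∈ D) (htyD : t * y ∈ D) (htH : t ∈ H) (hyH : y ∈ H)
    (htN : t ∈ Subgroup.normalizer (X : Set G)) (hyN : y ∈ Subgroup.normalizer (X : Set G))
    (ht2 : t * t = 1) (hy2 : y * y = 1) (hty : t * y = y * t) : False := by
  classical
  have hXH : X ≤ H := h.le'.trans hPH
  -- `Q = C_G(X)`
  let M : Subgroup G := Subgroup.normalizer (X : Set G)
  let Q : Subgroup G := Subgroup.centralizer (X : Set G)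
  have hQmem : ∀ q, q ∈ Q ↔ ∀ x ∈ X, q * x = x * q := by
    intro q
    show q ∈ Subgroup.centralizer (X : Set G) ↔ _
    rw [Subgroup.mem_centralizer_iff]
    exact ⟨fun h b hb => (h b hb).symm, fun h b hb => (h b hb).symm⟩
  have hQM : Q ≤ M := Subgroup.centralizer_le_normalizer _
  have hXQ : X ≤ Q := fun x hx => (hQmem x).2 (fun b hb => hXab x hx b hb)
  -- if `q` commutes modulo `X` with an element of `D ∩ H`, then it lies in `H`
  have hkey : ∀ d ∈ D, d ∈ H → ∀ q : G, d⁻¹ * q⁻¹ * d * q ∈ X → q ∈ H := by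
    intro d hd hdH q hq
    have e1 : d • (QuotientGroup.mk 1 : G ⧸ H) = QuotientGroup.mk 1 := by
      rw [smul_mk_eq_iff]; simpa using hdH
    have e2 : d • (QuotientGroup.mk q : G ⧸ H) = QuotientGroup.mk q := by
      rw [smul_mk_eq_iff]
      have : q⁻¹ * d * q = d * (d⁻¹ * q⁻¹ * d * q) := by group
      rw [this]
      exact H.mul_mem hdH (hXH hq)
    have := hone d hd _ _ e1 e2
    rw [QuotientGroup.eq] at this
    simpa using this
  -- the quotient
  let X' : Subgroup M := X.subgroupOf M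
  have hX'n : X'.Normal := Subgroup.normal_in_normalizer
  let π : M →* M ⧸ X' := QuotientGroup.mk' X'
  have hπ : ∀ m : M, π m = 1 ↔ (m : G) ∈ X := by
    intro m
    rw [show π m = (m : M ⧸ X') from rfl, QuotientGroup.eq_one_iff, Subgroup.mem_subgroupOf]
  have hπeq : ∀ m k : M, π m = π k ↔ (m⁻¹ * k : G) ∈ X := by
    intro m k
    rw [show π m = (m : M ⧸ X') from rfl, show π k = (k : M ⧸ X') from rfl, QuotientGroup.eq,
      Subgroup.mem_subgroupOf]
    rfl
  let Q' : Subgroup (M ⧸ X') := (Q.subgroupOf M).map π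
  let T : M := ⟨t, htN⟩
  let U : M := ⟨y, hyN⟩
  have hT2 : π T * π T = 1 := by
    rw [← map_mul, hπ]
    show t * t ∈ X
    rw [ht2]; exact X.one_mem
  have hU2 : π U * π U = 1 := by
    rw [← map_mul, hπ]
    show y * y ∈ X
    rw [hy2]; exact X.one_mem
  have hTU : π T * π U = π U * π T := by
    rw [← map_mul, ← map_mul]
    congr 1
    exact Subtype.ext hty
  have hT1 : π T ≠ 1 := by
    rw [Ne, hπ]
    exact fun hh => h.free t hh htD
  have hU1 : π U ≠ 1 := by
    rw [Ne, hπ]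
    exact fun hh => h.free y hh hyD
  have hTU1 : π T * π U ≠ 1 := by
    rw [← map_mul, Ne, hπ]
    exact fun hh => h.free (t * y) hh htyD
  have hTneU : π T ≠ π U := by
    intro hh
    apply hTU1
    rw [← hh, hT2]
  have hTi : (π T)⁻¹ = π T := inv_eq_of_mul_eq_one_left hT2
  have hUi : (π U)⁻¹ = π U := inv_eq_of_mul_eq_one_left hU2
  let A : Subgroup (M ⧸ X') :=
    { carrier := {x | x = 1 ∨ x = π T ∨ x = π U ∨ x = π T * π U}
      one_mem' := Or.inl rfl
      mul_mem' := by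
        have e1 : π T * (π T * π U) = π U := by rw [← mul_assoc, hT2, one_mul]
        have e2 : π U * (π T * π U) = π T := by rw [hTU, ← mul_assoc, hU2, one_mul]
        have e3 : π T * π U * π T = π U := by rw [hTU, mul_assoc, hT2, mul_one]
        have e4 : π T * π U * π U = π T := by rw [mul_assoc, hU2, mul_one]
        have e5 : π T * π U * (π T * π U) = 1 := by rw [mul_assoc, e2, hT2]
        rintro a b (rfl | rfl | rfl | rfl) (rfl | rfl | rfl | rfl)
        all_goals simp only [Set.mem_ofPred_eq, one_mul, mul_one, hT2, hU2, e1, e2, e3, e4, e5,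
          ← hTU, true_or, or_true]
      inv_mem' := by
        rintro a (rfl | rfl | rfl | rfl)
        · left; simp
        · right; left; exact hTi
        · right; right; left; exact hUi
        · right; right; right
          rw [mul_inv_rev, hTi, hUi, hTU] }
  have hAmem : ∀ x, x ∈ A ↔ (x = 1 ∨ x = π T ∨ x = π U ∨ x = π T * π U) := fun x => Iff.rfl
  have hTA : π T ∈ A := (hAmem _).2 (Or.inr (Or.inl rfl))
  have hUA : π U ∈ A := (hAmem _).2 (Or.inr (Or.inr (Or.inl rfl)))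
  have hAel : Cfsg.IsElementaryAbelian 2 A := by
    have e1 : π T * (π T * π U) = π U := by rw [← mul_assoc, hT2, one_mul]
    have e2 : π U * (π T * π U) = π T := by rw [hTU, ← mul_assoc, hU2, one_mul]
    have e3 : π T * π U * π T = π U := by rw [hTU, mul_assoc, hT2, mul_one]
    have e4 : π T * π U * π U = π T := by rw [mul_assoc, hU2, mul_one]
    have e5 : π T * π U * (π T * π U) = 1 := by rw [mul_assoc, e2, hT2]
    constructor
    · refine ⟨⟨?_⟩⟩
      rintro ⟨a, ha⟩ ⟨b, hb⟩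
      apply Subtype.ext
      show a * b = b * a
      rcases ha with rfl | rfl | rfl | rfl <;> rcases hb with rfl | rfl | rfl | rfl
      all_goals simp only [one_mul, mul_one, e1, e2, e3, e4, ← hTU]
    · rintro a (rfl | rfl | rfl | rfl)
      · simp
      · rw [pow_two, hT2]
      · rw [pow_two, hU2]
      · rw [pow_two, e5]
  -- `Q'` has odd order
  have hodd : ¬ 2 ∣ Nat.card Q' := by
    intro h2
    obtain ⟨⟨q', hq'⟩, hord⟩ := exists_prime_orderOf_dvd_card' (G := Q') 2 h2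
    obtain ⟨q, hq, rfl⟩ := hq'
    have hq1 : π q ≠ 1 := by
      intro hh
      have : (⟨π q, ⟨q, hq, rfl⟩⟩ : Q') = 1 := Subtype.ext hh
      rw [this, orderOf_one] at hord
      omega
    have hq2 : π q * π q = 1 := by
      have := pow_orderOf_eq_one (⟨π q, ⟨q, hq, rfl⟩⟩ : Q')
      rw [hord, pow_two] at this
      exact congrArg Subtype.val this
    have hqQ : (q : G) ∈ Q := Subgroup.mem_subgroupOf.1 hq
    have hqX : (q : G) ∉ X := fun hh => hq1 ((hπ q).2 hh)
    have hqq : (q : G) * q ∈ X := by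
      rw [← map_mul, hπ] at hq2
      exact hq2
    obtain ⟨n, hn, -, hs⟩ := h.conj a haN haC haX haa q q.2
      (fun b hb => (hQmem _).1 hqQ b (h.le hb)) hqX hqq
    -- `n a n⁻¹` centralises `X`
    have h1 : n * a * n⁻¹ ∈ Q := by
      have : n * a * n⁻¹ = (n * a * n⁻¹ * (q : G)⁻¹) * q := by group
      rw [this]
      exact Q.mul_mem (hXQ hs) hqQ
    have h2 := (hQmem _).1 h1 (n * x₀ * n⁻¹) ((Subgroup.mem_normalizer_iff.1 hn x₀).1 hx₀)
    apply hax₀
    have h3 : n⁻¹ * (n * a * n⁻¹ * (n * x₀ * n⁻¹)) * n = n⁻¹ * (n * x₀ * n⁻¹ * (n * a * n⁻¹)) * n := by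
      rw [h2]
    have e1 : n⁻¹ * (n * a * n⁻¹ * (n * x₀ * n⁻¹)) * n = a * x₀ := by group
    have e2 : n⁻¹ * (n * x₀ * n⁻¹ * (n * a * n⁻¹)) * n = x₀ * a := by group
    rw [e1, e2] at h3
    exact h3
  -- `Q ≤ H`
  have hQnorm : ∀ m ∈ M, ∀ q ∈ Q, m * q * m⁻¹ ∈ Q := by
    intro m hm q hq
    rw [hQmem]
    intro x hx
    have hx' : m⁻¹ * x * m ∈ X := by
      have := (Subgroup.mem_normalizer_iff.1 (Subgroup.inv_mem _ hm) x).1 hx
      rwa [inv_inv] at this
    have h1 := (hQmem q).1 hq _ hx'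
    calc m * q * m⁻¹ * x = m * (q * (m⁻¹ * x * m)) * m⁻¹ := by group
      _ = x * (m * q * m⁻¹) := by rw [h1]; group
  have hAQ : A ≤ Subgroup.normalizer (Q' : Set (M ⧸ X')) := by
    have hnor : Q'.Normal := by
      constructor
      rintro _ ⟨q, hq, rfl⟩ g
      obtain ⟨m, rfl⟩ := QuotientGroup.mk'_surjective X' g
      refine ⟨m * q * m⁻¹, ?_, by simp [π]⟩
      exact Subgroup.mem_subgroupOf.2 (hQnorm m m.2 q (Subgroup.mem_subgroupOf.1 hq))
    rw [Subgroup.normalizer_eq_top]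
    exact le_top
  have hgen := Lib.CoprimeHyperplane.iSup_centralizer_hyperplane hAel (by
    intro hh
    exact hT1 (Subgroup.mem_bot.1 (hh ▸ hTA))) hodd hAQ
  have hQ'le : Q' ≤ ((Q ⊓ H).subgroupOf M).map π := by
    rw [← hgen]
    apply iSup_le
    rintro ⟨B, hBA, hB⟩ q' ⟨⟨q, hq, rfl⟩, hqB⟩
    have hqQ : (q : G) ∈ Q := Subgroup.mem_subgroupOf.1 hq
    -- a nontrivial element of `B`
    obtain ⟨b, hb, hb1⟩ : ∃ b ∈ B, b ≠ 1 := by
      by_contra hno
      push Not at hno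
      have hB0 : B = ⊥ := (Subgroup.eq_bot_iff_forall _).2 hno
      rw [hB0, Subgroup.relIndex_bot_left] at hB
      -- three distinct elements
      have : (3 : ℕ) ≤ Nat.card A := by
        have hc : Nat.card (Fin 3) ≤ Nat.card A := by
          apply Nat.card_le_card_of_injective
            (fun i : Fin 3 => (match i with
              | 0 => 1
              | 1 => ⟨π T, hTA⟩
              | 2 => ⟨π U, hUA⟩ : A))
          intro i j hij
          fin_cases i <;> fin_cases j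
          all_goals first
            | rfl
            | (exfalso
               have h1 := congrArg Subtype.val hij
               first
                | exact hT1 h1
                | exact hT1 h1.symm
                | exact hU1 h1
                | exact hU1 h1.symm
                | exact hTneU h1
                | exact hTneU h1.symm)
        simpa using hc
      omega
    refine ⟨q, ?_, rfl⟩
    refine Subgroup.mem_subgroupOf.2 ⟨hqQ, ?_⟩
    have hcomm : b * π q = π q * b := Subgroup.mem_centralizer_iff.1 hqB b hb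
    have hd : ∀ d : M, (d : G) ∈ D → (d : G) ∈ H → π d * π q = π q * π d → (q : G) ∈ H := by
      intro d hdD hdH hdq
      apply hkey d hdD hdH
      rw [← map_mul, ← map_mul, hπeq] at hdq
      have h3 : (((q * d : M)⁻¹ : G) * ((d * q : M) : G)) ∈ X := by
        have := X.inv_mem hdq
        simpa [mul_assoc] using this
      have e : (((q * d : M)⁻¹ : G) * ((d * q : M) : G)) =
        (d : G)⁻¹ * (q : G)⁻¹ * d * q := by
        push_cast
        group
      rw [e] at h3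
      exact h3
    rcases (hAmem b).1 (hBA hb) with rfl | rfl | rfl | rfl
    · exact absurd rfl hb1
    · exact hd T htD htH hcomm
    · exact hd U hyD hyH hcomm
    · exact hd (T * U) htyD (H.mul_mem htH hyH) (by rw [map_mul]; exact hcomm)
  have hQH : Q ≤ H := by
    intro q hq
    obtain ⟨r, hr, hrq⟩ := hQ'le ⟨⟨q, hQM hq⟩, Subgroup.mem_subgroupOf.2 hq, rfl⟩
    rw [hπeq] at hrq
    have h1 := (Subgroup.mem_subgroupOf.1 hr).2
    have h2 := H.mul_mem h1 (hXH hrq)
    simpa using h2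
  -- squares of elements of `N_C(X)` centralise `X`
  have hsqQ : ∀ n ∈ M, (∀ b ∈ Y, n * b = b * n) → n * n ∈ Q := by
    intro n hn hnC
    rw [hQmem]
    intro x hx
    have hx' : n * x * n⁻¹ ∈ X := (Subgroup.mem_normalizer_iff.1 hn x).1 hx
    -- `u = x⁻¹ (n x n⁻¹)`
    have hu : x⁻¹ * (n * x * n⁻¹) ∈ X := X.mul_mem (X.inv_mem hx) hx'
    have hu2 : x⁻¹ * (n * x * n⁻¹) * (x⁻¹ * (n * x * n⁻¹)) = 1 := by
      have h1 := hnC _ (hsq x hx)
      have h2 : n * x * n⁻¹ * (n * x * n⁻¹) = x * x := by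
        calc n * x * n⁻¹ * (n * x * n⁻¹) = n * (x * x) * n⁻¹ := by group
          _ = x * x := by rw [h1]; group
      calc x⁻¹ * (n * x * n⁻¹) * (x⁻¹ * (n * x * n⁻¹))
          = x⁻¹ * ((n * x * n⁻¹) * x⁻¹) * (n * x * n⁻¹) := by group
        _ = x⁻¹ * (x⁻¹ * (n * x * n⁻¹)) * (n * x * n⁻¹) := by
            rw [hXab _ hx' _ (X.inv_mem hx)]
        _ = x⁻¹ * (x⁻¹ * ((n * x * n⁻¹) * (n * x * n⁻¹))) := by group
        _ = 1 := by rw [h2]; group
    have huY := hker _ hu hu2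
    have h3 := hnC _ huY
    have h4 : n * n * x * (n * n)⁻¹ = x := by
      calc n * n * x * (n * n)⁻¹ = n * (x * (x⁻¹ * (n * x * n⁻¹))) * n⁻¹ := by group
        _ = n * x * (n⁻¹ * (n * (x⁻¹ * (n * x * n⁻¹)))) * n⁻¹ := by group
        _ = n * x * (n⁻¹ * ((x⁻¹ * (n * x * n⁻¹)) * n)) * n⁻¹ := by rw [h3]
        _ = x * ((x⁻¹ * (n * x * n⁻¹)) * (x⁻¹ * (n * x * n⁻¹))) := by group
        _ = x := by rw [hu2, mul_one]
    calc n * n * x = (n * n * x * (n * n)⁻¹) * (n * n) := by group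
      _ = x * (n * n) := by rw [h4]
  -- the base point
  have hbase : (QuotientGroup.mk 1 : G ⧸ H) ∈ Fix H X := by
    rw [mk_mem_Fix]
    intro s hs
    simpa using hXH hs
  -- `Q` fixes all points of `Fix H X`
  have hQfix : ∀ q ∈ Q, ∀ x ∈ Fix H X, q • x = x := by
    intro q hq x hx
    obtain ⟨n, hn, -, hnx⟩ := h.trans _ _ hbase hx
    rw [← hnx, MulAction.Quotient.smul_mk, smul_mk_eq_iff, smul_eq_mul, mul_one]
    apply hQH
    have := hQnorm n⁻¹ (M.inv_mem hn) q hq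
    rwa [inv_inv] at this
  have hn2 : ∀ n ∈ M, (∀ b ∈ Y, n * b = b * n) → ∀ x ∈ Fix H X, n • n • x = x := by
    intro n hn hnC x hx
    rw [smul_smul]
    exact hQfix _ (hsqQ n hn hnC) x hx
  obtain ⟨x, hx, hx1⟩ : ∃ y ∈ Fix H X, y ≠ (QuotientGroup.mk 1 : G ⧸ H) := by
    obtain ⟨x, y, hx, hy, hxy⟩ := h.two
    by_cases h : x = QuotientGroup.mk 1
    · exact ⟨y, hy, fun h' => hxy (h.trans h'.symm)⟩
    · exact ⟨x, hx, h⟩
  obtain ⟨n, hn, hnC, hnx⟩ := h.trans _ _ hbase hx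
  -- `n` has a fixed point
  obtain ⟨z, hz, hnz⟩ : ∃ z ∈ Fix H X, n • z = z := by
    let D' := {x : G ⧸ H // x ∈ Fix H X}
    have : Fintype D' := Fintype.ofFinite _
    let f : D' → D' := fun z => ⟨n • z.1, smul_mem_Fix H X n hn z.1 z.2⟩
    have hff : f^[2 ^ 1] = id := by
      funext z
      apply Subtype.ext
      exact hn2 n hn hnC z.1 z.2
    have hmod := Equiv.Perm.card_fixedPoints_modEq (f := f) (p := 2) (n := 1) hff
    have ho := h.odd
    rw [Nat.card_eq_fintype_card] at ho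
    by_contra hno
    push Not at hno
    have h0 : Fintype.card (Function.fixedPoints f) = 0 := by
      rw [Fintype.card_eq_zero_iff]
      exact ⟨fun z => hno z.1.1 z.1.2 (congrArg Subtype.val z.2)⟩
    rw [h0] at hmod
    have h3 : Fintype.card D' % 2 = 0 % 2 := hmod
    obtain ⟨k, hk⟩ := ho
    have hk' : Fintype.card D' = 2 * k + 1 := hk
    omega
  obtain ⟨m, hm, hmC, hmz⟩ := h.trans _ _ hbase hz
  -- `m n m • x₀ = n • x₀`
  have hmn : m * n ∈ M := M.mul_mem hm hn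
  have hmnC : ∀ b ∈ Y, m * n * b = b * (m * n) := by
    intro b hb
    rw [mul_assoc, hnC b hb, ← mul_assoc, hmC b hb, mul_assoc]
  have h1 := hn2 (m * n) hmn hmnC _ hbase
  -- `m n m n • x₀ = x₀`
  have h2 : n • (QuotientGroup.mk 1 : G ⧸ H) = QuotientGroup.mk 1 := by
    have hnb : n • (QuotientGroup.mk 1 : G ⧸ H) ∈ Fix H X := smul_mem_Fix H X n hn _ hbase
    -- `n x₀ = m n m x₀ = m n z = m z = m m x₀ = x₀`
    have e1 : m • n • m • (n • n • (QuotientGroup.mk 1 : G ⧸ H)) =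
        n • (QuotientGroup.mk 1 : G ⧸ H) := by
      have h3 := hn2 (m * n) hmn hmnC _ hnb
      simpa [mul_smul] using h3
    rw [hn2 n hn hnC _ hbase, hmz, hnz, ← hmz, hn2 m hm hmC _ hbase] at e1
    exact e1.symm
  exact hx1 (hnx.symm.trans h2)

end Cfsg.Agent.CoThreeStd.Special
end

-- part: CoThreeStd/DihStep
section
/-!
# The dihedral lemma and one step of the dihedral closing

`dihedral`: two involutions `a`, `b` of a finite group are conjugate, or there is an involution `c` in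
`⟨a, b⟩` commuting with both such that `a ~ b c` or `c = u²` with `u ∈ ⟨a, b⟩` inverted by `a` and `b`.

`step`: the version for two points `x ≠ y` of `G ⧸ H` with `a ∈ D` fixing `x` and `b ∉ D` fixing `y`.
-/

set_option autoImplicit false

namespace Cfsg.Agent.CoThreeStd.DihStep

variable {G : Type*} [Group G]

/-- The dihedral lemma. -/
theorem dihedral [Finite G] (a b : G) (ha : a * a = 1) (hb : b * b = 1) :
    IsConj a b ∨ ∃ c : G, (∀ C : Subgroup G, a ∈ C → b ∈ C → c ∈ C) ∧ c ≠ 1 ∧ c * c = 1 ∧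
      a * c = c * a ∧ b * c = c * b ∧
      (IsConj a (b * c) ∨ ∃ u : G, (∀ C : Subgroup G, a ∈ C → b ∈ C → u ∈ C) ∧ u * u = c ∧
        a * u * a = u⁻¹ ∧ b * u * b = u⁻¹) := by
  have hai : a⁻¹ = a := inv_eq_of_mul_eq_one_left ha
  have hbi : b⁻¹ = b := inv_eq_of_mul_eq_one_left hb
  set r := a * b with hr
  have har : a * r * a⁻¹ = r⁻¹ := by
    rw [hr, mul_inv_rev, hai, hbi, ← mul_assoc, ha, one_mul]
  have hbr : b * r * b⁻¹ = r⁻¹ := by
    rw [hr, mul_inv_rev, hai, hbi, mul_assoc b (a * b) b, mul_assoc a b b, hb, mul_one]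
  have hpa : ∀ n : ℕ, a * r ^ n * a = (r ^ n)⁻¹ := by
    intro n
    have : a * r ^ n * a⁻¹ = (r ^ n)⁻¹ := by rw [← conj_pow, har, inv_pow]
    rwa [hai] at this
  have hpb : ∀ n : ℕ, b * r ^ n * b = (r ^ n)⁻¹ := by
    intro n
    have : b * r ^ n * b⁻¹ = (r ^ n)⁻¹ := by rw [← conj_pow, hbr, inv_pow]
    rwa [hbi] at this
  have hmem : ∀ (n : ℕ) (C : Subgroup G), a ∈ C → b ∈ C → r ^ n ∈ C :=
    fun n C h1 h2 => C.pow_mem (C.mul_mem h1 h2) _
  -- conjugation of `b` by powers of `r`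
  have hcb : ∀ n : ℕ, r ^ n * b * (r ^ n)⁻¹ = r ^ (2 * n) * b := by
    intro n
    rw [← hpb n, two_mul, pow_add]
    calc r ^ n * b * (b * r ^ n * b) = r ^ n * (b * b) * r ^ n * b := by group
      _ = r ^ n * r ^ n * b := by rw [hb, mul_one]
  rcases Nat.even_or_odd (orderOf r) with ⟨m, hm⟩ | ⟨m, hm⟩
  · right
    have hpos : 0 < orderOf r := orderOf_pos _
    have hmpos : 0 < m := by omega
    have hc2 : r ^ m * r ^ m = 1 := by
      rw [← pow_add, ← hm]; exact pow_orderOf_eq_one _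
    have hci : (r ^ m)⁻¹ = r ^ m := inv_eq_of_mul_eq_one_left hc2
    have hca : a * r ^ m = r ^ m * a := by
      calc a * r ^ m = a * r ^ m * (a * a) := by rw [ha, mul_one]
        _ = (a * r ^ m * a) * a := by group
        _ = r ^ m * a := by rw [hpa, hci]
    have hcb' : b * r ^ m = r ^ m * b := by
      calc b * r ^ m = b * r ^ m * (b * b) := by rw [hb, mul_one]
        _ = (b * r ^ m * b) * b := by group
        _ = r ^ m * b := by rw [hpb, hci]
    refine ⟨r ^ m, hmem m, ?_, hc2, hca, hcb', ?_⟩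
    · intro h
      have h1 := orderOf_dvd_of_pow_eq_one h
      have := Nat.le_of_dvd hmpos h1
      omega
    · rcases Nat.even_or_odd m with ⟨j, hj⟩ | ⟨j, hj⟩
      · right
        refine ⟨r ^ j, hmem j, ?_, hpa j, hpb j⟩
        rw [← pow_add, ← hj]
      · left
        -- `r ^ j b r ^ -j = r ^ (2 j) b`, `a = r b`
        have h1 : r * b = a := by rw [hr, mul_assoc, hb, mul_one]
        have h2 : b * r ^ m = r ^ (2 * j) * a := by
          rw [hcb', hj, pow_succ, mul_assoc, h1]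
        have hrc : ∀ n : ℕ, r ^ n * r = r * r ^ n := fun n => by rw [← pow_succ, ← pow_succ']
        have h3 : r ^ (2 * j) * a = r ^ j * a * (r ^ j)⁻¹ := by
          have h4 := hcb j
          calc r ^ (2 * j) * a = r ^ (2 * j) * (r * b) := by rw [h1]
            _ = (r ^ (2 * j) * r) * b := by group
            _ = r * (r ^ (2 * j) * b) := by rw [hrc]; group
            _ = r * (r ^ j * b * (r ^ j)⁻¹) := by rw [h4]
            _ = (r * r ^ j) * b * (r ^ j)⁻¹ := by group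
            _ = r ^ j * (r * b) * (r ^ j)⁻¹ := by rw [← hrc]; group
            _ = r ^ j * a * (r ^ j)⁻¹ := by rw [h1]
        rw [h2, h3]
        exact isConj_iff.2 ⟨r ^ j, rfl⟩
  · left
    -- `r ^ (2 m + 1) = 1`
    have h1 : r ^ (2 * m + 1) = 1 := by rw [← hm]; exact pow_orderOf_eq_one _
    -- `r^(m+1) b r^-(m+1) = r^(2m+2) b = r b = a`
    have h2 := hcb (m + 1)
    have h3 : r ^ (2 * (m + 1)) = r := by
      rw [show 2 * (m + 1) = 2 * m + 1 + 1 by ring, pow_succ, h1, one_mul]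
    rw [h3] at h2
    have h4 : r * b = a := by rw [hr, mul_assoc, hb, mul_one]
    rw [h4] at h2
    exact (isConj_iff.2 ⟨_, h2⟩).symm

section action

variable {Ω : Type*} [MulAction G Ω]

/-- One step: `a ∈ D` fixes `x`, the involution `b ∉ D` fixes `y`, and `B₀ ∪ {b}` has the unique
fixed point `y`; everything happens in a subgroup `C` centralising `B₀`. -/
theorem step [Finite G] {D : Set G} (hD : ∀ d ∈ D, ∀ e, IsConj d e → e ∈ D)
    (one : ∀ d ∈ D, ∀ p q : Ω, d • p = p → d • q = q → p = q)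
    (B : Set G) (C : Subgroup G) (hC : ∀ c ∈ C, ∀ s ∈ B, c * s = s * c) {a b : G} {x y : Ω}
    (haD : a ∈ D) (hbD : b ∉ D) (ha2 : a * a = 1) (hb2 : b * b = 1) (haC : a ∈ C) (hbC : b ∈ C)
    (hax : a • x = x) (hby : b • y = y) (hBy : ∀ s ∈ B, s • y = y)
    (hU : ∀ p : Ω, (∀ s ∈ B, s • p = p) → b • p = p → p = y) :
    ∃ c ∈ C, c ≠ 1 ∧ c * c = 1 ∧ c • x = x ∧ c • y = y ∧ b * c = c * b ∧
      (b * c ∈ D ∨ ∃ u ∈ C, u * u = c ∧ a * u * a = u⁻¹ ∧ b * u * b = u⁻¹ ∧ u • x = x ∧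
        u • y = y) := by
  rcases dihedral a b ha2 hb2 with h | ⟨c, hcC, hc1, hc2, hac, hbc, h⟩
  · exact absurd (hD a haD b h) hbD
  have hcC' := hcC C haC hbC
  have hcx : c • x = x := by
    apply one a haD _ _ _ hax
    rw [smul_smul, hac, mul_smul, hax]
  have hcy : c • y = y := by
    apply hU
    · intro s hs
      rw [smul_smul, ← hC c hcC' s hs, mul_smul, hBy s hs]
    · rw [smul_smul, hbc, mul_smul, hby]
  refine ⟨c, hcC', hc1, hc2, hcx, hcy, hbc, ?_⟩
  rcases h with h | ⟨u, huC, huu, hau, hbu⟩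
  · exact Or.inl (hD a haD _ h)
  · right
    have huC' := huC C haC hbC
    refine ⟨u, huC', huu, hau, hbu, ?_, ?_⟩
    · -- `u a u⁻¹ = c a ∈ D` fixes `x` and `u x`
      have h1 : u * a * u⁻¹ = a * c := by
        have h2 : a * u = u⁻¹ * a := by
          calc a * u = a * u * (a * a) := by rw [ha2, mul_one]
            _ = (a * u * a) * a := by group
            _ = _ := by rw [hau]
        have h3 : a * u⁻¹ = u * a := by
          calc a * u⁻¹ = u * (u⁻¹ * a) * u⁻¹ := by group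
            _ = u * (a * u) * u⁻¹ := by rw [h2]
            _ = u * a := by group
        calc u * a * u⁻¹ = u * (a * u⁻¹) := by group
          _ = u * u * a := by rw [h3]; group
          _ = a * c := by rw [huu, hac]
      have h2 : u * a * u⁻¹ ∈ D := hD a haD _ (isConj_iff.2 ⟨u, rfl⟩)
      apply one _ h2
      · rw [smul_smul, inv_mul_cancel_right, mul_smul, hax]
      · rw [h1, mul_smul, hcx, hax]
    · apply hU
      · intro s hs
        rw [smul_smul, ← hC u huC' s hs, mul_smul, hBy s hs]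
      · have h2 : b * u = u⁻¹ * b := by
          calc b * u = b * u * (b * b) := by rw [hb2, mul_one]
            _ = (b * u * b) * b := by group
            _ = _ := by rw [hbu]
        have h3 : u * (c⁻¹ * b) = b * u := by
          rw [h2, ← huu]; group
        rw [smul_smul, ← h3, mul_smul, mul_smul, hby]
        have h4 : c⁻¹ • y = y := by rw [inv_smul_eq_iff, hcy]
        rw [h4]

end action

end Cfsg.Agent.CoThreeStd.DihStep
end

-- part: CoThreeStd/CloseH
section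
/-!
# The closing of S1750

`φ : K →* G` injective, `K` with `HFacts.Facts`, `C_G(φ t) ≤ φ(K)` and fusion of `t` controlled: then
`φ(K) = G` (`range_eq_top`).
-/

set_option autoImplicit false

namespace Cfsg.Agent.CoThreeStd.CloseH

open Cfsg.Agent.SporRec.Closing Cfsg.Agent.CoThreeStd.HFacts

variable {K G : Type*} [Group K] [Group G]

/-- the situation of the closing -/
structure Ctx (F : Facts K) (φ : K →* G) : Prop where
  inj : Function.Injective φ
  cent : ∀ g : G, g * φ F.t = φ F.t * g → g ∈ φ.range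
  fus : ∀ k : K, IsConj (φ F.t) (φ k) → IsConj F.t k

/-- the class of `t` in `G` -/
def D (F : Facts K) (φ : K →* G) : Set G := {d | IsConj (φ F.t) d}

/-- the embedding belonging to the point `g H` -/
def em (φ : K →* G) (g : G) : K →* G := (MulAut.conj g).toMonoidHom.comp φ

theorem em_apply (φ : K →* G) (g : G) (k : K) : em φ g k = g * φ k * g⁻¹ := rfl

theorem em_mul (φ : K →* G) (g : G) (h k : K) : em φ (g * φ h) k = em φ g (h * k * h⁻¹) := by
  simp only [em_apply, map_mul, map_inv]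
  group

section

variable {F : Facts K} {φ : K →* G}

theorem D_conj {d e : G} (hd : d ∈ D F φ) (h : IsConj d e) : e ∈ D F φ := IsConj.trans hd h

theorem Ctx.em_inj (h : Ctx F φ) (g : G) : Function.Injective (em φ g) := by
  intro a b hab
  rw [em_apply, em_apply] at hab
  exact h.inj (mul_left_cancel (mul_right_cancel hab))

theorem em_isConj (g : G) (k : K) : IsConj (φ k) (em φ g k) := isConj_iff.2 ⟨g, rfl⟩

theorem Ctx.em_mem_D (h : Ctx F φ) (g : G) (k : K) : em φ g k ∈ D F φ ↔ IsConj F.t k := by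
  constructor
  · intro hk
    exact h.fus k (IsConj.trans hk (em_isConj g k).symm)
  · intro hk
    obtain ⟨c, rfl⟩ := isConj_iff.1 hk
    refine IsConj.trans (isConj_iff.2 ⟨φ c, ?_⟩) (em_isConj g _)
    simp

theorem smul_iff (g s : G) :
    s • (QuotientGroup.mk g : G ⧸ φ.range) = QuotientGroup.mk g ↔ ∃ k, em φ g k = s := by
  rw [smul_mk_eq_iff]
  constructor
  · rintro ⟨k, hk⟩
    refine ⟨k, ?_⟩
    rw [em_apply, hk]
    group
  · rintro ⟨k, rfl⟩
    refine ⟨k, ?_⟩
    rw [em_apply]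
    group

theorem mk_mul_range (g : G) (h : K) :
    (QuotientGroup.mk (g * φ h) : G ⧸ φ.range) = QuotientGroup.mk g := by
  rw [QuotientGroup.eq]
  refine ⟨h⁻¹, ?_⟩
  simp

theorem Ctx.one (h : Ctx F φ) : ∀ d ∈ D F φ, ∀ p q : G ⧸ φ.range, d • p = p → d • q = q → p = q := by
  intro d hd p q hp hq
  obtain ⟨g, rfl⟩ := isConj_iff.1 hd
  have hC : Subgroup.centralizer ({φ F.t} : Set G) ≤ φ.range := by
    intro g hg
    exact h.cent g (Subgroup.mem_centralizer_singleton_iff.1 hg)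
  have hcl : ∀ g, g * φ F.t * g⁻¹ ∈ φ.range →
      ∃ h ∈ φ.range, h * φ F.t * h⁻¹ = g * φ F.t * g⁻¹ := by
    rintro g ⟨k, hk⟩
    obtain ⟨c, hc⟩ := isConj_iff.1 (h.fus k (isConj_iff.2 ⟨g, hk.symm⟩))
    refine ⟨φ c, ⟨c, rfl⟩, ?_⟩
    rw [← hk, ← hc]
    simp
  exact (z_fix _ _ hC hcl g p hp).trans (z_fix _ _ hC hcl g q hq).symm

/-- `Nd` in `G` -/
def NG (F : Facts K) (φ : K →* G) (s : G) : Prop := s * s = 1 ∧ s ≠ 1 ∧ s ∉ D F φ

theorem Ctx.nd_iff (h : Ctx F φ) (g : G) (k : K) : NG F φ (em φ g k) ↔ Nd F.t k := by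
  have h1 := h.em_inj g
  unfold NG Nd
  rw [h.em_mem_D, ← map_mul, ← map_one (em φ g), h1.eq_iff, h1.ne_iff]

theorem mem_W_v (F : Facts K) : F.v ∈ F.W := (F.mem_W _).2 (Or.inr (Or.inl rfl))

theorem mem_W_w (F : Facts K) : F.w ∈ F.W := (F.mem_W _).2 (Or.inr (Or.inr (Or.inl rfl)))

theorem W_le (F : Facts K) : F.W ≤ F.Y3 := fun x hx => (F.mem_Y3 x).2 (Or.inl hx)

theorem mem_Y3_z (F : Facts K) : F.z ∈ F.Y3 :=
  (F.mem_Y3 _).2 (Or.inr (by rw [F.z_nd.1]; exact F.W.one_mem))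

/-- `Fc` at a point -/
theorem Ctx.mulN (h : Ctx F φ) {a b : G} {x : G ⧸ φ.range} (ha : NG F φ a) (hb : NG F φ b)
    (hax : a • x = x) (hbx : b • x = x) (hab : a * b = b * a) (hne : a ≠ b) : NG F φ (a * b) := by
  induction x using QuotientGroup.induction_on with
  | H g =>
    obtain ⟨k, rfl⟩ := (smul_iff g a).1 hax
    obtain ⟨l, rfl⟩ := (smul_iff g b).1 hbx
    rw [h.nd_iff] at ha hb
    rw [← map_mul, h.nd_iff]
    rw [← map_mul, ← map_mul] at hab
    exact F.Fc k l ha hb (h.em_inj g hab) (fun e => hne (by rw [e]))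

/-- `F0` at a point: an embedding at `x` with `v ↦ z` -/
theorem Ctx.at_one (h : Ctx F φ) {z : G} {x : G ⧸ φ.range} (hz : NG F φ z) (hzx : z • x = x) :
    ∃ g : G, (QuotientGroup.mk g : G ⧸ φ.range) = x ∧ em φ g F.v = z := by
  induction x using QuotientGroup.induction_on with
  | H g =>
    obtain ⟨k, rfl⟩ := (smul_iff g z).1 hzx
    rw [h.nd_iff] at hz
    obtain ⟨c, hc⟩ := F.F0 k hz
    refine ⟨g * φ c, mk_mul_range g c, ?_⟩
    rw [em_mul, ← hc]
    congr 1
    group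

/-- elements of the closure of two commuting involutions -/
theorem mem_closure_two {L : Type*} [Group L] {a b : L} (ha : a * a = 1) (hb : b * b = 1)
    (hab : a * b = b * a) (x : L) :
    x ∈ Subgroup.closure ({a, b} : Set L) ↔ x = 1 ∨ x = a ∨ x = b ∨ x = a * b := by
  have hai : a⁻¹ = a := inv_eq_of_mul_eq_one_left ha
  have hbi : b⁻¹ = b := inv_eq_of_mul_eq_one_left hb
  constructor
  · intro hx
    induction hx using Subgroup.closure_induction with
    | mem x hx =>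
      rcases hx with rfl | hx
      · exact Or.inr (Or.inl rfl)
      · exact Or.inr (Or.inr (Or.inl hx))
    | one => exact Or.inl rfl
    | mul x y _ _ hx hy =>
      have e1 : a * (a * b) = b := by rw [← mul_assoc, ha, one_mul]
      have e2 : b * (a * b) = a := by rw [hab, ← mul_assoc, hb, one_mul]
      have e3 : a * b * a = b := by rw [hab, mul_assoc, ha, mul_one]
      have e4 : a * b * b = a := by rw [mul_assoc, hb, mul_one]
      have e5 : a * b * (a * b) = 1 := by rw [mul_assoc, e2, ha]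
      rcases hx with rfl | rfl | rfl | rfl <;> rcases hy with rfl | rfl | rfl | rfl
      all_goals simp only [one_mul, mul_one, e1, e2, e3, e4, e5, ha, hb, ← hab, true_or, or_true]
    | inv x _ hx =>
      rcases hx with rfl | rfl | rfl | rfl
      · left; simp
      · right; left; exact hai
      · right; right; left; exact hbi
      · right; right; right; rw [mul_inv_rev, hai, hbi, hab]
  · rintro (rfl | rfl | rfl | rfl)
    · exact Subgroup.one_mem _
    · exact Subgroup.subset_closure (Or.inl rfl)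
    · exact Subgroup.subset_closure (Or.inr rfl)
    · exact Subgroup.mul_mem _ (Subgroup.subset_closure (Or.inl rfl))
        (Subgroup.subset_closure (Or.inr rfl))

/-- `{1, z₁, z₂, z₁ z₂}` -/
def four (z₁ z₂ : G) : Set G := {s | s = 1 ∨ s = z₁ ∨ s = z₂ ∨ s = z₁ * z₂}

/-- `F1` at a point: an embedding at `x` with `W ↦ {1, z₁, z₂, z₁ z₂}` -/
theorem Ctx.at_two (h : Ctx F φ) {z₁ z₂ : G} {x : G ⧸ φ.range} (h1 : NG F φ z₁) (h2 : NG F φ z₂)
    (hx1 : z₁ • x = x) (hx2 : z₂ • x = x) (h12 : z₁ * z₂ = z₂ * z₁) (hne : z₁ ≠ z₂) :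
    ∃ g : G, (QuotientGroup.mk g : G ⧸ φ.range) = x ∧
      ∀ k, em φ g k ∈ four z₁ z₂ ↔ k ∈ F.W := by
  induction x using QuotientGroup.induction_on with
  | H g =>
    obtain ⟨a, rfl⟩ := (smul_iff g z₁).1 hx1
    obtain ⟨b, rfl⟩ := (smul_iff g z₂).1 hx2
    rw [h.nd_iff] at h1 h2
    rw [← map_mul, ← map_mul] at h12
    have hab := h.em_inj g h12
    obtain ⟨c, hc⟩ := F.F1 a b h1 h2 hab (fun e => hne (by rw [e]))
    refine ⟨g * φ c, mk_mul_range g c, ?_⟩
    intro k
    rw [em_mul]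
    have e1 : em φ g (c * k * c⁻¹) ∈ four (em φ g a) (em φ g b) ↔
        c * k * c⁻¹ ∈ Subgroup.closure ({a, b} : Set K) := by
      rw [mem_closure_two h1.1 h2.1 hab]
      unfold four
      rw [Set.mem_ofPred_eq, ← map_mul, ← map_one (em φ g)]
      simp only [(h.em_inj g).eq_iff]
    rw [e1, hc]
    have : c⁻¹ * (c * k * c⁻¹) * c = k := by group
    rw [this]

/-- `F2` at a point -/
theorem Ctx.at_three (h : Ctx F φ) {z₁ z₂ z₃ : G} {x : G ⧸ φ.range} (h1 : NG F φ z₁)
    (h2 : NG F φ z₂) (h3 : NG F φ z₃) (hx1 : z₁ • x = x) (hx2 : z₂ • x = x) (hx3 : z₃ • x = x)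
    (h12 : z₁ * z₂ = z₂ * z₁) (h13 : z₁ * z₃ = z₃ * z₁) (h23 : z₂ * z₃ = z₃ * z₂) (hne : z₁ ≠ z₂)
    (hnot : z₃ ∉ four z₁ z₂) :
    ∃ g : G, (QuotientGroup.mk g : G ⧸ φ.range) = x ∧
      (∀ k ∈ F.Y3, em φ g k ∈ Subgroup.closure ({z₁, z₂, z₃} : Set G)) ∧
      ∃ a b c : K, a ∈ F.Y3 ∧ b ∈ F.Y3 ∧ c ∈ F.Y3 ∧ em φ g a = z₁ ∧ em φ g b = z₂ ∧
        em φ g c = z₃ := by
  induction x using QuotientGroup.induction_on with
  | H g =>
    obtain ⟨a, rfl⟩ := (smul_iff g z₁).1 hx1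
    obtain ⟨b, rfl⟩ := (smul_iff g z₂).1 hx2
    obtain ⟨c, rfl⟩ := (smul_iff g z₃).1 hx3
    have hi := h.em_inj g
    rw [h.nd_iff] at h1 h2 h3
    rw [← map_mul, ← map_mul] at h12 h13 h23
    obtain ⟨d, hd⟩ := F.F2 a b c h1 h2 h3 (hi h12) (hi h13) (hi h23) (fun e => hne (by rw [e]))
      (fun e => hnot (Or.inr (Or.inl (by rw [e])))) (fun e => hnot (Or.inr (Or.inr (Or.inl (by rw [e])))))
      (fun e => hnot (Or.inr (Or.inr (Or.inr (by rw [e, map_mul])))))
    have hmap : ∀ k ∈ Subgroup.closure ({a, b, c} : Set K),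
        em φ g k ∈ Subgroup.closure ({em φ g a, em φ g b, em φ g c} : Set G) := by
      intro k hk
      have h5 : (Subgroup.closure ({a, b, c} : Set K)) ≤
          (Subgroup.closure ({em φ g a, em φ g b, em φ g c} : Set G)).comap (em φ g) := by
        rw [Subgroup.closure_le]
        rintro y (rfl | rfl | rfl)
        · exact Subgroup.subset_closure (Or.inl rfl)
        · exact Subgroup.subset_closure (Or.inr (Or.inl rfl))
        · exact Subgroup.subset_closure (Or.inr (Or.inr rfl))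
      exact h5 hk
    refine ⟨g * φ d, mk_mul_range g d, ?_, d⁻¹ * a * d, d⁻¹ * b * d, d⁻¹ * c * d, ?_, ?_, ?_, ?_,
      ?_, ?_⟩
    · intro k hk
      rw [em_mul]
      apply hmap
      rw [hd]
      have : d⁻¹ * (d * k * d⁻¹) * d = k := by group
      rw [this]
      exact hk
    · exact (hd a).1 (Subgroup.subset_closure (Or.inl rfl))
    · exact (hd b).1 (Subgroup.subset_closure (Or.inr (Or.inl rfl)))
    · exact (hd c).1 (Subgroup.subset_closure (Or.inr (Or.inr rfl)))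
    all_goals
      rw [em_mul]
      congr 1
      group

/-! ### Step 3 -/

/-- the image of `Y3` -/
def YY (F : Facts K) (φ : K →* G) : Subgroup G := F.Y3.map φ

/-- `C_S(Y3)` in `G` -/
def PP (F : Facts K) (φ : K →* G) : Subgroup G :=
  F.S.map φ ⊓ Subgroup.centralizer ((YY F φ : Subgroup G) : Set G)

theorem map_mem_YY (h : Ctx F φ) (k : K) : φ k ∈ YY F φ ↔ k ∈ F.Y3 := by
  constructor
  · rintro ⟨l, hl, hkl⟩
    rwa [← h.inj hkl]
  · intro hk
    exact ⟨k, hk, rfl⟩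

theorem mem_PP (h : Ctx F φ) (p : G) :
    p ∈ PP F φ ↔ ∃ s ∈ F.S, (∀ x ∈ F.Y3, s * x = x * s) ∧ φ s = p := by
  constructor
  · rintro ⟨⟨s, hs, rfl⟩, hc⟩
    refine ⟨s, hs, ?_, rfl⟩
    intro x hx
    have h1 := Subgroup.mem_centralizer_iff.1 hc (φ x) ⟨x, hx, rfl⟩
    rw [← map_mul, ← map_mul] at h1
    exact (h.inj h1).symm
  · rintro ⟨s, hs, hc, rfl⟩
    refine ⟨⟨s, hs, rfl⟩, ?_⟩
    show φ s ∈ Subgroup.centralizer ((YY F φ : Subgroup G) : Set G)
    rw [Subgroup.mem_centralizer_iff]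
    rintro _ ⟨x, hx, rfl⟩
    rw [← map_mul, ← map_mul, hc x hx]

theorem mem_Y3_iff_cases (F : Facts K) {x : K} (hx : x ∈ F.Y3) :
    ∃ w ∈ F.W, x = w ∨ x = F.z * w := by
  rcases (F.mem_Y3 x).1 hx with hw | hw
  · exact ⟨x, hw, Or.inl rfl⟩
  · refine ⟨F.z * x, hw, Or.inr ?_⟩
    rw [← mul_assoc, F.z_nd.1, one_mul]

theorem Y3_le_closure (F : Facts K) :
    F.Y3 ≤ Subgroup.closure ({F.v, F.w, F.z} : Set K) := by
  intro x hx
  have hv : F.v ∈ Subgroup.closure ({F.v, F.w, F.z} : Set K) :=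
    Subgroup.subset_closure (Or.inl rfl)
  have hw : F.w ∈ Subgroup.closure ({F.v, F.w, F.z} : Set K) :=
    Subgroup.subset_closure (Or.inr (Or.inl rfl))
  have hz : F.z ∈ Subgroup.closure ({F.v, F.w, F.z} : Set K) :=
    Subgroup.subset_closure (Or.inr (Or.inr rfl))
  have hW : F.W ≤ Subgroup.closure ({F.v, F.w, F.z} : Set K) := by
    intro y hy
    rcases (F.mem_W y).1 hy with rfl | rfl | rfl | rfl
    · exact Subgroup.one_mem _
    · exact hv
    · exact hw
    · exact Subgroup.mul_mem _ hv hw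
  obtain ⟨w, hw', rfl | rfl⟩ := mem_Y3_iff_cases F hx
  · exact hW hw'
  · exact Subgroup.mul_mem _ hz (hW hw')

/-- the set-up of the relative step for `Y3` -/
theorem Ctx.setup [Finite G] (h : Ctx F φ) :
    Step.Setup φ.range (D F φ) (YY F φ) (PP F φ) where
  conjD := fun d hd g => D_conj hd (isConj_iff.2 ⟨g, rfl⟩)
  one := h.one
  comm := by
    rintro _ ⟨a, ha, rfl⟩ _ ⟨b, hb, rfl⟩
    rw [← map_mul, ← map_mul, F.comm_Y3 a ha b hb]
  leH := by
    rintro _ ⟨a, ha, rfl⟩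
    exact ⟨a, rfl⟩
  fus := by
    intro g hg
    -- the images of `v, w, z`
    obtain ⟨a, ha⟩ := hg (φ F.v) ⟨_, W_le F (mem_W_v F), rfl⟩
    obtain ⟨b, hb⟩ := hg (φ F.w) ⟨_, W_le F (mem_W_w F), rfl⟩
    obtain ⟨c, hc⟩ := hg (φ F.z) ⟨_, mem_Y3_z F, rfl⟩
    have key : ∀ k l : K, φ k = g⁻¹ * φ l * g → Nd F.t l → Nd F.t k := by
      intro k l hkl hl
      have h1 : em φ g k = φ l := by rw [em_apply, hkl]; group
      have h2 : em φ 1 l = φ l := by rw [em_apply]; group
      rw [← h.nd_iff g k, h1, ← h2, h.nd_iff 1 l]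
      exact hl
    have hcom : ∀ k l k' l' : K, φ k = g⁻¹ * φ l * g → φ k' = g⁻¹ * φ l' * g → l * l' = l' * l →
        k * k' = k' * k := by
      intro k l k' l' h1 h2 h3
      apply h.inj
      rw [map_mul, map_mul, h1, h2]
      have h4 : φ l * φ l' = φ l' * φ l := by rw [← map_mul, ← map_mul, h3]
      calc g⁻¹ * φ l * g * (g⁻¹ * φ l' * g) = g⁻¹ * (φ l * φ l') * g := by group
        _ = g⁻¹ * (φ l' * φ l) * g := by rw [h4]
        _ = _ := by group
    have hne : ∀ k l k' l' : K, φ k = g⁻¹ * φ l * g → φ k' = g⁻¹ * φ l' * g → k = k' → l = l' := by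
      intro k l k' l' h1 h2 h3
      apply h.inj
      rw [h3] at h1
      have h4 : g⁻¹ * φ l * g = g⁻¹ * φ l' * g := h1.symm.trans h2
      exact mul_left_cancel (mul_right_cancel h4)
    have hzW : ∀ x ∈ F.W, F.z ≠ x := by
      intro x hx e
      exact F.z_notin (e ▸ hx)
    obtain ⟨d, hd⟩ := F.F2 a b c (key a F.v ha F.v_nd) (key b F.w hb F.w_nd) (key c F.z hc F.z_nd)
      (hcom a F.v b F.w ha hb F.v_w) (hcom a F.v c F.z ha hc F.v_z) (hcom b F.w c F.z hb hc F.w_z)
      (fun e => F.v_ne_w (hne a F.v b F.w ha hb e))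
      (fun e => hzW _ (mem_W_v F) (hne c F.z a F.v hc ha e))
      (fun e => hzW _ (mem_W_w F) (hne c F.z b F.w hc hb e))
      (fun e => hzW _ (F.W.mul_mem (mem_W_v F) (mem_W_w F)) (hne c F.z (a * b) (F.v * F.w) hc (by
        rw [map_mul, map_mul, ha, hb]; group) e))
    refine ⟨φ d, ⟨d, rfl⟩, ?_⟩
    rintro _ ⟨y, hy, rfl⟩
    -- `g⁻¹ φ(y) g = φ y'` with `y' ∈ closure {a, b, c}`
    have hle : Subgroup.closure ({F.v, F.w, F.z} : Set K) ≤
        ((Subgroup.closure ({a, b, c} : Set K)).map (em φ g)).comap φ := by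
      rw [Subgroup.closure_le]
      rintro x (rfl | rfl | rfl)
      · exact ⟨a, Subgroup.subset_closure (Or.inl rfl), by rw [em_apply, ha]; group⟩
      · exact ⟨b, Subgroup.subset_closure (Or.inr (Or.inl rfl)), by rw [em_apply, hb]; group⟩
      · exact ⟨c, Subgroup.subset_closure (Or.inr (Or.inr rfl)), by rw [em_apply, hc]; group⟩
    obtain ⟨y', hy', hyy⟩ := hle (Y3_le_closure F hy)
    have h1 := (hd y').1 hy'
    have h2 : (φ d)⁻¹ * (g⁻¹ * φ y * g) * φ d = φ (d⁻¹ * y' * d) := by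
      rw [← hyy, em_apply, map_mul, map_mul, map_inv]
      group
    rw [h2]
    exact ⟨_, h1, rfl⟩
  two := by
    have h1 : IsPGroup 2 (F.S.map φ) := F.two_S.map φ
    exact h1.to_le inf_le_left
  PH := by
    rintro _ ⟨⟨s, hs, rfl⟩, -⟩
    exact ⟨s, rfl⟩
  PC := by
    intro a ha b hb
    exact (Subgroup.mem_centralizer_iff.1 ha.2 b hb).symm
  YP := by
    rintro _ ⟨a, ha, rfl⟩
    rw [mem_PP h]
    exact ⟨a, F.Y3_S ha, fun x hx => F.comm_Y3 a ha x hx, rfl⟩
  syl := by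
    intro R hR hRH hRC
    have hT : IsPGroup 2 (F.S.map φ) := F.two_S.map φ
    refine Step.syl_of_normal φ.range (F.S.map φ) (YY F φ) hT ?_ ?_ ?_ R hR hRH hRC
    · rintro _ ⟨s, hs, rfl⟩
      exact ⟨s, rfl⟩
    · rintro _ ⟨s, hs, rfl⟩
      have h1 := F.S_Y3 hs
      rw [Subgroup.mem_normalizer_iff] at h1 ⊢
      intro x
      constructor
      · rintro ⟨y, hy, rfl⟩
        exact ⟨s * y * s⁻¹, (h1 y).1 hy, by simp⟩
      · rintro ⟨y, hy, hxy⟩
        refine ⟨s⁻¹ * y * s, ?_, ?_⟩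
        · have h2 := (h1 (s⁻¹ * y * s)).2
          apply h2
          have : s * (s⁻¹ * y * s) * s⁻¹ = y := by group
          rw [this]
          exact hy
        · rw [map_mul, map_mul, map_inv, hxy]
          group
    · intro Q hQ hQH
      have h2 : IsPGroup 2 (Q.comap φ) := hQ.comap_of_injective φ h.inj
      obtain ⟨c, hc⟩ := F.syl _ h2
      refine ⟨φ c, ⟨c, rfl⟩, ?_⟩
      intro r hr
      obtain ⟨k, rfl⟩ := hQH hr
      refine ⟨c⁻¹ * k * c, hc k hr, ?_⟩
      simp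
  meet := by
    refine ⟨φ F.t, ?_, IsConj.refl _⟩
    rw [mem_PP h]
    exact ⟨F.t, F.t_S, F.Fa, rfl⟩

/-- STEP 3, core -/
theorem Ctx.not_two [Finite G] (h : Ctx F φ) : ¬ Step.Two φ.range (YY F φ) := by
  apply h.setup.not_two
  intro X hX
  have hDc : ∀ d ∈ D F φ, ∀ g : G, g * d * g⁻¹ ∈ D F φ := h.setup.conjD
  have hfree : ∀ k : K, φ k ∈ X → ¬ IsConj F.t k := by
    intro k hk hc
    have h1 : em φ 1 k = φ k := by rw [em_apply]; group
    exact hX.free _ hk (by rw [← h1, h.em_mem_D]; exact hc)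
  have hD : ∀ k : K, φ k ∈ D F φ ↔ IsConj F.t k := by
    intro k
    have h1 : em φ 1 k = φ k := by rw [em_apply]; group
    rw [← h1, h.em_mem_D]
  -- the elements of `X`
  have hXel : ∀ p ∈ X, ∃ s ∈ F.S, (∀ x ∈ F.Y3, s * x = x * s) ∧ φ s = p ∧
      (s ∈ F.K3 ∨ F.e0⁻¹ * s ∈ F.Y3) := by
    intro p hp
    obtain ⟨s, hs, hc, rfl⟩ := (mem_PP h p).1 (hX.le' hp)
    refine ⟨s, hs, hc, rfl, ?_⟩
    rcases F.P3_cases s hs hc with h1 | h1 | h1
    · exact Or.inl h1
    · exact absurd h1 (hfree s hp)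
    · exact Or.inr h1
  have hYX : ∀ x ∈ F.Y3, φ x ∈ X := fun x hx => hX.le ⟨x, hx, rfl⟩
  have htX : φ F.t ∉ X := fun hh => hfree _ hh (IsConj.refl _)
  have htC : ∀ b ∈ YY F φ, φ F.t * b = b * φ F.t := by
    rintro _ ⟨x, hx, rfl⟩
    rw [← map_mul, ← map_mul, F.Fa x hx]
  have htt : φ F.t * φ F.t = 1 := by rw [← map_mul, F.t_mul, map_one]
  by_cases he0 : φ F.e0 ∈ X
  · -- `X = Y3 ∪ e0 Y3`
    have hXcases : ∀ p ∈ X, p ∈ YY F φ ∨ (φ F.e0)⁻¹ * p ∈ YY F φ := by
      intro p hp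
      obtain ⟨s, hs, hc, rfl, h1 | h1⟩ := hXel p hp
      · left
        have h2 : φ (F.e0 * s) ∈ X := by rw [map_mul]; exact X.mul_mem he0 hp
        obtain ⟨s', hs', hc', hss, h3 | h3⟩ := hXel _ h2
        · exfalso
          have h4 := h.inj hss
          rw [h4] at h3
          apply F.e0_K3
          have h5 := F.K3.mul_mem h3 (F.K3.inv_mem h1)
          rwa [mul_inv_cancel_right] at h5
        · have h4 := h.inj hss
          rw [h4, ← mul_assoc, inv_mul_cancel, one_mul] at h3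
          exact ⟨s, h3, rfl⟩
      · right
        exact ⟨F.e0⁻¹ * s, h1, by simp⟩
    have hYab : ∀ a ∈ YY F φ, ∀ b ∈ YY F φ, a * b = b * a := h.setup.comm
    have he0Y : ∀ b ∈ YY F φ, φ F.e0 * b = b * φ F.e0 := by
      rintro _ ⟨x, hx, rfl⟩
      rw [← map_mul, ← map_mul, F.e0_Y3 x hx]
    have hXab : ∀ a ∈ X, ∀ b ∈ X, a * b = b * a := by
      intro a ha b hb
      have key : ∀ p ∈ X, ∃ q ∈ YY F φ, p = q ∨ p = φ F.e0 * q := by
        intro p hp
        rcases hXcases p hp with h1 | h1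
        · exact ⟨p, h1, Or.inl rfl⟩
        · exact ⟨_, h1, Or.inr (by group)⟩
      obtain ⟨a', ha', haa⟩ := key a ha
      obtain ⟨b', hb', hbb⟩ := key b hb
      have hab := hYab a' ha' b' hb'
      have ha0 := he0Y a' ha'
      have hb0 := he0Y b' hb'
      rcases haa with rfl | rfl <;> rcases hbb with rfl | rfl
      · exact hab
      · rw [← mul_assoc, ← ha0, mul_assoc, hab, mul_assoc]
      · rw [mul_assoc, hab, ← mul_assoc, hb0, mul_assoc]
      · calc φ F.e0 * a' * (φ F.e0 * b') = φ F.e0 * (a' * φ F.e0) * b' := by group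
          _ = φ F.e0 * φ F.e0 * (a' * b') := by rw [← ha0]; group
          _ = φ F.e0 * φ F.e0 * (b' * a') := by rw [hab]
          _ = φ F.e0 * (φ F.e0 * b') * a' := by group
          _ = φ F.e0 * (b' * φ F.e0) * a' := by rw [hb0]
          _ = _ := by group
    -- elements of `S` centralising `Y3` normalise `X`
    have hnorm : ∀ s ∈ F.S, (∀ x ∈ F.Y3, s * x = x * s) → φ s ∈ Subgroup.normalizer (X : Set G) := by
      have h1 : ∀ s ∈ F.S, (∀ x ∈ F.Y3, s * x = x * s) → ∀ p ∈ X, φ s * p * (φ s)⁻¹ ∈ X := by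
        intro s hs hc p hp
        -- `s e0 s⁻¹ ∈ e0 Y3`
        have h2 : F.e0⁻¹ * (s * F.e0 * s⁻¹) ∈ F.Y3 := by
          have h3 : s * F.e0 * s⁻¹ ∈ F.S := F.S.mul_mem (F.S.mul_mem hs F.e0_S) (F.S.inv_mem hs)
          have hsi : ∀ x ∈ F.Y3, s⁻¹ * x = x * s⁻¹ := by
            intro x hx
            calc s⁻¹ * x = s⁻¹ * (x * s) * s⁻¹ := by group
              _ = s⁻¹ * (s * x) * s⁻¹ := by rw [hc x hx]
              _ = x * s⁻¹ := by group
          have h4 : ∀ x ∈ F.Y3, s * F.e0 * s⁻¹ * x = x * (s * F.e0 * s⁻¹) := by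
            intro x hx
            calc s * F.e0 * s⁻¹ * x = s * F.e0 * (s⁻¹ * x) := by group
              _ = s * (F.e0 * x) * s⁻¹ := by rw [hsi x hx]; group
              _ = (s * x) * F.e0 * s⁻¹ := by rw [F.e0_Y3 x hx]; group
              _ = x * (s * F.e0 * s⁻¹) := by rw [hc x hx]; group
          rcases F.P3_cases _ h3 h4 with h5 | h5 | h5
          · exfalso
            apply F.e0_K3
            exact (Subgroup.mem_normalizer_iff.1 (F.S_K3 hs) _).2 h5
          · exfalso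
            have h6 := F.free_E 1 F.Y3.one_mem
            apply h6
            rw [mul_one]
            exact h5.trans (isConj_iff.2 ⟨s⁻¹, by group⟩)
          · exact h5
        rcases hXcases p hp with h3 | h3
        · obtain ⟨x, hx, rfl⟩ := h3
          have : φ s * φ x * (φ s)⁻¹ = φ x := by
            rw [← map_mul, hc x hx, map_mul, mul_inv_cancel_right]
          rw [this]
          exact hYX x hx
        · obtain ⟨x, hx, hxp⟩ := h3
          have hp' : p = φ F.e0 * φ x := by rw [hxp]; group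
          have h4 : φ s * p * (φ s)⁻¹ = φ F.e0 * φ (F.e0⁻¹ * (s * F.e0 * s⁻¹)) * φ x := by
            have h5 : s * x * s⁻¹ = x := by rw [hc x hx, mul_inv_cancel_right]
            rw [hp']
            calc φ s * (φ F.e0 * φ x) * (φ s)⁻¹ = φ (s * F.e0 * s⁻¹) * φ (s * x * s⁻¹) := by
                  simp only [map_mul, map_inv]; group
              _ = φ (s * F.e0 * s⁻¹) * φ x := by rw [h5]
              _ = _ := by simp only [map_mul, map_inv]; group
          rw [h4]
          exact X.mul_mem (X.mul_mem he0 (hYX _ h2)) (hYX _ hx)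
      intro s hs hc
      rw [Subgroup.mem_normalizer_iff]
      intro p
      constructor
      · exact h1 s hs hc p
      · intro hp
        have hsi : ∀ x ∈ F.Y3, s⁻¹ * x = x * s⁻¹ := by
          intro x hx
          calc s⁻¹ * x = s⁻¹ * (x * s) * s⁻¹ := by group
            _ = s⁻¹ * (s * x) * s⁻¹ := by rw [hc x hx]
            _ = x * s⁻¹ := by group
        have h2 := h1 s⁻¹ (F.S.inv_mem hs) hsi _ hp
        have : φ s⁻¹ * (φ s * p * (φ s)⁻¹) * (φ s⁻¹)⁻¹ = p := by rw [map_inv]; group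
        rwa [this] at h2
    obtain ⟨d, hdS, hdC, hdY, hdE, hne⟩ := F.H6
    have hdX : φ d ∉ X := by
      intro hh
      rcases hXcases _ hh with h1 | h1
      · exact hdY ((map_mem_YY h d).1 h1)
      · apply hdE
        rw [← map_mem_YY h, map_mul, map_inv]
        exact h1
    have h1 := Special.transvection hX hXab (φ F.e0) he0 hXcases (hnorm F.t F.t_S F.Fa) htC htX
      (by rw [htt]; exact X.one_mem) (hnorm d hdS hdC) (by
        rintro _ ⟨x, hx, rfl⟩
        rw [← map_mul, ← map_mul, hdC x hx]) hdX (by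
        rw [← map_mul]
        exact hYX _ (F.H1 d hdS hdC))
    apply hne
    apply h.inj
    simp only [map_mul, map_inv]
    exact h1.symm
  · -- `X ≤ K3`
    have hXK : ∀ p ∈ X, ∃ k ∈ F.K3, φ k = p := by
      intro p hp
      obtain ⟨s, hs, hc, rfl, h1 | h1⟩ := hXel p hp
      · exact ⟨s, h1, rfl⟩
      · exfalso
        apply he0
        have h2 : φ F.e0 = φ s * (φ (F.e0⁻¹ * s))⁻¹ := by
          rw [map_mul, map_inv]; group
        rw [h2]
        exact X.mul_mem hp (X.inv_mem (hYX _ h1))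
    have hXab : ∀ a ∈ X, ∀ b ∈ X, a * b = b * a := by
      intro a ha b hb
      obtain ⟨k, hk, rfl⟩ := hXK a ha
      obtain ⟨l, hl, rfl⟩ := hXK b hb
      rw [← map_mul, ← map_mul, F.comm_K3 k hk l hl]
    have htN : φ F.t ∈ Subgroup.normalizer (X : Set G) := by
      have h1 : ∀ p ∈ X, φ F.t * p * (φ F.t)⁻¹ = p⁻¹ := by
        intro p hp
        obtain ⟨k, hk, rfl⟩ := hXK p hp
        have hti : (φ F.t)⁻¹ = φ F.t := inv_eq_of_mul_eq_one_left htt
        rw [hti, ← map_mul, ← map_mul, F.inv_K3 k hk, map_inv]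
      rw [Subgroup.mem_normalizer_iff]
      intro p
      constructor
      · intro hp
        rw [h1 p hp]
        exact X.inv_mem hp
      · intro hp
        have h2 := h1 _ hp
        have hti : (φ F.t)⁻¹ = φ F.t := inv_eq_of_mul_eq_one_left htt
        have h3 : φ F.t * (φ F.t * p * (φ F.t)⁻¹) * (φ F.t)⁻¹ = p := by
          rw [hti]
          calc φ F.t * (φ F.t * p * φ F.t) * φ F.t
              = (φ F.t * φ F.t) * p * (φ F.t * φ F.t) := by group
            _ = p := by rw [htt]; group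
        rw [h3] at h2
        rw [h2]
        exact X.inv_mem hp
    by_cases hK : ∀ k ∈ F.K3, φ k ∈ X
    · -- `X = K3`
      obtain ⟨k0, hk0, hk01⟩ := F.four_K3
      have hnot : φ F.t * φ k0 ≠ φ k0 * φ F.t := by
        intro hh
        rw [← map_mul, ← map_mul] at hh
        have h1 := h.inj hh
        have h2 := F.inv_K3 k0 hk0
        rw [h1, mul_assoc, F.t_mul, mul_one] at h2
        apply hk01
        nth_rewrite 1 [h2]
        exact inv_mul_cancel _
      have hyy : F.y * F.y = 1 := by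
        obtain ⟨c, hc⟩ := isConj_iff.1 F.y_conj
        rw [← hc]
        calc c * F.t * c⁻¹ * (c * F.t * c⁻¹) = c * (F.t * F.t) * c⁻¹ := by group
          _ = 1 := by rw [F.t_mul]; group
      refine Special.homocyclic hX h.setup.PH h.one hXab ?_ ?_ htN htC htX
        (by rw [htt]; exact X.one_mem) (hK k0 hk0) hnot ((hD F.t).2 (IsConj.refl _))
        ((hD F.y).2 F.y_conj) ?_ ⟨F.t, rfl⟩ ⟨F.y, rfl⟩ htN ?_ htt ?_ ?_
      · intro x hx
        obtain ⟨k, hk, rfl⟩ := hXK x hx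
        rw [← map_mul]
        exact ⟨_, F.sq_K3 k hk, rfl⟩
      · intro x hx hxx
        obtain ⟨k, hk, rfl⟩ := hXK x hx
        rw [← map_mul, ← map_one φ] at hxx
        exact ⟨_, F.ker_K3 k hk (h.inj hxx), rfl⟩
      · rw [← map_mul, hD]
        exact F.ty_conj
      · rw [Subgroup.mem_normalizer_iff]
        have h1 := Subgroup.mem_normalizer_iff.1 (F.S_K3 F.y_S)
        intro p
        constructor
        · intro hp
          obtain ⟨k, hk, rfl⟩ := hXK p hp
          rw [← map_mul, ← map_inv, ← map_mul]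
          exact hK _ ((h1 k).1 hk)
        · intro hp
          obtain ⟨k, hk, hkp⟩ := hXK _ hp
          have h2 : p = φ (F.y⁻¹ * k * F.y) := by
            rw [map_mul, map_mul, map_inv, hkp]; group
          rw [h2]
          apply hK
          have h3 := (h1 (F.y⁻¹ * k * F.y)).2
          apply h3
          have : F.y * (F.y⁻¹ * k * F.y) * F.y⁻¹ = k := by group
          rw [this]
          exact hk
      · rw [← map_mul, hyy, map_one]
      · rw [← map_mul, ← map_mul, F.t_y]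
    · -- `X < K3`
      push Not at hK
      obtain ⟨k, hk, hkX⟩ := hK
      have hkN : φ k ∈ Subgroup.normalizer (X : Set G) := by
        apply mem_normalizer_of_comm
        intro s hs
        obtain ⟨l, hl, rfl⟩ := hXK s hs
        rw [← map_mul, ← map_mul, F.comm_K3 k hk l hl]
      obtain ⟨x, hx, hxD⟩ := hX.exists_of hDc htN htC htX (by rw [htt]; exact X.one_mem) hkN (by
          rintro _ ⟨x, hx, rfl⟩
          rw [← map_mul, ← map_mul, F.comm_K3 k hk x (F.Y3_K3 hx)]) hkX (by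
          rw [← map_mul]
          exact hYX _ (F.sq_K3 k hk)) ⟨1, X.one_mem, by rw [mul_one, hD]⟩
      obtain ⟨l, hl, rfl⟩ := hXK x hx
      rw [← map_mul, hD] at hxD
      exact F.free_K3 _ (F.K3.mul_mem hk hl) hxD

/-- STEP 3 -/
theorem Ctx.three [Finite G] (h : Ctx F φ) {z₁ z₂ z₃ : G} {x y : G ⧸ φ.range} (h1 : NG F φ z₁)
    (h2 : NG F φ z₂) (h3 : NG F φ z₃) (h12 : z₁ * z₂ = z₂ * z₁) (h13 : z₁ * z₃ = z₃ * z₁)
    (h23 : z₂ * z₃ = z₃ * z₂) (hne : z₁ ≠ z₂) (hnot : z₃ ∉ four z₁ z₂)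
    (hx1 : z₁ • x = x) (hx2 : z₂ • x = x) (hx3 : z₃ • x = x)
    (hy1 : z₁ • y = y) (hy2 : z₂ • y = y) (hy3 : z₃ • y = y) : x = y := by
  by_contra hxy
  obtain ⟨g, hg, hcl, -⟩ := h.at_three h1 h2 h3 hx1 hx2 hx3 h12 h13 h23 hne hnot
  apply h.not_two
  have hfix : ∀ p : G ⧸ φ.range, z₁ • p = p → z₂ • p = p → z₃ • p = p →
      p ∈ Fix φ.range (Subgroup.closure ({z₁, z₂, z₃} : Set G)) := by
    intro p p1 p2 p3 s hs
    have : Subgroup.closure ({z₁, z₂, z₃} : Set G) ≤ MulAction.stabilizer G p := by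
      rw [Subgroup.closure_le]
      rintro y (rfl | rfl | rfl)
      · exact p1
      · exact p2
      · exact p3
    exact this hs
  have h5 : Step.Two φ.range (Subgroup.closure ({z₁, z₂, z₃} : Set G)) :=
    ⟨x, y, hfix x hx1 hx2 hx3, hfix y hy1 hy2 hy3, hxy⟩
  refine h5.conj g⁻¹ ?_
  rintro _ ⟨k, hk, rfl⟩
  have := hcl k hk
  rw [em_apply] at this
  rwa [inv_inv]

/-! ### Step 2 -/

theorem D_sq {d : G} (hd : d ∈ D F φ) : d * d = 1 := by
  obtain ⟨c, rfl⟩ := isConj_iff.1 hd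
  have h1 : φ F.t * φ F.t = 1 := by rw [← map_mul, F.t_mul, map_one]
  calc c * φ F.t * c⁻¹ * (c * φ F.t * c⁻¹) = c * (φ F.t * φ F.t) * c⁻¹ := by group
    _ = 1 := by rw [h1]; group

theorem Ctx.ng_of_two (h : Ctx F φ) {s : G} {x y : G ⧸ φ.range} (hxy : x ≠ y) (hss : s * s = 1)
    (hs1 : s ≠ 1) (hx : s • x = x) (hy : s • y = y) : NG F φ s :=
  ⟨hss, hs1, fun hD => hxy (h.one s hD x y hx hy)⟩

/-- a pair of commuting involutions outside `D` fixing the point `x` -/
structure Pr (F : Facts K) (φ : K →* G) (z₁ z₂ : G) (x : G ⧸ φ.range) : Prop where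
  n1 : NG F φ z₁
  n2 : NG F φ z₂
  comm : z₁ * z₂ = z₂ * z₁
  ne : z₁ ≠ z₂
  f1 : z₁ • x = x
  f2 : z₂ • x = x

theorem comm_of_mem_four {z₁ z₂ a s : G} (h1 : a * z₁ = z₁ * a) (h2 : a * z₂ = z₂ * a)
    (hs : s ∈ four z₁ z₂) : a * s = s * a := by
  rcases hs with rfl | rfl | rfl | rfl
  · simp
  · exact h1
  · exact h2
  · rw [← mul_assoc, h1, mul_assoc, h2, mul_assoc]

theorem Pr.mem_four [Finite G] (h : Ctx F φ) {z₁ z₂ s : G} {x y : G ⧸ φ.range}
    (Px : Pr F φ z₁ z₂ x) (Py : Pr F φ z₁ z₂ y) (hxy : x ≠ y) (hss : s * s = 1)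
    (h1 : s * z₁ = z₁ * s) (h2 : s * z₂ = z₂ * s) (hx : s • x = x) (hy : s • y = y) :
    s ∈ four z₁ z₂ := by
  by_contra hno
  have hs1 : s ≠ 1 := fun e => hno (Or.inl e)
  exact hxy (h.three Px.n1 Px.n2 (h.ng_of_two hxy hss hs1 hx hy) Px.comm h1.symm h2.symm Px.ne hno
    Px.f1 Px.f2 hx Py.f1 Py.f2 hy)

theorem Pr.step [Finite G] (h : Ctx F φ) {z₁ z₂ : G} {x y : G ⧸ φ.range}
    (Px : Pr F φ z₁ z₂ x) (Py : Pr F φ z₁ z₂ y) (hxy : x ≠ y) (C : Subgroup G)
    (hC : ∀ c ∈ C, c * z₁ = z₁ * c ∧ c * z₂ = z₂ * c) {a b : G} (ha : a ∈ D F φ)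
    (hb : NG F φ b) (haC : a ∈ C) (hbC : b ∈ C) (hax : a • x = x) (hby : b • y = y)
    (hb4 : b ∉ four z₁ z₂) :
    ∃ u ∈ C, u • x = x ∧ u • y = y ∧ u * u ∈ four z₁ z₂ ∧ u * u ≠ 1 ∧ a * u * a = u⁻¹ ∧
      b * u * b = u⁻¹ := by
  obtain ⟨c, hcC, hc1, hcc, hcx, hcy, hbc, hcase⟩ := DihStep.step (D := D F φ)
    (fun d hd e he => D_conj hd he) h.one ({z₁, z₂} : Set G) C (by
      rintro c hc s (rfl | rfl)
      · exact (hC c hc).1
      · exact (hC c hc).2) ha hb.2.2 (D_sq ha) hb.1 haC hbC hax hby (by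
      rintro s (rfl | rfl)
      · exact Py.f1
      · exact Py.f2) (by
      intro p hp hbp
      exact h.three Px.n1 Px.n2 hb Px.comm (hC b hbC).1.symm (hC b hbC).2.symm Px.ne hb4
        (hp _ (Or.inl rfl)) (hp _ (Or.inr rfl)) hbp Py.f1 Py.f2 hby)
  have hc4 : c ∈ four z₁ z₂ := Px.mem_four h Py hxy hcc (hC c hcC).1 (hC c hcC).2 hcx hcy
  rcases hcase with hD | ⟨u, huC, huu, hau, hbu, hux, huy⟩
  · exfalso
    have hcN := h.ng_of_two hxy hcc hc1 hcx hcy
    exact (h.mulN hb hcN hby hcy hbc (fun e => hb4 (e ▸ hc4))).2.2 hD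
  · exact ⟨u, huC, hux, huy, by rw [huu]; exact hc4, by rw [huu]; exact hc1, hau, hbu⟩

theorem Pr.last [Finite G] (h : Ctx F φ) {z₁ z₂ a s u : G} {x y : G ⧸ φ.range}
    (Px : Pr F φ z₁ z₂ x) (Py : Pr F φ z₁ z₂ y) (hxy : x ≠ y) (haa : a * a = 1)
    (ha1 : a * z₁ = z₁ * a) (ha2 : a * z₂ = z₂ * a) (has : a * s = s * a)
    (hs1 : s * z₁ = z₁ * s) (hs2 : s * z₂ = z₂ * s) (hu1 : u * z₁ = z₁ * u)
    (hu2 : u * z₂ = z₂ * u) (hsu : s * u = u * s) (hsx : s • x = x) (hsy : s • y = y)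
    (hux : u • x = x) (huy : u • y = y) (hsq : s * s = u * u) (hu4 : u * u ∈ four z₁ z₂)
    (hne : u * u ≠ 1) (hau : a * u * a = u⁻¹) : False := by
  have huuuu : u * u * (u * u) = 1 := by
    have e1 : z₁ * (z₁ * z₂) = z₂ := by rw [← mul_assoc, Px.n1.1, one_mul]
    have e2 : z₁ * z₂ * (z₁ * z₂) = 1 := by
      rw [mul_assoc, Px.comm, ← mul_assoc z₂ z₂, Px.n2.1, one_mul, Px.n1.1]
    rcases hu4 with e | e | e | e
    · rw [e, one_mul]
    · rw [e]; exact Px.n1.1
    · rw [e]; exact Px.n2.1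
    · rw [e]; exact e2
  have h1 : s * u * (s * u) = 1 := by
    calc s * u * (s * u) = s * (u * s) * u := by group
      _ = (s * s) * (u * u) := by rw [← hsu]; group
      _ = 1 := by rw [hsq, huuuu]
  have h2 : s * u ∈ four z₁ z₂ := by
    apply Px.mem_four h Py hxy h1
    · rw [mul_assoc, hu1, ← mul_assoc, hs1, mul_assoc]
    · rw [mul_assoc, hu2, ← mul_assoc, hs2, mul_assoc]
    · rw [mul_smul, hux, hsx]
    · rw [mul_smul, huy, hsy]
  have h3 := comm_of_mem_four ha1 ha2 h2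
  have h4 : a * u = u * a := by
    have : s * (a * u) = s * (u * a) := by
      calc s * (a * u) = (s * a) * u := by group
        _ = a * (s * u) := by rw [← has]; group
        _ = s * (u * a) := by rw [h3]; group
    exact mul_left_cancel this
  have h5 : u = u⁻¹ := by
    calc u = u * (a * a) := by rw [haa, mul_one]
      _ = a * u * a := by rw [h4]; group
      _ = u⁻¹ := hau
  apply hne
  nth_rewrite 1 [h5]
  exact inv_mul_cancel _

/-- the elements of `Stab x` commuting with `z₁`, `z₂` -/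
theorem em_comm (h : Ctx F φ) (g : G) {k l : K} (hkl : em φ g k * em φ g l = em φ g l * em φ g k) :
    k * l = l * k := by
  rw [← map_mul, ← map_mul] at hkl
  exact h.em_inj g hkl

theorem Pr.local_zero (h : Ctx F φ) {z₁ z₂ : G} {x : G ⧸ φ.range} (Px : Pr F φ z₁ z₂ x) :
    ∃ a b : G, (a ∈ D F φ ∧ a • x = x ∧ a * z₁ = z₁ * a ∧ a * z₂ = z₂ * a) ∧
      (NG F φ b ∧ b ∉ four z₁ z₂ ∧ b • x = x ∧ b * z₁ = z₁ * b ∧ b * z₂ = z₂ * b) := by
  obtain ⟨g, rfl, hW⟩ := h.at_two Px.n1 Px.n2 Px.f1 Px.f2 Px.comm Px.ne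
  obtain ⟨k₁, hk₁⟩ := (smul_iff g z₁).1 Px.f1
  obtain ⟨k₂, hk₂⟩ := (smul_iff g z₂).1 Px.f2
  have hk₁W : k₁ ∈ F.W := (hW k₁).1 (by rw [hk₁]; exact Or.inr (Or.inl rfl))
  have hk₂W : k₂ ∈ F.W := (hW k₂).1 (by rw [hk₂]; exact Or.inr (Or.inr (Or.inl rfl)))
  refine ⟨em φ g F.t, em φ g F.z, ⟨?_, (smul_iff g _).2 ⟨_, rfl⟩, ?_, ?_⟩,
    ⟨?_, ?_, (smul_iff g _).2 ⟨_, rfl⟩, ?_, ?_⟩⟩
  · rw [h.em_mem_D]
  · rw [← hk₁, ← map_mul, ← map_mul, F.Fa _ (W_le F hk₁W)]
  · rw [← hk₂, ← map_mul, ← map_mul, F.Fa _ (W_le F hk₂W)]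
  · rw [h.nd_iff]; exact F.z_nd
  · rw [hW]; exact F.z_notin
  · rw [← hk₁, ← map_mul, ← map_mul, F.comm_Y3 _ (mem_Y3_z F) _ (W_le F hk₁W)]
  · rw [← hk₂, ← map_mul, ← map_mul, F.comm_Y3 _ (mem_Y3_z F) _ (W_le F hk₂W)]

theorem Pr.local_one (h : Ctx F φ) {z₁ z₂ u : G} {x : G ⧸ φ.range} (Px : Pr F φ z₁ z₂ x)
    (hux : u • x = x) (hu1 : u * z₁ = z₁ * u) (hu2 : u * z₂ = z₂ * u) (hu4 : u * u ∈ four z₁ z₂)
    (hne : u * u ≠ 1) :
    ∃ a b : G, (a ∈ D F φ ∧ a • x = x ∧ a * z₁ = z₁ * a ∧ a * z₂ = z₂ * a ∧ a * u = u * a) ∧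
      (NG F φ b ∧ b ∉ four z₁ z₂ ∧ b • x = x ∧ b * z₁ = z₁ * b ∧ b * z₂ = z₂ * b ∧
        b * u = u * b) := by
  obtain ⟨g, rfl, hW⟩ := h.at_two Px.n1 Px.n2 Px.f1 Px.f2 Px.comm Px.ne
  obtain ⟨k₁, hk₁⟩ := (smul_iff g z₁).1 Px.f1
  obtain ⟨k₂, hk₂⟩ := (smul_iff g z₂).1 Px.f2
  obtain ⟨m, rfl⟩ := (smul_iff g u).1 hux
  have hk₁W : k₁ ∈ F.W := (hW k₁).1 (by rw [hk₁]; exact Or.inr (Or.inl rfl))
  have hk₂W : k₂ ∈ F.W := (hW k₂).1 (by rw [hk₂]; exact Or.inr (Or.inr (Or.inl rfl)))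
  have hmW : ∀ k ∈ F.W, m * k = k * m := by
    intro k hk
    exact em_comm h g (comm_of_mem_four hu1 hu2 ((hW k).2 hk))
  rw [← map_mul, hW] at hu4
  obtain ⟨a, b, ha, haW, ham, hb, hbW, hbcW, hbm⟩ := F.Gb m hmW hu4 (fun e => hne (by
    rw [← map_mul, e, map_one]))
  refine ⟨em φ g a, em φ g b, ⟨?_, (smul_iff g _).2 ⟨_, rfl⟩, ?_, ?_, ?_⟩,
    ⟨?_, ?_, (smul_iff g _).2 ⟨_, rfl⟩, ?_, ?_, ?_⟩⟩
  · rw [h.em_mem_D]; exact ha
  · rw [← hk₁, ← map_mul, ← map_mul, haW _ hk₁W]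
  · rw [← hk₂, ← map_mul, ← map_mul, haW _ hk₂W]
  · rw [← map_mul, ← map_mul, ham]
  · rw [h.nd_iff]; exact hb
  · rw [hW]; exact hbW
  · rw [← hk₁, ← map_mul, ← map_mul, hbcW _ hk₁W]
  · rw [← hk₂, ← map_mul, ← map_mul, hbcW _ hk₂W]
  · rw [← map_mul, ← map_mul, hbm]

theorem Pr.local_two (h : Ctx F φ) {z₁ z₂ u u' s : G} {x : G ⧸ φ.range} (Px : Pr F φ z₁ z₂ x)
    (hux : u • x = x) (hu1 : u * z₁ = z₁ * u) (hu2 : u * z₂ = z₂ * u) (hu4 : u * u ∈ four z₁ z₂)
    (hne : u * u ≠ 1) (hux' : u' • x = x) (hu1' : u' * z₁ = z₁ * u') (hu2' : u' * z₂ = z₂ * u')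
    (hu4' : u' * u' ∈ four z₁ z₂) (hne' : u' * u' ≠ 1) (huu : u * u' = u' * u)
    (hdif : u * u ≠ u' * u') (hsx : s • x = x) (hs1 : s * z₁ = z₁ * s) (hs2 : s * z₂ = z₂ * s)
    (hss : s * s = 1) (hs4 : s ∉ four z₁ z₂) (hsu : s * u = u * s) (hsu' : s * u' * s = u'⁻¹) :
    ∃ a b : G, (a ∈ D F φ ∧ a • x = x ∧ a * z₁ = z₁ * a ∧ a * z₂ = z₂ * a ∧ a * u = u * a ∧
      a * u' = u' * a) ∧
      (NG F φ b ∧ b ∉ four z₁ z₂ ∧ b • x = x ∧ b * z₁ = z₁ * b ∧ b * z₂ = z₂ * b ∧
        b * u = u * b ∧ b * u' = u' * b) := by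
  obtain ⟨g, rfl, hW⟩ := h.at_two Px.n1 Px.n2 Px.f1 Px.f2 Px.comm Px.ne
  obtain ⟨k₁, hk₁⟩ := (smul_iff g z₁).1 Px.f1
  obtain ⟨k₂, hk₂⟩ := (smul_iff g z₂).1 Px.f2
  obtain ⟨m, rfl⟩ := (smul_iff g u).1 hux
  obtain ⟨m', rfl⟩ := (smul_iff g u').1 hux'
  obtain ⟨n, rfl⟩ := (smul_iff g s).1 hsx
  have hk₁W : k₁ ∈ F.W := (hW k₁).1 (by rw [hk₁]; exact Or.inr (Or.inl rfl))
  have hk₂W : k₂ ∈ F.W := (hW k₂).1 (by rw [hk₂]; exact Or.inr (Or.inr (Or.inl rfl)))
  have hi := h.em_inj g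
  have hmW : ∀ k ∈ F.W, m * k = k * m := fun k hk =>
    em_comm h g (comm_of_mem_four hu1 hu2 ((hW k).2 hk))
  have hmW' : ∀ k ∈ F.W, m' * k = k * m' := fun k hk =>
    em_comm h g (comm_of_mem_four hu1' hu2' ((hW k).2 hk))
  have hnW : ∀ k ∈ F.W, n * k = k * n := fun k hk =>
    em_comm h g (comm_of_mem_four hs1 hs2 ((hW k).2 hk))
  rw [← map_mul, hW] at hu4 hu4'
  rw [hW] at hs4
  obtain ⟨a, b, ha, haW, ham, ham', hb, hbW, hbcW, hbm, hbm'⟩ := F.Gc m m' n hmW hmW' hnW
    (em_comm h g huu) hu4 (fun e => hne (by rw [← map_mul, e, map_one])) hu4'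
    (fun e => hne' (by rw [← map_mul, e, map_one]))
    (fun e => hdif (by rw [← map_mul, e, map_mul]))
    (hi (by rw [map_mul, hss, map_one])) hs4 (em_comm h g hsu)
    (hi (by rw [map_mul, map_mul, hsu', map_inv]))
  refine ⟨em φ g a, em φ g b, ⟨?_, (smul_iff g _).2 ⟨_, rfl⟩, ?_, ?_, ?_, ?_⟩,
    ⟨?_, ?_, (smul_iff g _).2 ⟨_, rfl⟩, ?_, ?_, ?_, ?_⟩⟩
  · rw [h.em_mem_D]; exact ha
  · rw [← hk₁, ← map_mul, ← map_mul, haW _ hk₁W]
  · rw [← hk₂, ← map_mul, ← map_mul, haW _ hk₂W]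
  · rw [← map_mul, ← map_mul, ham]
  · rw [← map_mul, ← map_mul, ham']
  · rw [h.nd_iff]; exact hb
  · rw [hW]; exact hbW
  · rw [← hk₁, ← map_mul, ← map_mul, hbcW _ hk₁W]
  · rw [← hk₂, ← map_mul, ← map_mul, hbcW _ hk₂W]
  · rw [← map_mul, ← map_mul, hbm]
  · rw [← map_mul, ← map_mul, hbm']

theorem four_third {z₁ z₂ p q r : G} (h1 : z₁ * z₁ = 1) (h2 : z₂ * z₂ = 1)
    (h12 : z₁ * z₂ = z₂ * z₁) (hp : p ∈ four z₁ z₂) (hp1 : p ≠ 1) (hq : q ∈ four z₁ z₂)
    (hq1 : q ≠ 1) (hr : r ∈ four z₁ z₂) (hr1 : r ≠ 1) (hpq : p ≠ q) :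
    r = p ∨ r = q ∨ r = p * q := by
  have e1 : z₁ * (z₁ * z₂) = z₂ := by rw [← mul_assoc, h1, one_mul]
  have e2 : z₂ * (z₁ * z₂) = z₁ := by rw [h12, ← mul_assoc, h2, one_mul]
  have e3 : z₁ * z₂ * z₁ = z₂ := by rw [h12, mul_assoc, h1, mul_one]
  have e4 : z₁ * z₂ * z₂ = z₁ := by rw [mul_assoc, h2, mul_one]
  rcases hp with rfl | rfl | rfl | rfl
  · exact absurd rfl hp1
  all_goals
    rcases hq with rfl | rfl | rfl | rfl
    · exact absurd rfl hq1
  all_goals
    rcases hr with rfl | rfl | rfl | rfl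
    · exact absurd rfl hr1
  all_goals first
    | exact absurd rfl hpq
    | exact Or.inl rfl
    | exact Or.inr (Or.inl rfl)
    | exact Or.inr (Or.inr rfl)
    | exact Or.inr (Or.inr h12)
    | exact Or.inr (Or.inr e1.symm)
    | exact Or.inr (Or.inr e2.symm)
    | exact Or.inr (Or.inr e3.symm)
    | exact Or.inr (Or.inr e4.symm)

/-- STEP 2 -/
theorem Ctx.two [Finite G] (h : Ctx F φ) {z₁ z₂ : G} {x y : G ⧸ φ.range}
    (Px : Pr F φ z₁ z₂ x) (Py : Pr F φ z₁ z₂ y) : x = y := by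
  by_contra hxy
  have hcc : ∀ (T : Set G) (c : G), c ∈ Subgroup.centralizer T ↔ ∀ s ∈ T, c * s = s * c := by
    intro T c
    rw [Subgroup.mem_centralizer_iff]
    exact ⟨fun h s hs => (h s hs).symm, fun h s hs => (h s hs).symm⟩
  -- (1)
  obtain ⟨a, -, ⟨ha, hax, ha1, ha2⟩, -⟩ := Px.local_zero h
  obtain ⟨-, b, -, ⟨hb, hb4, hby, hb1, hb2⟩⟩ := Py.local_zero h
  obtain ⟨u, huC, hux, huy, hu4, hune, -, -⟩ := Px.step h Py hxy
    (Subgroup.centralizer ({z₁, z₂} : Set G)) (fun c hc => ⟨(hcc _ c).1 hc _ (Or.inl rfl),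
      (hcc _ c).1 hc _ (Or.inr rfl)⟩) ha hb
    ((hcc _ a).2 (by rintro s (rfl | rfl); exacts [ha1, ha2]))
    ((hcc _ b).2 (by rintro s (rfl | rfl); exacts [hb1, hb2])) hax hby hb4
  have hu1 := (hcc _ u).1 huC z₁ (Or.inl rfl)
  have hu2 := (hcc _ u).1 huC z₂ (Or.inr rfl)
  -- (2)
  obtain ⟨a', -, ⟨ha', hax', ha1', ha2', hau'⟩, -⟩ := Px.local_one h hux hu1 hu2 hu4 hune
  obtain ⟨-, b', -, ⟨hb', hb4', hby', hb1', hb2', hbu'⟩⟩ := Py.local_one h huy hu1 hu2 hu4 hune
  obtain ⟨v, hvC, hvx, hvy, hv4, hvne, hav, hbv⟩ := Px.step h Py hxy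
    (Subgroup.centralizer ({z₁, z₂, u} : Set G)) (fun c hc => ⟨(hcc _ c).1 hc _ (Or.inl rfl),
      (hcc _ c).1 hc _ (Or.inr (Or.inl rfl))⟩) ha' hb'
    ((hcc _ a').2 (by rintro s (rfl | rfl | rfl); exacts [ha1', ha2', hau']))
    ((hcc _ b').2 (by rintro s (rfl | rfl | rfl); exacts [hb1', hb2', hbu'])) hax' hby' hb4'
  have hv1 := (hcc _ v).1 hvC z₁ (Or.inl rfl)
  have hv2 := (hcc _ v).1 hvC z₂ (Or.inr (Or.inl rfl))
  have hvu := (hcc _ v).1 hvC u (Or.inr (Or.inr rfl))
  have hdif : u * u ≠ v * v := fun e =>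
    Px.last h Py hxy (D_sq ha') ha1' ha2' hau' hu1 hu2 hv1 hv2 hvu.symm hux huy hvx hvy e hv4 hvne hav
  have ha4' : a' ∉ four z₁ z₂ := by
    intro hh
    rcases hh with e | e | e | e
    · apply F.t_ne
      have h1 := ha'
      rw [e] at h1
      obtain ⟨c, hc⟩ := isConj_iff.1 h1
      apply h.inj
      rw [map_one]
      calc φ F.t = c⁻¹ * (c * φ F.t * c⁻¹) * c := by group
        _ = 1 := by rw [hc]; group
    · exact Px.n1.2.2 (e ▸ ha')
    · exact Px.n2.2.2 (e ▸ ha')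
    · exact (h.mulN Px.n1 Px.n2 Px.f1 Px.f2 Px.comm Px.ne).2.2 (e ▸ ha')
  -- (3)
  obtain ⟨a₂, -, ⟨ha₂, hax₂, ha1₂, ha2₂, hau₂, hav₂⟩, -⟩ := Px.local_two h hux hu1 hu2 hu4 hune hvx
    hv1 hv2 hv4 hvne hvu.symm hdif hax' ha1' ha2' (D_sq ha') ha4' hau' hav
  obtain ⟨-, b₂, -, ⟨hb₂, hb4₂, hby₂, hb1₂, hb2₂, hbu₂, hbv₂⟩⟩ := Py.local_two h huy hu1 hu2 hu4
    hune hvy hv1 hv2 hv4 hvne hvu.symm hdif hby' hb1' hb2' hb'.1 hb4' hbu' hbv
  obtain ⟨w, hwC, hwx, hwy, hw4, hwne, haw, -⟩ := Px.step h Py hxy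
    (Subgroup.centralizer ({z₁, z₂, u, v} : Set G)) (fun c hc => ⟨(hcc _ c).1 hc _ (Or.inl rfl),
      (hcc _ c).1 hc _ (Or.inr (Or.inl rfl))⟩) ha₂ hb₂
    ((hcc _ a₂).2 (by rintro s (rfl | rfl | rfl | rfl); exacts [ha1₂, ha2₂, hau₂, hav₂]))
    ((hcc _ b₂).2 (by rintro s (rfl | rfl | rfl | rfl); exacts [hb1₂, hb2₂, hbu₂, hbv₂]))
    hax₂ hby₂ hb4₂
  have hw1 := (hcc _ w).1 hwC z₁ (Or.inl rfl)
  have hw2 := (hcc _ w).1 hwC z₂ (Or.inr (Or.inl rfl))
  have hwu := (hcc _ w).1 hwC u (Or.inr (Or.inr (Or.inl rfl)))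
  have hwv := (hcc _ w).1 hwC v (Or.inr (Or.inr (Or.inr rfl)))
  rcases four_third Px.n1.1 Px.n2.1 Px.comm hu4 hune hv4 hvne hw4 hwne hdif with e | e | e
  · exact Px.last h Py hxy (D_sq ha₂) ha1₂ ha2₂ hau₂ hu1 hu2 hw1 hw2 hwu.symm hux huy hwx hwy e.symm
      hw4 hwne haw
  · exact Px.last h Py hxy (D_sq ha₂) ha1₂ ha2₂ hav₂ hv1 hv2 hw1 hw2 hwv.symm hvx hvy hwx hwy e.symm
      hw4 hwne haw
  · refine Px.last (s := u * v) h Py hxy (D_sq ha₂) ha1₂ ha2₂ ?_ ?_ ?_ hw1 hw2 ?_ ?_ ?_ hwx hwy ?_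
      hw4 hwne haw
    · rw [← mul_assoc, hau₂, mul_assoc, hav₂, mul_assoc]
    · rw [mul_assoc, hv1, ← mul_assoc, hu1, mul_assoc]
    · rw [mul_assoc, hv2, ← mul_assoc, hu2, mul_assoc]
    · rw [mul_assoc, ← hwv, ← mul_assoc, ← hwu, mul_assoc]
    · rw [mul_smul, hvx, hux]
    · rw [mul_smul, hvy, huy]
    · rw [e]
      calc u * v * (u * v) = u * (v * u) * v := by group
        _ = u * (u * v) * v := by rw [hvu]
        _ = u * u * (v * v) := by group

/-! ### Step 1 -/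

theorem Ctx.eq_of_one [Finite G] (h : Ctx F φ) {z s : G} {x y : G ⧸ φ.range} (hxy : x ≠ y)
    (hz : NG F φ z) (hzx : z • x = x) (hzy : z • y = y) (hss : s * s = 1) (hs1 : s ≠ 1)
    (hsz : s * z = z * s) (hsx : s • x = x) (hsy : s • y = y) : s = z := by
  by_contra hne
  have hs := h.ng_of_two hxy hss hs1 hsx hsy
  exact hxy (h.two (z₁ := s) (z₂ := z) ⟨hs, hz, hsz, hne, hsx, hzx⟩ ⟨hs, hz, hsz, hne, hsy, hzy⟩)

theorem Ctx.step_one [Finite G] (h : Ctx F φ) {z : G} {x y : G ⧸ φ.range} (hxy : x ≠ y)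
    (hz : NG F φ z) (hzx : z • x = x) (hzy : z • y = y) (C : Subgroup G)
    (hC : ∀ c ∈ C, c * z = z * c) {a b : G} (ha : a ∈ D F φ) (hb : NG F φ b) (haC : a ∈ C)
    (hbC : b ∈ C) (hax : a • x = x) (hby : b • y = y) (hbz : b ≠ z) :
    ∃ u ∈ C, u • x = x ∧ u • y = y ∧ u * u = z ∧ a * u * a = u⁻¹ := by
  obtain ⟨c, hcC, hc1, hcc, hcx, hcy, hbc, hcase⟩ := DihStep.step (D := D F φ)
    (fun d hd e he => D_conj hd he) h.one ({z} : Set G) C (by
      rintro c hc s rfl
      exact hC c hc) ha hb.2.2 (D_sq ha) hb.1 haC hbC hax hby (by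
      rintro s rfl
      exact hzy) (by
      intro p hp hbp
      exact h.two (z₁ := b) (z₂ := z) ⟨hb, hz, hC b hbC, hbz, hbp, hp z rfl⟩
        ⟨hb, hz, hC b hbC, hbz, hby, hzy⟩)
  have hcz : c = z := h.eq_of_one hxy hz hzx hzy hcc hc1 (hC c hcC) hcx hcy
  rcases hcase with hD | ⟨u, huC, huu, hau, -, hux, huy⟩
  · exfalso
    rw [hcz] at hD hbc
    exact (h.mulN hb hz hby hzy hbc hbz).2.2 hD
  · exact ⟨u, huC, hux, huy, by rw [huu, hcz], hau⟩

theorem Ctx.local_one (h : Ctx F φ) {z : G} {x : G ⧸ φ.range} (hz : NG F φ z) (hzx : z • x = x) :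
    ∃ a b : G, (a ∈ D F φ ∧ a • x = x ∧ a * z = z * a) ∧
      (NG F φ b ∧ b ≠ z ∧ b • x = x ∧ b * z = z * b) := by
  obtain ⟨g, rfl, rfl⟩ := h.at_one hz hzx
  refine ⟨em φ g F.t, em φ g F.w, ⟨?_, (smul_iff g _).2 ⟨_, rfl⟩, ?_⟩,
    ⟨?_, ?_, (smul_iff g _).2 ⟨_, rfl⟩, ?_⟩⟩
  · rw [h.em_mem_D]
  · rw [← map_mul, ← map_mul, F.Fa _ (W_le F (mem_W_v F))]
  · rw [h.nd_iff]; exact F.w_nd
  · intro e
    exact F.v_ne_w (h.em_inj g e).symm
  · rw [← map_mul, ← map_mul, F.v_w]

theorem Ctx.local_four (h : Ctx F φ) {u : G} {x : G ⧸ φ.range} (hux : u • x = x)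
    (hu4 : u * u * (u * u) = 1) (hne : u * u ≠ 1) :
    ∃ a b : G, (a ∈ D F φ ∧ a • x = x ∧ a * u = u * a) ∧
      (NG F φ b ∧ b ≠ u * u ∧ b • x = x ∧ b * u = u * b) := by
  induction x using QuotientGroup.induction_on with
  | H g =>
    obtain ⟨m, rfl⟩ := (smul_iff g u).1 hux
    have hi := h.em_inj g
    obtain ⟨-, ⟨a, ha, ham⟩, b, hb, hbne, hbm⟩ := F.Fd m (hi (by
      rw [map_mul, map_mul, hu4, map_one])) (fun e => hne (by rw [← map_mul, e, map_one]))
    refine ⟨em φ g a, em φ g b, ⟨?_, (smul_iff g _).2 ⟨_, rfl⟩, ?_⟩,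
      ⟨?_, ?_, (smul_iff g _).2 ⟨_, rfl⟩, ?_⟩⟩
    · rw [h.em_mem_D]; exact ha
    · rw [← map_mul, ← map_mul, ham]
    · rw [h.nd_iff]; exact hb
    · rw [← map_mul]
      intro e
      exact hbne (hi e)
    · rw [← map_mul, ← map_mul, hbm]

/-- STEP 1 -/
theorem Ctx.one' [Finite G] (h : Ctx F φ) {z : G} {x y : G ⧸ φ.range} (hz : NG F φ z)
    (hzx : z • x = x) (hzy : z • y = y) : x = y := by
  by_contra hxy
  have hcc : ∀ (T : Set G) (c : G), c ∈ Subgroup.centralizer T ↔ ∀ s ∈ T, c * s = s * c := by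
    intro T c
    rw [Subgroup.mem_centralizer_iff]
    exact ⟨fun h s hs => (h s hs).symm, fun h s hs => (h s hs).symm⟩
  obtain ⟨a, -, ⟨ha, hax, haz⟩, -⟩ := h.local_one hz hzx
  obtain ⟨-, b, -, ⟨hb, hbz, hby, hbz'⟩⟩ := h.local_one hz hzy
  obtain ⟨u, -, hux, huy, huu, -⟩ := h.step_one hxy hz hzx hzy (Subgroup.centralizer ({z} : Set G))
    (fun c hc => (hcc _ c).1 hc _ rfl) ha hb ((hcc _ a).2 (by rintro s rfl; exact haz))
    ((hcc _ b).2 (by rintro s rfl; exact hbz')) hax hby hbz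
  have hu4 : u * u * (u * u) = 1 := by rw [huu, hz.1]
  have hune : u * u ≠ 1 := by rw [huu]; exact hz.2.1
  obtain ⟨a', -, ⟨ha', hax', hau'⟩, -⟩ := h.local_four hux hu4 hune
  obtain ⟨-, b', -, ⟨hb', hbu', hby', hbc'⟩⟩ := h.local_four huy hu4 hune
  have hCz : ∀ c ∈ Subgroup.centralizer ({u} : Set G), c * z = z * c := by
    intro c hc
    have h1 := (hcc _ c).1 hc u rfl
    rw [← huu, ← mul_assoc, h1, mul_assoc, h1, mul_assoc]
  obtain ⟨v, hvC, hvx, hvy, hvv, hav⟩ := h.step_one hxy hz hzx hzy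
    (Subgroup.centralizer ({u} : Set G)) hCz ha' hb' ((hcc _ a').2 (by rintro s rfl; exact hau'))
    ((hcc _ b').2 (by rintro s rfl; exact hbc')) hax' hby' (by rw [← huu]; exact hbu')
  have hvu := (hcc _ v).1 hvC u rfl
  have haz' := hCz a' ((hcc _ a').2 (by rintro s rfl; exact hau'))
  have haa := D_sq ha'
  -- `(u v)² = 1`
  have huv : u * v * (u * v) = 1 := by
    calc u * v * (u * v) = u * (v * u) * v := by group
      _ = u * (u * v) * v := by rw [hvu]
      _ = u * u * (v * v) := by group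
      _ = 1 := by rw [huu, hvv, hz.1]
  have hcase : u * v = 1 ∨ u * v = z := by
    by_cases h1 : u * v = 1
    · exact Or.inl h1
    · right
      refine h.eq_of_one hxy hz hzx hzy huv h1 ?_ ?_ ?_
      · rw [← huu]
        calc u * v * (u * u) = u * (v * u) * u := by group
          _ = u * (u * v) * u := by rw [hvu]
          _ = u * u * (v * u) := by group
          _ = u * u * (u * v) := by rw [hvu]
      · rw [mul_smul, hvx, hux]
      · rw [mul_smul, hvy, huy]
  have hauv : a' * (u * v) = u * v * a' := by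
    rcases hcase with e | e
    · rw [e, mul_one, one_mul]
    · rw [e, haz']
  have h4 : a' * v = v * a' := by
    have : u * (a' * v) = u * (v * a') := by
      calc u * (a' * v) = (u * a') * v := by group
        _ = a' * (u * v) := by rw [← hau']; group
        _ = u * (v * a') := by rw [hauv]; group
    exact mul_left_cancel this
  have h5 : v = v⁻¹ := by
    calc v = v * (a' * a') := by rw [haa, mul_one]
      _ = a' * v * a' := by rw [h4]; group
      _ = v⁻¹ := hav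
  apply hz.2.1
  rw [← hvv]
  nth_rewrite 1 [h5]
  exact inv_mul_cancel _

/-! ### Step 0 -/

theorem Ctx.all [Finite G] (h : Ctx F φ) (x y : G ⧸ φ.range) : x = y := by
  by_contra hxy
  induction x using QuotientGroup.induction_on with
  | H g =>
    induction y using QuotientGroup.induction_on with
    | H k =>
      have ha : em φ g F.t ∈ D F φ := by rw [h.em_mem_D]
      have hb : NG F φ (em φ k F.v) := by rw [h.nd_iff]; exact F.v_nd
      have hax : em φ g F.t • (QuotientGroup.mk g : G ⧸ φ.range) = QuotientGroup.mk g :=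
        (smul_iff g _).2 ⟨_, rfl⟩
      have hby : em φ k F.v • (QuotientGroup.mk k : G ⧸ φ.range) = QuotientGroup.mk k :=
        (smul_iff k _).2 ⟨_, rfl⟩
      obtain ⟨c, -, hc1, hcc, hcx, hcy, -, -⟩ := DihStep.step (D := D F φ)
        (fun d hd e he => D_conj hd he) h.one (∅ : Set G) (⊤ : Subgroup G) (by
          rintro c - s hs
          exact absurd hs (Set.notMem_empty s)) ha hb.2.2 (D_sq ha) hb.1 (Subgroup.mem_top _)
        (Subgroup.mem_top _) hax hby (by
          rintro s hs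
          exact absurd hs (Set.notMem_empty s)) (by
          intro p _ hbp
          exact h.one' hb hbp hby)
      exact hxy (h.one' (h.ng_of_two hxy hcc hc1 hcx hcy) hcx hcy)

end

/-- THE CLOSING. -/
theorem range_eq_top [Finite G] (F : Facts K) (φ : K →* G) (inj : Function.Injective φ)
    (cent : ∀ g : G, g * φ F.t = φ F.t * g → g ∈ φ.range)
    (fus : ∀ k : K, IsConj (φ F.t) (φ k) → IsConj F.t k) : φ.range = ⊤ := by
  have h : Ctx F φ := ⟨inj, cent, fus⟩
  rw [Subgroup.eq_top_iff']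
  intro g
  have h1 := h.all (QuotientGroup.mk g) (QuotientGroup.mk 1)
  rw [QuotientGroup.eq] at h1
  have h2 := φ.range.inv_mem h1
  simpa using h2

end Cfsg.Agent.CoThreeStd.CloseH
end

-- part: CoThreeStd/Core/Main
section
/-!
# S1750: from the centraliser `C_G(t) = D × ⟨t⟩ × M₁₂` (core `D`) to `G = Co₃` (helper122)
-/

set_option autoImplicit false

namespace Cfsg.Agent.CoThreeStd.Core

open Cfsg Cfsg.Agent.CoThreeStd.MTwelve Cfsg.Agent.CoThreeStd.Fusion Cfsg.Agent.CoThreeStd.InvTwo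
  Cfsg.Agent.LeechPack.X552 Cfsg.Agent.CoThreeStd.Model Cfsg.Agent.CoThreeStd.Parity

universe u

/-- Parts [A] and [B]: the group generated by `C(t)` and `g₀` is `Co₃`. -/
def BetaIso : Prop :=
  ∀ {Γ : Type u} [Group Γ] [Finite Γ] {t : Γ} {ι : H →* Γ} (_ : Ctx t ι) {g0 : Γ}
    (_ : g0 * t * g0⁻¹ = ι y) (_ : g0 * ι y * g0⁻¹ = t * ι y),
    ∃ φ : G3 →* Γ, Function.Injective φ ∧ φ (m 0) = t ∧ ∀ g, g * t = t * g → g ∈ φ.range

section exact

variable {Γ : Type u} [Group Γ] {t : Γ} {ι : H →* Γ}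

/-- the 2A-involutions are conjugate to `t` -/
theorem conj_y [Finite Γ] {inner 𝒟 : Γ → Prop} (P : PD t inner 𝒟) (hin : ∀ m, inner (t * ι m))
    (c : Ctx t ι) : IsConj t (ι y) := by
  by_contra h2
  have hB := conj_t_mul_b P hin c inv2 isB_pr
  by_cases h1 : IsConj t (t * ι y)
  · exact Gamma.gamma_false_pd P c h1 h2 (not_conj_b c inv2 isB_pr)
  · exact Delta.delta_false c hB h2 h1

theorem nd_pr {K : Type*} [Group K] {t0 j : K} {φ : K →* Γ} (c : Ctx t ι) (hφ : Function.Injective φ)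
    (h0 : φ t0 = t) (hj : φ j = ι (p * r)) : HFacts.Nd t0 j := by
  refine ⟨?_, ?_, ?_⟩
  · apply hφ
    rw [map_mul, hj, ← map_mul, pr_sq, map_one, map_one]
  · intro h1
    rw [h1, map_one] at hj
    exact pr_ne (c.inj (by rw [← hj, map_one]))
  · intro h1
    have h2 := MonoidHom.map_isConj φ h1
    rw [hj, h0] at h2
    exact not_conj_b c inv2 isB_pr h2

theorem conj_of_nd {K : Type*} [Group K] (F : HFacts.Facts K) {a b : K} (ha : HFacts.Nd F.t a)
    (hb : HFacts.Nd F.t b) : IsConj a b := by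
  obtain ⟨u, hu⟩ := F.F0 a ha
  obtain ⟨w, hw⟩ := F.F0 b hb
  refine (isConj_iff.2 ⟨u⁻¹, by rw [inv_inv]; exact hu⟩ : IsConj a F.v).trans ?_
  exact (isConj_iff.2 ⟨w⁻¹, by rw [inv_inv]; exact hw⟩ : IsConj b F.v).symm

/-- `Γ = Co₃` -/
theorem exists_equiv [Finite Γ] (hβ : BetaIso.{u}) {inner 𝒟 : Γ → Prop} (P : PD t inner 𝒟)
    (hin : ∀ m, inner (t * ι m)) (c : Ctx t ι) : ∃ e : G3 ≃* Γ, e (m 0) = t := by
  have hB : ∀ b, InvTwo.IsB b → IsConj t (t * ι b) := fun b hb => conj_t_mul_b P hin c inv2 hb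
  obtain ⟨g0, h1, h2⟩ := exists_three c inv2 hB isA_y (conj_y P hin c)
  obtain ⟨φ, hφ, h0, hr⟩ := hβ c h1 h2
  have htop : φ.range = ⊤ := by
    apply CloseH.range_eq_top HInst.facts φ hφ
    · intro g hg
      rw [HInst.facts_t, h0] at hg
      exact hr g hg
    · intro k hk
      rw [HInst.facts_t, h0] at hk
      by_contra hne
      obtain ⟨j, hj⟩ := hr (ι (p * r)) (c.comm _)
      have hkk : k * k = 1 := by
        apply hφ
        obtain ⟨g, hg⟩ := isConj_iff.1 hk
        rw [map_mul, map_one, ← hg]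
        calc g * t * g⁻¹ * (g * t * g⁻¹) = g * (t * t) * g⁻¹ := by group
          _ = 1 := by rw [c.tt]; group
      have hk1 : k ≠ 1 := by
        rintro rfl
        rw [map_one, isConj_one_left] at hk
        exact c.t_ne hk
      have hndj : HFacts.Nd HInst.facts.t j := nd_pr c hφ (by rw [HInst.facts_t, h0]) hj
      have h3 := MonoidHom.map_isConj φ (conj_of_nd HInst.facts ⟨hkk, hk1, hne⟩ hndj)
      have h4 := hk.trans h3
      rw [hj] at h4
      exact not_conj_b c inv2 isB_pr h4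
  exact ⟨MulEquiv.ofBijective φ ⟨hφ, MonoidHom.range_eq_top.1 htop⟩, h0⟩

end exact

section core

variable {G : Type u} [Group G] {t : G} {ι : H →* G} {D : Subgroup G} {Γ : Type u} [Group Γ]
  {π : Subgroup.normalizer (D : Set G) →* Γ}

/-- `C_G(t) = D × ⟨t⟩ × ι M` -/
theorem cent_form (h : Cen Ain t ι D) {g : G} (hg : g * t = t * g) :
    ∃ d ∈ D, ∃ m, g = d * ι m ∨ g = d * (t * ι m) := by
  obtain ⟨τ, ⟨m, hm⟩, hτ⟩ := h.act g hg
  have h1 : ∀ x, g * ι m⁻¹ * ι x = ι x * (g * ι m⁻¹) := by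
    intro x
    have key : ∀ z, g * ι z = ι (m * z * m⁻¹) * g := by
      intro z
      rw [← hm, ← hτ]
      group
    calc g * ι m⁻¹ * ι x = g * ι (m⁻¹ * x) := by rw [mul_assoc, ← map_mul]
      _ = ι (x * m⁻¹) * g := by rw [key]; congr 2; group
      _ = ι x * (ι (m * m⁻¹ * m⁻¹) * g) := by
        rw [mul_inv_cancel, one_mul, ← mul_assoc, ← map_mul]
      _ = _ := by rw [← key]
  have h2 : g * ι m⁻¹ * t = t * (g * ι m⁻¹) := by
    rw [mul_assoc, h.comm, ← mul_assoc, hg, mul_assoc]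
  have e1 : ι m⁻¹ * ι m = 1 := by rw [← map_mul, inv_mul_cancel, map_one]
  rcases h.ker _ h2 h1 with h3 | h3
  · exact ⟨_, h3, m, Or.inl (by rw [mul_assoc, e1, mul_one])⟩
  · refine ⟨_, h3, m, Or.inr ?_⟩
    rw [← h2]
    calc g = g * (ι m⁻¹ * ι m) * (t * t) := by rw [e1, h.tt, mul_one, mul_one]
      _ = g * ι m⁻¹ * (ι m * t) * t := by simp only [mul_assoc]
      _ = g * ι m⁻¹ * (t * ι m) * t := by rw [h.comm]
      _ = g * ι m⁻¹ * t * (ι m * t) := by simp only [mul_assoc]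
      _ = _ := by rw [h.comm]

theorem ctx_sec (h : Cen Ain t ι D) (S : Sec D _ π) : Ctx (π h.tH) (π.comp h.ιH) where
  inj := by
    rw [injective_iff_map_eq_one]
    intro m hm
    exact h.eq_one_of_mem mfacts_in ((S.ker _).1 hm)
  tt := by
    rw [← map_mul]
    have : h.tH * h.tH = 1 := Subtype.ext h.tt
    rw [this, map_one]
  t_ne := fun h1 => h.t_notMem ((S.ker _).1 h1)
  comm := by
    intro m
    rw [MonoidHom.comp_apply, ← map_mul, ← map_mul]
    congr 1
    exact Subtype.ext (h.comm m)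
  nmem := by
    intro m h1
    rw [MonoidHom.comp_apply, S.eq_iff] at h1
    apply h.eq_one_of_mem_t mfacts_in (m := m⁻¹)
    rw [← h.comm, map_inv]
    exact h1
  cent := by
    intro x hx
    obtain ⟨k, hk, rfl⟩ := h.lift_comm S (a := h.tH) h.tt hx
    obtain ⟨d, hd, m, h1⟩ := cent_form h hk
    refine ⟨m, ?_⟩
    rcases h1 with h1 | h1
    · left
      rw [MonoidHom.comp_apply, eq_comm, S.eq_iff, h1]
      show (ι m)⁻¹ * (d * ι m) ∈ D
      have : (ι m)⁻¹ * (d * ι m) = d := by rw [h.DM d hd, inv_mul_cancel_left]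
      rwa [this]
    · right
      rw [MonoidHom.comp_apply, ← map_mul, eq_comm, S.eq_iff, h1]
      show (t * ι m)⁻¹ * (d * (t * ι m)) ∈ D
      have : (t * ι m)⁻¹ * (d * (t * ι m)) = d := by
        have h3 := h.Dt d hd
        have h4 := h.DM d hd m
        calc (t * ι m)⁻¹ * (d * (t * ι m)) = (t * ι m)⁻¹ * (d * t * ι m) := by group
          _ = (t * ι m)⁻¹ * (t * (d * ι m)) := by rw [h3]; group
          _ = (t * ι m)⁻¹ * (t * ι m * d) := by rw [h4]; group
          _ = d := by group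
      rwa [this]

/-- the section `N_G(D)/D` -/
theorem sec_mk (D : Subgroup G) : Sec D (Subgroup.normalizer (D : Set G))
    (QuotientGroup.mk' (D.subgroupOf (Subgroup.normalizer (D : Set G)))) where
  surj := QuotientGroup.mk'_surjective _
  ker := by
    intro k
    show ((k : _ ⧸ D.subgroupOf (Subgroup.normalizer (D : Set G)))) = 1 ↔ _
    rw [QuotientGroup.eq_one_iff, Subgroup.mem_subgroupOf]

/-- **`G = Co₃` in the inner case.** -/
theorem isoCo3_of_cen [Finite G] [IsSimpleGroup G] (hG : ∀ K : Subgroup G, K.index ≠ 2)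
    (hβ : BetaIso.{u}) (h : Cen Ain t ι D) : Spor.IsoCo3 G := by
  classical
  set π := QuotientGroup.mk' (D.subgroupOf (Subgroup.normalizer (D : Set G))) with hπ
  have S : Sec D _ π := sec_mk D
  have c := ctx_sec h S
  have P := h.pd hG mfacts_in S
  have hin : ∀ m, h.inn π (π h.tH * (π.comp h.ιH) m) := fun m => ⟨m, Or.inr rfl⟩
  obtain ⟨e, he⟩ := exists_equiv hβ P hin c
  -- the facts for `N_G(D)`
  set π' : Subgroup.normalizer (D : Set G) →* G3 := e.symm.toMonoidHom.comp π with hπ'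
  have hsurj : Function.Surjective π' := e.symm.surjective.comp S.surj
  have hker : ∀ k, π' k = 1 ↔ (k : G) ∈ D := by
    intro k
    rw [← S.ker]
    show e.symm (π k) = 1 ↔ _
    rw [EmbeddingLike.map_eq_one_iff]
  have hodd : Odd (Nat.card π'.ker) := by
    apply odd_card_of
    intro x
    rw [← Subgroup.orderOf_coe, ← Subgroup.orderOf_coe]
    exact odd_orderOf h.odd ((hker _).1 x.2)
  have htt : h.tH * h.tH = 1 := Subtype.ext h.tt
  have ht' : π' h.tH = HInst.facts.t := by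
    show e.symm (π h.tH) = _
    rw [HInst.facts_t, ← he, e.symm_apply_apply]
  obtain ⟨F', hF'⟩ := FactsLift.exists_facts hsurj hodd HInst.facts htt ht'
  have htop : (Subgroup.subtype (Subgroup.normalizer (D : Set G))).range = ⊤ := by
    apply CloseH.range_eq_top F' _ (Subgroup.subtype_injective _)
    · intro g hg
      rw [hF'] at hg
      exact ⟨⟨g, h.le_normalizer hg⟩, rfl⟩
    · intro k hk
      rw [hF'] at hk ⊢
      by_contra hne
      have hkk : k * k = 1 := Subtype.ext (h.sq_of_isConj hk)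
      have hk1 : k ≠ 1 := by
        rintro rfl
        obtain ⟨g, hg⟩ := isConj_iff.1 hk
        change g * t * g⁻¹ = 1 at hg
        rw [mul_inv_eq_one, mul_eq_left] at hg
        exact h.t_ne hg
      set s := h.ιH (p * r) with hs
      have hss : s * s = 1 := by rw [hs, ← map_mul, pr_sq, map_one]
      have hns : ¬ IsConj h.tH s := by
        intro h1
        have h2 := MonoidHom.map_isConj π h1
        exact not_conj_b c inv2 isB_pr h2
      have hs1 : s ≠ 1 := by
        intro h1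
        apply pr_ne
        apply h.inj
        rw [map_one]
        exact congrArg Subtype.val h1
      have h2 := conj_of_nd F' (a := k) (b := s) (by rw [hF']; exact ⟨hkk, hk1, hne⟩)
        (by rw [hF']; exact ⟨hss, hs1, hns⟩)
      have h3 := MonoidHom.map_isConj (Subgroup.subtype (Subgroup.normalizer (D : Set G))) h2
      obtain ⟨g, hg⟩ := isConj_iff.1 (hk.trans h3)
      have hgN : g ∈ Subgroup.normalizer (D : Set G) :=
        h.balance mfacts_in ⟨p * r, Or.inl hg⟩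
      exact hns (isConj_iff.2 ⟨⟨g, hgN⟩, Subtype.ext hg⟩)
  rw [Subgroup.range_subtype] at htop
  have hnormal : D.Normal := Subgroup.normalizer_eq_top_iff.1 htop
  have hD : D = ⊥ := by
    rcases hnormal.eq_bot_or_eq_top with h1 | h1
    · exact h1
    · exfalso
      apply h.t_notMem
      rw [h1]
      trivial
  have hinj : Function.Injective π := by
    rw [injective_iff_map_eq_one]
    intro k hk
    have h1 := (S.ker k).1 hk
    have h2 : (k : G) ∈ (⊥ : Subgroup G) := hD ▸ h1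
    exact Subtype.ext (Subgroup.mem_bot.1 h2)
  obtain ⟨e3⟩ := isoCo3_G3
  have e1 : G ≃* Subgroup.normalizer (D : Set G) :=
    Subgroup.topEquiv.symm.trans (MulEquiv.subgroupCongr htop.symm)
  exact ⟨e1.trans ((MulEquiv.ofBijective π ⟨hinj, S.surj⟩).trans (e.symm.trans e3))⟩

end core

end Cfsg.Agent.CoThreeStd.Core
end
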